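import Cfsg.Agent.Lib.Linear.AschU.General

/-!
# Decompositions involving planes over the field with four elements

Every isometry of a unitary plane over the field with four elements is monomial.
-/

set_option autoImplicit false
set_option linter.unusedSectionVars false
set_option linter.style.haveILetI false

namespace Cfsg.Lib.Linear.AschU

open Cfsg.Geo Cfsg.Lib.Linear Cfsg.Lib.Linear.Herm Cfsg.Lib.Linear.Asch
open scoped Matrix MatrixGroups Kronecker

variable {F : Type*} [Field F] [Fintype F] {n : ℕ}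

theorem norm_fixed_eq_one (hF : Fintype.card F = 2 ^ 2) {c : F} (hc0 : c ≠ 0) (hfix : c ^ 2 = c) : c = 1 :=
  mul_left_cancel₀ hc0 (by rw [mul_one, ← sq, hfix])

theorem one_add_one (hF : Fintype.card F = 2 ^ 2) : (1 : F) + 1 = 0 := by
  rw [← two_zero hF]; norm_num

/-- A unit vector of the plane has one coordinate. -/
theorem unit_two (hF : Fintype.card F = 2 ^ 2) {x y : F} (h : x * x ^ 2 + y * y ^ 2 = 1) :
    (x ≠ 0 ∧ y = 0) ∨ (x = 0 ∧ y ≠ 0) := by
  have hs : ∀ x : F, x ≠ 0 → x * x ^ 2 = 1 := fun x hx => by rw [← cube_eq_one hF hx]; ring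
  rcases eq_or_ne x 0 with hx | hx <;> rcases eq_or_ne y 0 with hy | hy
  · simp [hx, hy] at h
  · exact Or.inr ⟨hx, hy⟩
  · exact Or.inl ⟨hx, hy⟩
  · rw [hs x hx, hs y hy, one_add_one hF] at h
    exact absurd h zero_ne_one

/-- A stabiliser of a decomposition into planes stabilises one into lines. -/
theorem planes_to_lines (hF : Fintype.card F = 2 ^ 2) {t : ℕ} {D : Fin t → Submodule F (Fin n → F)}
    (hD : IsNondegenerateMDecomposition (Cfsg.hermForm n F 2) 2 D) (hc : t * 2 = n)
    {H : Subgroup (GL (Fin n) F)} (hH : H ≤ Cfsg.GU n F 2) (hle : H ≤ decompositionStabilizer D) :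
    ∃ D' : Fin n → Submodule F (Fin n → F), IsNondegenerateMDecomposition (Cfsg.hermForm n F 2) 1 D' ∧
      H ≤ decompositionStabilizer D' := by
  classical
  have hU := herm_unitary (n := n) hF
  have hf := isSesq_of_unitary hU
  have hunit : ∀ v : Fin n → F, Cfsg.hermForm n F 2 v v ≠ 0 → Cfsg.hermForm n F 2 v v = 1 := fun v hv =>
    norm_fixed_eq_one hF hv (by rw [← sigmaE_apply hF, ← hU.herm])
  have hzero_left : ∀ v : Fin n → F, Cfsg.hermForm n F 2 0 v = 0 := fun v => by
    rw [← zero_smul F (0 : Fin n → F), hf.smul_left, zero_mul]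
  -- an orthonormal pair in each plane
  have hpair : ∀ i, ∃ a b : Fin n → F, a ∈ D i ∧ b ∈ D i ∧ Cfsg.hermForm n F 2 a a = 1 ∧
      Cfsg.hermForm n F 2 b b = 1 ∧ Cfsg.hermForm n F 2 a b = 0 ∧
      ∀ v ∈ D i, v = Cfsg.hermForm n F 2 v a • a + Cfsg.hermForm n F 2 v b • b := by
    intro i
    obtain ⟨a, ha, haa⟩ : ∃ a ∈ D i, Cfsg.hermForm n F 2 a a ≠ 0 := by
      by_contra hall
      push Not at hall
      have hne : D i ≠ ⊥ := fun e => by
        have := hD.decomp.finrank_eq i
        rw [e, finrank_bot] at this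
        omega
      obtain ⟨u, hu, hu0⟩ := Submodule.exists_mem_ne_zero_of_ne_bot hne
      obtain ⟨x, hx, hxu⟩ := (hD.nondegenerate i u hu hu0).1
      obtain ⟨w, hw⟩ : ∃ w : F, sigmaE hF w ≠ w := by
        by_contra h
        push Not at h
        exact sigmaE_ne hF (RingEquiv.ext h)
      have h1 := hall (u + (w / Cfsg.hermForm n F 2 x u) • x) (add_mem hu ((D i).smul_mem _ hx))
      rw [hf.add_left, hf.add_right, hf.add_right, hf.smul_left, hf.smul_left, hf.smul_right, hf.smul_right,
        hall u hu, hall x hx, hU.herm u x, ← map_mul, div_mul_cancel₀ _ hxu] at h1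
      simp only [mul_zero, add_zero, zero_add] at h1
      exact hw (by linear_combination h1 - w * two_zero hF)
    replace haa := hunit a haa
    obtain ⟨b', hb', hb'a⟩ : ∃ b ∈ D i, b ∉ Submodule.span F {a} := by
      by_contra hall
      push Not at hall
      have h1 := Submodule.finrank_mono (show D i ≤ Submodule.span F {a} from hall)
      have h2 := (finrank_span_le_card (R := F) ({a} : Set (Fin n → F)))
      rw [hD.decomp.finrank_eq i] at h1
      simp at h2
      omega
    set b := b' - Cfsg.hermForm n F 2 b' a • a with hb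
    have hbD : b ∈ D i := sub_mem hb' ((D i).smul_mem _ ha)
    have hba : Cfsg.hermForm n F 2 b a = 0 := by
      rw [hb, sub_eq_add_neg, ← neg_smul, hf.add_left, hf.smul_left, haa, mul_one, add_neg_cancel]
    have hab : Cfsg.hermForm n F 2 a b = 0 := by rw [hU.herm, hba, map_zero]
    have hb0 : b ≠ 0 := fun h => hb'a (by
      rw [sub_eq_zero] at h
      exact Submodule.mem_span_singleton.2 ⟨_, h.symm⟩)
    have hexp : ∀ v ∈ D i, ∃ x y : F, v = x • a + y • b := by
      have hli : LinearIndependent F ![a, b] := by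
        rw [LinearIndependent.pair_iff' (fun e => by rw [e, hzero_left] at haa; exact zero_ne_one haa)]
        intro c hcb
        refine hb0 ?_
        have h1 : Cfsg.hermForm n F 2 b a = c := by rw [← hcb, hf.smul_left, haa, mul_one]
        rw [hba] at h1
        rw [← hcb, ← h1, zero_smul]
      have hle' : Submodule.span F (Set.range ![a, b]) ≤ D i := by
        rw [Submodule.span_le]
        rintro _ ⟨k, rfl⟩
        fin_cases k
        · exact ha
        · exact hbD
      have heq := Submodule.eq_of_le_of_finrank_le hle' (by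
        rw [hD.decomp.finrank_eq i, finrank_span_eq_card hli, Fintype.card_fin])
      intro v hv
      rw [← heq, Submodule.mem_span_range_iff_exists_fun] at hv
      obtain ⟨c, rfl⟩ := hv
      exact ⟨c 0, c 1, by simp [Fin.sum_univ_two]⟩
    have hbb : Cfsg.hermForm n F 2 b b = 1 := hunit b fun h => by
      obtain ⟨x, hx, hxb⟩ := (hD.nondegenerate i b hbD hb0).1
      obtain ⟨u, w, rfl⟩ := hexp x hx
      rw [hf.add_left, hf.smul_left, hf.smul_left, hab, h, mul_zero, mul_zero, add_zero] at hxb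
      exact hxb rfl
    refine ⟨a, b, ha, hbD, haa, hbb, hab, fun v hv => ?_⟩
    obtain ⟨x, y, rfl⟩ := hexp v hv
    simp [hf.add_left, hf.smul_left, haa, hbb, hab, hba]
  choose a b ha hb haa hbb hab hexp using hpair
  let pick : Fin t × Fin 2 → (Fin n → F) := fun s => if s.2 = 0 then a s.1 else b s.1
  have hpmem : ∀ s, pick s ∈ D s.1 := fun s => by simp only [pick]; split_ifs; exacts [ha _, hb _]
  have hpone : ∀ s, Cfsg.hermForm n F 2 (pick s) (pick s) = 1 := fun s => by
    simp only [pick]; split_ifs; exacts [haa _, hbb _]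
  have hporth : ∀ s s', s ≠ s' → Cfsg.hermForm n F 2 (pick s) (pick s') = 0 := by
    rintro ⟨i, u⟩ ⟨i', u'⟩ hne
    by_cases hii : i = i'
    · subst hii
      fin_cases u <;> fin_cases u'
      · exact absurd rfl hne
      · exact hab i
      · show Cfsg.hermForm n F 2 (b i) (a i) = 0
        rw [hU.herm, hab, map_zero]
      · exact absurd rfl hne
    · exact hD.orthogonal i i' hii _ (hpmem (i, u)) _ (hpmem (i', u'))
  -- unit vectors in a plane are multiples of the pair
  have hclass : ∀ i, ∀ v ∈ D i, Cfsg.hermForm n F 2 v v = 1 → ∃ (c : F) (u : Fin 2), v = c • pick (i, u) := by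
    intro i v hv hvv
    have he := hexp i v hv
    set x := Cfsg.hermForm n F 2 v (a i)
    set y := Cfsg.hermForm n F 2 v (b i)
    have hnorm : x * x ^ 2 + y * y ^ 2 = 1 := by
      rw [he] at hvv
      simp only [hf.add_left, hf.add_right, hf.smul_left, hf.smul_right, haa, hbb, hab, hU.herm (b i) (a i),
        map_zero, mul_zero, add_zero, zero_add, mul_one, sigmaE_apply] at hvv
      exact hvv
    rcases unit_two hF hnorm with ⟨-, hy⟩ | ⟨hx, -⟩
    · exact ⟨x, 0, by rw [he, hy, zero_smul, add_zero]; rfl⟩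
    · exact ⟨y, 1, by rw [he, hx, zero_smul, zero_add]; rfl⟩
  let e : Fin n ≃ Fin t × Fin 2 := (finCongr hc.symm).trans finProdFinEquiv.symm
  let D' : Fin n → Submodule F (Fin n → F) := fun k => Submodule.span F {pick (e k)}
  have hne0 : ∀ s, pick s ≠ 0 := fun s h => by
    have h1 := hpone s
    rw [h, hzero_left] at h1
    exact zero_ne_one h1
  have hli : LinearIndependent F fun k => pick (e k) := by
    rw [Fintype.linearIndependent_iff]
    intro c hc' k
    have hsum : ∀ (s : Finset (Fin n)) (w : Fin n → F),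
        Cfsg.hermForm n F 2 (∑ j ∈ s, c j • pick (e j)) w = ∑ j ∈ s, c j * Cfsg.hermForm n F 2 (pick (e j)) w := by
      intro s w
      induction s using Finset.induction with
      | empty => simp [hzero_left]
      | insert j s hj ih => rw [Finset.sum_insert hj, Finset.sum_insert hj, hf.add_left, hf.smul_left, ih]
    have h1 := hsum Finset.univ (pick (e k))
    rw [hc', hzero_left, Finset.sum_eq_single k (fun j _ hj => by rw [hporth _ _ (e.injective.ne hj), mul_zero])
      (fun h => absurd (Finset.mem_univ _) h), hpone, mul_one] at h1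
    exact h1.symm
  have hD' : IsMDecomposition 1 D' := by
    refine ⟨?_, one_pos, fun k => finrank_span_singleton (hne0 _), hli.iSupIndep_span_singleton, ?_⟩
    · have := hD.decomp.two_le
      omega
    · rw [← Submodule.span_range_eq_iSup]
      exact hli.span_eq_top_of_card_eq_finrank' (by simp)
  refine ⟨D', ⟨hD', fun k w hw hw0 => ?_, fun k k' hk u hu v hv => ?_⟩, fun g hg => ?_⟩
  · obtain ⟨c, rfl⟩ := Submodule.mem_span_singleton.1 hw
    have hc0 : c ≠ 0 := fun h => hw0 (by rw [h, zero_smul])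
    refine ⟨⟨pick (e k), Submodule.mem_span_singleton_self _, ?_⟩, ⟨pick (e k), Submodule.mem_span_singleton_self _, ?_⟩⟩
    · rw [hf.smul_right, hpone, mul_one]; exact fun h => hc0 (by simpa using h)
    · rw [hf.smul_left, hpone, mul_one]; exact hc0
  · obtain ⟨c, rfl⟩ := Submodule.mem_span_singleton.1 hu
    obtain ⟨c', rfl⟩ := Submodule.mem_span_singleton.1 hv
    rw [hf.smul_left, hf.smul_right, hporth _ _ (e.injective.ne hk), mul_zero, mul_zero]
  · obtain ⟨σ, hσ⟩ := hle hg
    have himg : ∀ k, ∃ k', ∃ c : F, g.val *ᵥ pick (e k) = c • pick (e k') := by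
      intro k
      obtain ⟨c, u, hcu⟩ := hclass (σ (e k).1) (g.val *ᵥ pick (e k))
        (by rw [← hσ]; exact ⟨_, hpmem _, Matrix.toLin'_apply _ _⟩) ((hH hg _ _).trans (hpone _))
      exact ⟨e.symm (σ (e k).1, u), c, by rw [e.apply_symm_apply]; exact hcu⟩
    choose π c hπ using himg
    have hc0 : ∀ k, c k ≠ 0 := fun k h => move_ne_zero g (hne0 (e k)) (by rw [hπ, h, zero_smul])
    have hinj : Function.Injective π := fun k k' h => by
      by_contra hne
      have h1 := hporth _ _ (e.injective.ne hne)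
      rw [← (hH hg : g ∈ Cfsg.GU n F 2) (pick (e k)) (pick (e k'))] at h1
      change Cfsg.hermForm n F 2 (g.val *ᵥ pick (e k)) (g.val *ᵥ pick (e k')) = 0 at h1
      rw [hπ, hπ, h, hf.smul_left, hf.smul_right, hpone, mul_one] at h1
      rcases mul_eq_zero.1 h1 with h2 | h2
      · exact hc0 k h2
      · exact hc0 k' (by simpa using h2)
    refine ⟨Equiv.ofBijective π ⟨hinj, Finite.injective_iff_surjective.1 hinj⟩, fun k => ?_⟩
    rw [Submodule.map_span, Set.image_singleton, Matrix.toLin'_apply, hπ]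
    exact Submodule.span_singleton_smul_eq (IsUnit.mk0 _ (hc0 k)) _

/-- A stabiliser of a tensor decomposition with a plane stabilises a perpendicular pair of subspaces. -/
theorem tensor_plane_to_orth (hF : Fintype.card F = 2 ^ 2) {k : ℕ} (hk : 2 ≤ k) (e : Fin n ≃ Fin 2 × Fin k)
    {P : GL (Fin n) F} (hP : P ∈ Cfsg.GU n F 2) {H : Subgroup (GL (Fin n) F)} (hH : H ≤ Cfsg.GU n F 2)
    (hle : H ≤ tensorProductSubgroup 2 k e P) :
    ∃ D : Fin 2 → Submodule F (Fin n → F), IsNondegenerateMDecomposition (Cfsg.hermForm n F 2) k D ∧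
      H ≤ decompositionStabilizer D := by
  classical
  have hU := herm_unitary (n := n) hF
  have hf := isSesq_of_unitary hU
  let emb : Fin 2 → (Fin k → F) →ₗ[F] (Fin n → F) := fun i =>
    (Matrix.toLin' P.val).comp
      ({ toFun := fun w j => if (e j).1 = i then w (e j).2 else 0
         map_add' := fun u w => funext fun j => by simp only [Pi.add_apply]; split_ifs <;> simp
         map_smul' := fun c w => funext fun j => by simp only [Pi.smul_apply, RingHom.id_apply, smul_eq_mul]; split_ifs <;> simp } :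
        (Fin k → F) →ₗ[F] (Fin n → F))
  have hemb : ∀ i w, emb i w = P.val *ᵥ fun j => if (e j).1 = i then w (e j).2 else 0 := fun i w => rfl
  have hPf : ∀ x y, Cfsg.hermForm n F 2 (P.val *ᵥ x) (P.val *ᵥ y) = Cfsg.hermForm n F 2 x y := hP
  have hinj : ∀ i, Function.Injective (emb i) := fun i u w h => funext fun x => by
    have h1 := congrArg ((P⁻¹).val *ᵥ ·) h
    simp only [hemb, inv_mulVec_mulVec] at h1
    simpa using congrFun h1 (e.symm (i, x))
  have horth : ∀ i i', i ≠ i' → ∀ u w, Cfsg.hermForm n F 2 (emb i u) (emb i' w) = 0 := fun i i' hne u w => by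
    rw [hemb, hemb, hPf]
    refine Finset.sum_eq_zero fun j _ => ?_
    dsimp only
    by_cases hj : (e j).1 = i
    · rw [if_neg (fun h : (e j).1 = i' => hne (hj.symm.trans h)), zero_pow two_ne_zero, mul_zero]
    · rw [if_neg hj, zero_mul]
  have hsame : ∀ i u w, Cfsg.hermForm n F 2 (emb i u) (emb i w) = Cfsg.hermForm k F 2 u w := fun i u w => by
    rw [hemb, hemb, hPf, Cfsg.hermForm, Cfsg.hermForm]
    rw [← Equiv.sum_comp e.symm, Fintype.sum_prod_type, Finset.sum_eq_single i
      (fun i' _ hi' => Finset.sum_eq_zero fun x _ => by simp [hi'])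
      (fun h => absurd (Finset.mem_univ _) h)]
    exact Finset.sum_congr rfl fun x _ => by simp
  have hsum : ∀ v, v = emb 0 (fun x => ((P⁻¹).val *ᵥ v) (e.symm (0, x))) +
      emb 1 (fun x => ((P⁻¹).val *ᵥ v) (e.symm (1, x))) := fun v => by
    rw [hemb, hemb, ← Matrix.mulVec_add]
    conv_lhs => rw [← mulVec_inv_mulVec P v]
    congr 1
    funext j
    obtain ⟨⟨i, x⟩, rfl⟩ := e.symm.surjective j
    fin_cases i <;> simp
  let D : Fin 2 → Submodule F (Fin n → F) := fun i => LinearMap.range (emb i)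
  refine ⟨D, ⟨⟨le_rfl, by omega, fun i => ?_, ?_, ?_⟩, fun i w hw hw0 => ?_, fun i i' hii => ?_⟩, fun g hg => ?_⟩
  · rw [LinearMap.finrank_range_of_inj (hinj i), Module.finrank_fin_fun]
  · rw [iSupIndep_pair (i := 0) (j := 1) (by decide) (fun i => by fin_cases i <;> simp), Submodule.disjoint_def]
    rintro _ ⟨u, rfl⟩ ⟨w, hw⟩
    by_contra hne
    obtain ⟨x, hx⟩ := (herm_unitary (n := k) hF).nondegenerate u (fun h => hne (by rw [h, map_zero])) |>.2
    rw [← hsame 0, ← hw, horth 1 0 (by decide)] at hx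
    exact hx rfl
  · rw [eq_top_iff]
    intro v _
    rw [hsum v]
    exact add_mem (Submodule.mem_iSup_of_mem 0 ⟨_, rfl⟩) (Submodule.mem_iSup_of_mem 1 ⟨_, rfl⟩)
  · obtain ⟨u, rfl⟩ := hw
    have hu0 : u ≠ 0 := fun h => hw0 (by rw [h, map_zero])
    obtain ⟨⟨x, hx⟩, ⟨y, hy⟩⟩ := (herm_unitary (n := k) hF).nondegenerate u hu0
    exact ⟨⟨emb i x, ⟨x, rfl⟩, by rwa [hsame]⟩, ⟨emb i y, ⟨y, rfl⟩, by rwa [hsame]⟩⟩
  · rintro _ ⟨u, rfl⟩ _ ⟨w, rfl⟩
    exact horth i i' hii u w
  · obtain ⟨_, ⟨X, ⟨a, b, hX⟩, rfl⟩, hXg⟩ := hle hg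
    have hgU : adjt hF X.val * X.val = 1 := (frameHom_mem_GU hF e hP X).1 (hXg ▸ hH hg)
    rw [hX, adjt_kron, ← Matrix.mul_kronecker_mul] at hgU
    obtain ⟨c, hc0, hca, -⟩ := kron_eq_one (d := 2) (k := k) (by omega) (by omega) hgU
    have hcfix : c ^ 2 = c := by
      have h2 := congrArg (adjt hF) hca
      rw [adjt_mul, adjt_adjt, hca, adjt_smul, adjt_one, sigmaE_apply] at h2
      exact (smul_left_injective F one_ne_zero h2).symm
    rw [norm_fixed_eq_one hF hc0 hcfix, one_smul] at hca
    have hcol : ∀ i, ∃ i', a.val i' i ≠ 0 ∧ ∀ l, l ≠ i' → a.val l i = 0 := by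
      intro i
      have h1 := congrFun (congrFun hca i) i
      rw [Matrix.mul_apply, Fin.sum_univ_two, adjt_apply, adjt_apply, Matrix.one_apply_eq, mul_comm (_ ^ 2),
        mul_comm (_ ^ 2)] at h1
      rcases unit_two hF h1 with ⟨h0, h⟩ | ⟨h, h0⟩
      · exact ⟨0, h0, fun l hl => by fin_cases l; exacts [absurd rfl hl, h]⟩
      · exact ⟨1, h0, fun l hl => by fin_cases l; exacts [h, absurd rfl hl]⟩
    choose π hπ0 hπ using hcol
    have hinjπ : Function.Injective π := by
      intro i i' h
      by_contra hne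
      have h1 := congrFun (congrFun hca i) i'
      rw [Matrix.mul_apply, Fin.sum_univ_two, adjt_apply, adjt_apply, Matrix.one_apply_ne hne] at h1
      have hz : ∀ l, l ≠ π i → a.val l i = 0 ∧ a.val l i' = 0 := fun l hl => ⟨hπ i l hl, hπ i' l (h ▸ hl)⟩
      have hpi : π i = 0 ∨ π i = 1 := by generalize π i = x; fin_cases x <;> simp
      rcases hpi with hp | hp
      · rw [(hz 1 (by rw [hp]; decide)).1, zero_pow two_ne_zero, zero_mul, add_zero] at h1
        exact (mul_ne_zero (pow_ne_zero 2 (hp ▸ hπ0 i)) (hp ▸ h ▸ hπ0 i')) h1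
      · rw [(hz 0 (by rw [hp]; decide)).1, zero_pow two_ne_zero, zero_mul, zero_add] at h1
        exact (mul_ne_zero (pow_ne_zero 2 (hp ▸ hπ0 i)) (hp ▸ h ▸ hπ0 i')) h1
    refine ⟨Equiv.ofBijective π ⟨hinjπ, Finite.injective_iff_surjective.1 hinjπ⟩, fun i => ?_⟩
    refine Submodule.eq_of_le_of_finrank_le ?_ (le_of_eq ?_)
    · rintro _ ⟨_, ⟨w, rfl⟩, rfl⟩
      refine ⟨a.val (π i) i • (b.val *ᵥ w), ?_⟩
      show emb (π i) _ = _
      rw [Matrix.toLin'_apply, hemb, hemb, ← hXg]
      show P.val *ᵥ _ = (P.val * X.val.submatrix e e * (P⁻¹).val) *ᵥ _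
      rw [← Matrix.mulVec_mulVec, inv_mulVec_mulVec, ← Matrix.mulVec_mulVec]
      congr 1
      funext j
      obtain ⟨⟨l, x⟩, rfl⟩ := e.symm.surjective j
      simp only [Matrix.mulVec, dotProduct, Matrix.submatrix_apply, e.apply_symm_apply, Pi.smul_apply,
        smul_eq_mul, hX]
      rw [← Equiv.sum_comp e.symm, Fintype.sum_prod_type, Finset.sum_eq_single i
        (fun i' _ hi' => Finset.sum_eq_zero fun y _ => by simp [hi'])
        (fun h => absurd (Finset.mem_univ _) h)]
      simp only [e.apply_symm_apply, if_true, Matrix.kronecker_apply]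
      split_ifs with hl
      · rw [hl, Finset.mul_sum]; exact Finset.sum_congr rfl fun y _ => by ring
      · simp [hπ i l hl]
    · rw [show (D i).map (Matrix.toLin' g.val) = move g (D i) from rfl, finrank_move,
        LinearMap.finrank_range_of_inj (hinj _), LinearMap.finrank_range_of_inj (hinj _)]

end Cfsg.Lib.Linear.AschU
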