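import Cfsg.Agent.Lib.Linear.AschU.Rational
import Cfsg.Agent.Lib.Linear.AschSp.Descent
import Cfsg.Agent.Lib.Linear.AschGen.Six

/-!
# Normal subgroups of symplectic type in a unitary group
-/

set_option autoImplicit false
set_option linter.unusedSectionVars false
set_option linter.style.haveILetI false

namespace Cfsg.Lib.Linear.AschU

open Cfsg.Geo Cfsg.Lib.Linear Cfsg.Lib.Linear.Herm Cfsg.Lib.Linear.Asch
open Cfsg.Lib.Linear.AschGen (Six)
open scoped Matrix MatrixGroups commutatorElement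

variable {F : Type*} [Field F] [Fintype F] {q n : ℕ}

/-- The data of a member of class six of the unitary group. -/
structure SixData (q : ℕ) (R : Subgroup (GL (Fin n) F)) (r p e k : ℕ) : Prop where
  symp : IsSymplecticTypeGroup r R
  absIrr : ActsAbsolutelyIrreducibly (matrixSet R)
  sim : R ≤ similarityGroup (Cfsg.hermForm n F q)
  ne : r ≠ p
  minimal : IsMinimalFieldFor (Nat.card (Subgroup.center R)) p e F
  card : (Odd r ∧ Nat.card (Subgroup.center R) = r ∧ 1 ≤ k ∧ Nat.card R = r ^ (1 + 2 * k)) ∨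
    (r = 2 ∧ e = 2 ∧ Nat.card (Subgroup.center R) = 4 ∧ Nat.card R = 2 ^ (2 + 2 * k))
  dim : n = r ^ k
  comm : ⁅R, R⁆ ≤ scalars (Fin n) F
  unitary : R ≤ Cfsg.GU n F q
  pow : ∀ x ∈ R, x ^ r ∈ scalars (Fin n) F

/-- In an absolutely irreducible group abelian modulo scalars non-central elements have trace zero. -/
theorem trace_eq_zero_of_noncentral {R : Subgroup (GL (Fin n) F)} (hR : ActsAbsolutelyIrreducibly (matrixSet R))
    (hc : ⁅R, R⁆ ≤ scalars (Fin n) F) {x : GL (Fin n) F} (hx : x ∈ R) (hxs : x ∉ scalars (Fin n) F) :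
    x.val.trace = 0 := by
  rcases isEmpty_or_nonempty (Fin n) with h | h
  · simp [Matrix.trace]
  obtain ⟨y, hy, hyx⟩ : ∃ y ∈ R, x * y ≠ y * x := by
    by_contra hne
    push Not at hne
    exact hxs (absIrr_center hR hne)
  obtain ⟨c, hcv⟩ := (mem_scalars_iff _).1 (hc (Subgroup.commutator_mem_commutator hy hx))
  have he : y * x * y⁻¹ = ⁅y, x⁆ * x := by rw [commutatorElement_def]; group
  have h1 := congrArg (fun g : GL (Fin n) F => g.val.trace) he
  simp only [Units.val_mul, hcv, Matrix.smul_mul, Matrix.one_mul, Matrix.trace_smul, smul_eq_mul] at h1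
  rw [Matrix.trace_mul_cycle, ← Units.val_mul, inv_mul_cancel, Units.val_one, Matrix.one_mul] at h1
  have hc1 : (c : F) ≠ 1 := fun e => hyx (by
    have h2 : ⁅y, x⁆ = 1 := Units.ext (by rw [hcv, e, one_smul, Units.val_one])
    exact (commutatorElement_eq_one_iff_mul_comm.1 h2).symm)
  refine (mul_eq_zero.1 (?_ : ((c : F) - 1) * x.val.trace = 0)).resolve_left (sub_ne_zero.2 hc1)
  linear_combination -h1

/-- A normal subgroup of symplectic type gives a member of class five or six. -/
theorem six_cases (hF : Fintype.card F = q ^ 2) (hn : 2 ≤ n) {H R : Subgroup (GL (Fin n) F)}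
    (hH : H ≤ Cfsg.GU n F q) {r m : ℕ} (h6 : Six H R r m) :
    SubfieldAlt n q H ∨ ∃ p e, SixData q R r p e m ∧ H ≤ subgroupNormalizer R := by
  classical
  haveI : Nonempty (Fin n) := ⟨⟨0, by omega⟩⟩
  have hR : R ≤ Cfsg.GU n F q := h6.sub.le.trans hH
  obtain ⟨p, hp⟩ := CharP.exists F
  haveI := hp
  haveI : Fact p.Prime := ⟨CharP.char_is_prime F p⟩
  obtain ⟨f, -, hf⟩ := FiniteField.card F p
  set z := Nat.card (Subgroup.center R) with hz
  have hzdvd : z ∣ p ^ (f : ℕ) - 1 := by
    have h1 : z = Nat.card (scalars (Fin n) F ⊓ R : Subgroup _) := by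
      rw [hz, h6.center_eq, ← Subgroup.inf_subgroupOf_right]
      exact Nat.card_congr (Subgroup.subgroupOfEquivOfLe inf_le_right).toEquiv
    have h2 : Nat.card (scalars (Fin n) F) = p ^ (f : ℕ) - 1 := by
      rw [show scalars (Fin n) F = (Units.map (Matrix.scalar (Fin n) : F →+* _).toMonoidHom).range from rfl,
        Nat.card_congr (MonoidHom.ofInjective (Units.map_injective (Function.LeftInverse.injective (g := fun M : Matrix (Fin n) (Fin n) F => M ⟨0, by omega⟩ ⟨0, by omega⟩) fun a => by simp))).symm.toEquiv,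
        Nat.card_units, Nat.card_eq_fintype_card, hf]
    rw [h1, ← h2]
    exact Subgroup.card_dvd_of_le inf_le_left
  have hex : ∃ d, 0 < d ∧ z ∣ p ^ d - 1 := ⟨f, f.pos, hzdvd⟩
  set d := Nat.find hex with hd
  obtain ⟨hd0, hdz⟩ := Nat.find_spec hex
  rw [← hd] at hd0 hdz
  have hdf : d ∣ f := by
    have hg : z ∣ p ^ Nat.gcd d f - 1 := by rw [← Nat.pow_sub_one_gcd_pow_sub_one]; exact Nat.dvd_gcd hdz hzdvd
    have h1 : d ≤ Nat.gcd d f := Nat.find_min' hex ⟨Nat.gcd_pos_of_pos_left _ hd0, hg⟩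
    exact (le_antisymm h1 (Nat.le_of_dvd hd0 (Nat.gcd_dvd_left _ _))) ▸ Nat.gcd_dvd_right d f
  obtain ⟨F₁, hF₁card, hF₁⟩ := exists_subfield_pow (F := F) p f d hf hd0 hdf
  by_cases hlt : d < f
  · left
    have htop : F₁ ≠ ⊤ := fun h => by
      have h1 : Nat.card (⊤ : Subfield F) = p ^ (f : ℕ) := by
        rw [← hf, ← Nat.card_eq_fintype_card]
        exact Nat.card_congr (Equiv.subtypeUnivEquiv fun _ => trivial)
      rw [h, h1] at hF₁card
      exact hlt.ne' (Nat.pow_right_injective (Fact.out : p.Prime).two_le hF₁card)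
    refine subfieldAlt_of_realisable hF hn htop h6.absIrr hR h6.sub.normal
      (AschSp.realisable_of_trace h6.absIrr F₁ fun x hx => ?_)
    by_cases hxs : x ∈ scalars (Fin n) F
    · obtain ⟨c, hc⟩ := (mem_scalars_iff _).1 hxs
      have hxz : (⟨x, hx⟩ : R) ∈ Subgroup.center R := h6.center_eq ▸ hxs
      have h1 : x ^ z = 1 :=
        congrArg (fun w : Subgroup.center R => ((w : R) : GL (Fin n) F))
          (pow_card_eq_one' : (⟨⟨x, hx⟩, hxz⟩ : Subgroup.center R) ^ z = 1)
      have h3 : x ^ (p ^ d - 1) = 1 := by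
        obtain ⟨k, hk⟩ := hdz
        rw [hk, pow_mul, h1, one_pow]
      have h2 : (c : F) ^ (p ^ d - 1) = 1 := by
        have := congrArg (fun g : GL (Fin n) F => g.val ⟨0, by omega⟩ ⟨0, by omega⟩) h3
        simpa [Units.val_pow_eq_pow_val, hc, smul_pow] using this
      have hcF : (c : F) ∈ F₁ := (hF₁ _).2 (by
        rw [← Nat.sub_add_cancel (Nat.one_le_pow d p (Fact.out : p.Prime).pos), pow_succ, h2, one_mul])
      rw [hc, Matrix.trace_smul, Matrix.trace_one, smul_eq_mul]
      exact mul_mem hcF (natCast_mem F₁ _)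
    · rw [trace_eq_zero_of_noncentral h6.absIrr h6.comm_scalar hx hxs]
      exact zero_mem _
  right
  have hdfe : d = f := le_antisymm (Nat.le_of_dvd f.pos hdf) (by omega)
  have hrp : r ≠ p := fun h => h6.char_ne (by rw [h, CharP.cast_eq_zero])
  refine ⟨p, f, ⟨h6.symp, h6.absIrr, fun g hg => ⟨1, fun u v => by rw [Units.val_one, one_mul]; exact hR hg u v⟩,
    hrp, ⟨Fact.out, hp, hf, hzdvd, fun k hk0 hkf hk => ?_⟩, ?_, by rw [← h6.card_eq, Fintype.card_fin], h6.comm_scalar, hR, h6.pow_scalar⟩, fun h hh => ?_⟩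
  · exact Nat.find_min hex (show k < Nat.find hex by rw [← hd]; omega) ⟨hk0, hk⟩
  · rcases h6.center_card with ⟨ho, hc⟩ | ⟨hr2, hc⟩
    · exact Or.inl ⟨ho, hc, h6.pos, by rw [h6.card, hc, ← pow_succ, add_comm]⟩
    · right
      subst hr2
      have hpo : Odd p := (Fact.out : p.Prime).odd_of_ne_two (Ne.symm hrp)
      have hf2 : (f : ℕ) = 2 * (f / 2 : ℕ) := by
        have h1 := congrArg (fun x : ℕ => x % 2) hdfe
        have hq : Fintype.card F = p ^ (f : ℕ) := hf
        rw [hF] at hq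
        obtain ⟨a, -, ha⟩ := (Nat.dvd_prime_pow (Fact.out : p.Prime)).1 (hq ▸ dvd_pow_self q two_ne_zero)
        rw [ha, ← pow_mul] at hq
        have := Nat.pow_right_injective (Fact.out : p.Prime).two_le hq
        omega
      rcases hc with hc | hc
      · exfalso
        have : d ≤ 1 := Nat.find_min' hex ⟨one_pos, by
          rw [hz, hc, pow_one]; obtain ⟨j, hj⟩ := hpo; exact ⟨j, by omega⟩⟩
        omega
      · refine ⟨rfl, ?_, hc, by rw [h6.card, hc, show (4 : ℕ) = 2 ^ 2 by norm_num, ← pow_add, add_comm]⟩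
        have : d ≤ 2 := Nat.find_min' hex ⟨two_pos, by
          rw [hz, hc]
          obtain ⟨j, hj⟩ := hpo
          refine ⟨j * (j + 1), ?_⟩
          subst hj
          rw [show (2 * j + 1) ^ 2 = 4 * (j * (j + 1)) + 1 by ring]
          omega⟩
        have := f.pos
        omega
  · rw [subgroupNormalizer, Subgroup.mem_normalizer_iff]
    intro x
    refine ⟨fun hx => h6.sub.normal h hh x hx, fun hx => ?_⟩
    have h1 := h6.sub.normal h⁻¹ (inv_mem hh) _ hx
    simpa [mul_assoc] using h1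

end Cfsg.Lib.Linear.AschU
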