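import Cfsg.Agent.Lib.Linear.AschU.Star

/-!
# Subfield structures of a unitary space in arbitrary dimension
-/

set_option autoImplicit false
set_option linter.unusedSectionVars false
set_option linter.style.haveILetI false

namespace Cfsg.Lib.Linear.AschU

open Cfsg.Geo Cfsg.Lib.Linear Cfsg.Lib.Linear.Herm Cfsg.Lib.Linear.Asch
open scoped Matrix MatrixGroups

variable {F : Type*} [Field F] [Fintype F] {q n : ℕ}

/-- The three types of subfield groups attached to the unitary form. -/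
def SubfieldAlt (n q : ℕ) (H : Subgroup (GL (Fin n) F)) : Prop :=
  (∃ (F₀ : Subfield F) (r : ℕ) (P : GL (Fin n) F), r.Prime ∧ Odd r ∧ Fintype.card F = Nat.card F₀ ^ r ∧
      IsFormRationalStructure (Cfsg.hermForm n F q) F₀ 1 P ∧ H ≤ subfieldSubgroup F₀ P) ∨
  (Odd q ∧ ∃ (F₀ : Subfield F) (P : GL (Fin n) F), Fintype.card F = Nat.card F₀ ^ 2 ∧
      IsFormRationalStructure (Cfsg.hermForm n F q) F₀ 1 P ∧ H ≤ subfieldSubgroup F₀ P) ∨
  (∃ (F₀ : Subfield F) (P : GL (Fin n) F) (ζ : F), Even n ∧ Fintype.card F = Nat.card F₀ ^ 2 ∧ ζ ≠ 0 ∧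
      ζ + ζ ^ q = 0 ∧ IsFormRationalStructure (Cfsg.hermForm n F q) F₀ ζ P ∧
      (∀ u : Fin n → F, (∀ i, u i ∈ F₀) → Cfsg.hermForm n F q (P.val *ᵥ u) (P.val *ᵥ u) = 0) ∧
      H ≤ subfieldSubgroup F₀ P)

theorem dot_transpose (M : Matrix (Fin n) (Fin n) F) (u v : Fin n → F) : u ⬝ᵥ Mᵀ *ᵥ v = v ⬝ᵥ M *ᵥ u := by
  rw [Matrix.mulVec_transpose, dotProduct_comm, ← Matrix.dotProduct_mulVec]

/-- A skew-symmetric matrix is alternating in odd characteristic. -/
theorem skew_alt (h2 : (2 : F) ≠ 0) {M : Matrix (Fin n) (Fin n) F} (hM : Mᵀ = -M) (v : Fin n → F) :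
    v ⬝ᵥ M *ᵥ v = 0 := by
  have h := dot_transpose M v v
  rw [hM, Matrix.neg_mulVec, dotProduct_neg] at h
  refine mul_left_cancel₀ h2 ?_
  linear_combination -h

/-- A symmetric matrix with zero diagonal is alternating in characteristic two. -/
theorem diag_zero_alt (h2 : (2 : F) = 0) {M : Matrix (Fin n) (Fin n) F} (hM : Mᵀ = -M)
    (hd : ∀ k, M k k = 0) (v : Fin n → F) : v ⬝ᵥ M *ᵥ v = 0 := by
  let Q : Submodule F (Fin n → F) :=
    { carrier := {v | v ⬝ᵥ M *ᵥ v = 0}
      zero_mem' := by simp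
      add_mem' := fun {u w} hu hw => by
        show (u + w) ⬝ᵥ M *ᵥ (u + w) = 0
        have h := dot_transpose M u w
        rw [hM, Matrix.neg_mulVec, dotProduct_neg] at h
        rw [Matrix.mulVec_add, dotProduct_add, add_dotProduct, add_dotProduct, hu, hw, ← h]
        ring
      smul_mem' := fun a w hw => by
        show (a • w) ⬝ᵥ M *ᵥ (a • w) = 0
        rw [Matrix.mulVec_smul, dotProduct_smul, smul_dotProduct, hw, smul_zero, smul_zero] }
  show v ∈ Q
  rw [pi_eq_sum_univ' v]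
  refine Q.sum_mem fun k _ => Q.smul_mem _ ?_
  show (Pi.single k (1 : F) : Fin n → F) ⬝ᵥ M *ᵥ Pi.single k 1 = 0
  rw [Matrix.mulVec_single_one, single_dotProduct]
  simpa using hd k

/-- A symmetric form fixed by an irreducible group has zero diagonal in characteristic two. -/
theorem diag_zero_of_irr (h2 : (2 : F) = 0) (hn : 2 ≤ n) {G : Subgroup (GL (Fin n) F)}
    (hG : ActsIrreducibly (matrixSet G)) {B : GL (Fin n) F} {M : Matrix (Fin n) (Fin n) F}
    (hMdet : M.det ≠ 0) (hM : Mᵀ = -M)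
    (hfix : ∀ g ∈ G, ∃ X : Matrix (Fin n) (Fin n) F, X * B.val = B.val * g.val ∧ Xᵀ * M * X = M) (k : Fin n) :
    M k k = 0 := by
  let W : Submodule F (Fin n → F) :=
    { carrier := {v | v ⬝ᵥ M *ᵥ v = 0}
      zero_mem' := by simp
      add_mem' := fun {u w} hu hw => by
        show (u + w) ⬝ᵥ M *ᵥ (u + w) = 0
        have h := dot_transpose M u w
        rw [hM, Matrix.neg_mulVec, dotProduct_neg] at h
        rw [Matrix.mulVec_add, dotProduct_add, add_dotProduct, add_dotProduct, hu, hw, ← h]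
        ring
      smul_mem' := fun a w hw => by
        show (a • w) ⬝ᵥ M *ᵥ (a • w) = 0
        rw [Matrix.mulVec_smul, dotProduct_smul, smul_dotProduct, hw, smul_zero, smul_zero] }
  have hW0 : W ≠ ⊥ := fun hbot => by
    have hinj : Function.Injective fun v : Fin n → F => v ⬝ᵥ M *ᵥ v := fun u v huv => by
      have h1 : u - v ∈ W := by
        show (u - v) ⬝ᵥ M *ᵥ (u - v) = 0
        have h := dot_transpose M u v
        rw [hM, Matrix.neg_mulVec, dotProduct_neg] at h
        rw [Matrix.mulVec_sub, dotProduct_sub, sub_dotProduct, sub_dotProduct, ← h]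
        linear_combination huv + (v ⬝ᵥ M *ᵥ v) * h2
      rwa [hbot, Submodule.mem_bot, sub_eq_zero] at h1
    have h1 := Nat.card_le_card_of_injective _ hinj
    rw [Nat.card_fun, Nat.card_eq_fintype_card (α := Fin n), Fintype.card_fin] at h1
    have h2' : Nat.card F ^ 1 < Nat.card F ^ n := Nat.pow_lt_pow_right Finite.one_lt_card (by omega)
    rw [pow_one] at h2'
    omega
  rcases irr_iff.1 hG (W.comap (Matrix.toLin' B.val)) (fun g hg v hv => by
    rw [Submodule.mem_comap, Matrix.toLin'_apply] at hv ⊢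
    obtain ⟨X, hX, hXM⟩ := hfix g hg
    show (B.val *ᵥ (g.val *ᵥ v)) ⬝ᵥ M *ᵥ (B.val *ᵥ (g.val *ᵥ v)) = 0
    have h4 : ∀ w : Fin n → F, (X *ᵥ w) ⬝ᵥ M *ᵥ (X *ᵥ w) = w ⬝ᵥ (Xᵀ * M * X) *ᵥ w := fun w => by
      rw [← Matrix.mulVec_mulVec, ← Matrix.mulVec_mulVec, Matrix.dotProduct_mulVec w, Matrix.vecMul_transpose]
    rw [Matrix.mulVec_mulVec, ← hX, ← Matrix.mulVec_mulVec, h4, hXM]
    exact hv) with h | h
  · obtain ⟨w, hw, hw0⟩ := Submodule.exists_mem_ne_zero_of_ne_bot hW0
    have : (B⁻¹).val *ᵥ w ∈ W.comap (Matrix.toLin' B.val) := by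
      rw [Submodule.mem_comap, Matrix.toLin'_apply, mulVec_inv_mulVec]
      exact hw
    rw [h, Submodule.mem_bot] at this
    exact absurd this (move_ne_zero _ hw0)
  · have : (B⁻¹).val *ᵥ (Pi.single k (1 : F) : Fin n → F) ∈ W.comap (Matrix.toLin' B.val) := h ▸ Submodule.mem_top
    rw [Submodule.mem_comap, Matrix.toLin'_apply, mulVec_inv_mulVec] at this
    replace this : (Pi.single k (1 : F) : Fin n → F) ⬝ᵥ M *ᵥ Pi.single k 1 = 0 := this
    simpa [Matrix.mulVec_single_one, single_dotProduct] using this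

/-- A group normalising an absolutely irreducible unitary group realised over a proper subfield lies in a
subfield group attached to the form. -/
theorem subfieldAlt_of_realisable (hF : Fintype.card F = q ^ 2) (hn : 2 ≤ n)
    {H G : Subgroup (GL (Fin n) F)} {F₀ : Subfield F} (hF₀ : F₀ ≠ ⊤)
    (hG : ActsAbsolutelyIrreducibly (matrixSet G)) (hGU : G ≤ Cfsg.GU n F q)
    (hn' : ∀ g ∈ H, ∀ a ∈ G, g * a * g⁻¹ ∈ G) (hreal : RealisableOver F₀ (matrixSet G)) :
    SubfieldAlt n q H := by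
  haveI : Nonempty (Fin n) := ⟨⟨0, by omega⟩⟩
  obtain ⟨B, hB⟩ := hreal
  obtain ⟨F₁, s, hle, hne, hs, hcard⟩ := exists_prime_index hF₀
  set σ := sigmaE hF with hσdef
  have hσmem : ∀ x ∈ F₁, σ x ∈ F₁ := fun x hx => by rw [hσdef, sigmaE_apply]; exact F₁.pow_mem hx q
  set P₀ : GL (Fin n) F := B⁻¹ with hP₀
  set J : Matrix (Fin n) (Fin n) F := P₀.valᵀ * P₀.val.map σ with hJ
  have hJdet : J.det ≠ 0 := by
    rw [hJ, Matrix.det_mul, Matrix.det_transpose]
    refine mul_ne_zero (Matrix.GeneralLinearGroup.det_ne_zero P₀) ?_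
    rw [show (P₀.val.map σ).det = σ P₀.val.det from (RingHom.map_det σ.toRingHom P₀.val).symm]
    exact fun h => Matrix.GeneralLinearGroup.det_ne_zero P₀ (by simpa using h)
  have hrat : ∀ x ∈ G, ∀ i j, (B.val * x.val * B⁻¹.val) i j ∈ F₁ := fun x hx i j => hle (hB _ (mem_matrixSet hx) i j)
  have hfix : ∀ x ∈ G, (B.val * x.val * B⁻¹.val)ᵀ * J * (B.val * x.val * B⁻¹.val).map σ = J := by
    intro x hx
    have h1 : P₀.val * (B.val * x.val * B⁻¹.val) = x.val * P₀.val := by
      rw [hP₀, ← Matrix.mul_assoc, ← Matrix.mul_assoc, Units.inv_mul, Matrix.one_mul]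
    calc (B.val * x.val * B⁻¹.val)ᵀ * J * (B.val * x.val * B⁻¹.val).map σ
        = (P₀.val * (B.val * x.val * B⁻¹.val))ᵀ * (P₀.val * (B.val * x.val * B⁻¹.val)).map σ := by
          rw [hJ, Matrix.transpose_mul P₀.val, Matrix.map_mul (L := P₀.val)]
          simp only [Matrix.mul_assoc]
      _ = P₀.valᵀ * (x.valᵀ * x.val.map σ) * P₀.val.map σ := by
          rw [h1, Matrix.transpose_mul, Matrix.map_mul]
          simp only [Matrix.mul_assoc]
      _ = J := by rw [hσdef, gu_gram hF (hGU hx), Matrix.mul_one, hJ]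
  obtain ⟨i0, j0, h0⟩ : ∃ i j, J i j ≠ 0 := by
    by_contra hne'
    push Not at hne'
    exact hJdet (by rw [show J = 0 from Matrix.ext hne', Matrix.det_zero])
  obtain ⟨φ, hφ⟩ := LinearMap.exists_leftInverse_of_injective (LinearMap.toSpanSingleton F₁ F (J i0 j0))
    (LinearMap.ker_eq_bot.2 (smul_left_injective F₁ h0))
  have hφ1 : φ (J i0 j0) = 1 := by
    have h1 := LinearMap.congr_fun hφ 1
    simpa using h1
  let ψ : F → F := fun a => ((φ a : F₁) : F)
  have hψl : ∀ (c : F), c ∈ F₁ → ∀ a, ψ (c * a) = c * ψ a := fun c hc a => by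
    simp only [ψ]
    rw [show c * a = (⟨c, hc⟩ : F₁) • a from rfl, map_smul, smul_eq_mul, Subfield.coe_mul]
  have hψs : ∀ (f : Fin n → F), ψ (∑ k, f k) = ∑ k, ψ (f k) := fun f => by
    simp only [ψ, map_sum, AddSubmonoidClass.coe_finsetSum]
  have hψL : ∀ A X : Matrix (Fin n) (Fin n) F, (∀ i j, A i j ∈ F₁) → (A * X).map ψ = A * X.map ψ :=
    fun A X hA => Matrix.ext fun i j => by
      simp only [Matrix.map_apply, Matrix.mul_apply, hψs, hψl _ (hA i _)]
  have hψR : ∀ X C : Matrix (Fin n) (Fin n) F, (∀ i j, C i j ∈ F₁) → (X * C).map ψ = X.map ψ * C :=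
    fun X C hC => Matrix.ext fun i j => by
      simp only [Matrix.map_apply, Matrix.mul_apply, hψs]
      exact Finset.sum_congr rfl fun k _ => by rw [mul_comm, hψl _ (hC k j), mul_comm]
  set M : Matrix (Fin n) (Fin n) F := J.map ψ with hM
  have hMfix : ∀ x ∈ G, (B.val * x.val * B⁻¹.val)ᵀ * M * (B.val * x.val * B⁻¹.val).map σ = M := by
    intro x hx
    set X := B.val * x.val * B⁻¹.val with hX
    have hA : ∀ i j, Xᵀ i j ∈ F₁ := fun i j => hrat x hx j i
    have hC : ∀ i j, X.map σ i j ∈ F₁ := fun i j => hσmem _ (hrat x hx i j)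
    rw [hM, ← hψL _ _ hA, ← hψR _ _ hC, hfix x hx]
  obtain ⟨c, hc⟩ := gram_unique hF hG hGU (M := B.valᵀ * M * B.val.map σ) (fun x hx => by
    have h1 : B.val * x.val = (B.val * x.val * B⁻¹.val) * B.val := by
      simp only [Matrix.mul_assoc, Units.inv_mul, Matrix.mul_one]
    calc x.valᵀ * (B.valᵀ * M * B.val.map σ) * x.val.map σ
        = (B.val * x.val)ᵀ * M * (B.val * x.val).map σ := by
          rw [Matrix.transpose_mul, Matrix.map_mul]; simp only [Matrix.mul_assoc]
      _ = B.valᵀ * ((B.val * x.val * B⁻¹.val)ᵀ * M * (B.val * x.val * B⁻¹.val).map σ) * B.val.map σ := by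
          conv_lhs => rw [h1, Matrix.transpose_mul, Matrix.map_mul]
          simp only [Matrix.mul_assoc]
      _ = B.valᵀ * M * B.val.map σ := by rw [hMfix x hx])
  have hMJ : M = c • J := by
    have hBP : B.val * P₀.val = 1 := by rw [hP₀, Units.mul_inv]
    have h2 := congrArg (fun z => P₀.valᵀ * z * P₀.val.map σ) hc
    simp only [Matrix.mul_smul, Matrix.smul_mul, Matrix.mul_one] at h2
    rw [hJ, ← h2]
    calc M = (B.val * P₀.val)ᵀ * M * (B.val * P₀.val).map σ := by
          rw [hBP, Matrix.transpose_one, Matrix.map_one _ (map_zero σ) (map_one σ), Matrix.one_mul, Matrix.mul_one]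
      _ = _ := by rw [Matrix.transpose_mul, Matrix.map_mul]; simp only [Matrix.mul_assoc]
  have hMmem : ∀ i j, M i j ∈ F₁ := fun i j => (φ (J i j)).2
  have hM1 : M i0 j0 = 1 := by rw [hM, Matrix.map_apply]; simp [ψ, hφ1]
  have hc0 : c ≠ 0 := fun h => by
    rw [hMJ, h, zero_smul] at hM1
    exact zero_ne_one hM1
  set lam := c⁻¹ with hlam
  have hlam0 : lam ≠ 0 := inv_ne_zero hc0
  have hJM : ∀ i j, J i j = lam * M i j := fun i j => by
    rw [hMJ, Matrix.smul_apply, smul_eq_mul, hlam, ← mul_assoc, inv_mul_cancel₀ hc0, one_mul]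
  have hJherm : ∀ i j, J j i = σ (J i j) := fun i j => by
    simp only [hJ, Matrix.mul_apply, Matrix.transpose_apply, Matrix.map_apply, map_sum, map_mul]
    refine Finset.sum_congr rfl fun k _ => ?_
    rw [hσdef, sigmaE_sigmaE, mul_comm]
  set τ := M j0 i0 with hτ
  have hτmem : τ ∈ F₁ := hMmem _ _
  have hτlam : lam * τ = σ lam := by
    rw [hτ, ← hJM, hJherm, hJM, hM1, mul_one]
  have hτσ : τ * σ τ = 1 := by
    have h1 := congrArg σ hτlam
    rw [map_mul, hσdef, sigmaE_sigmaE, ← hσdef] at h1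
    refine mul_left_cancel₀ hlam0 ?_
    rw [mul_one, ← mul_assoc, hτlam, h1]
  have hH : ∀ a : Fˣ, ∀ h ∈ H, h ∈ subfieldSubgroup F₁ (P₀ * Units.map (Matrix.scalar (Fin n) : F →+* _).toMonoidHom a) := by
    intro a h hh
    have h1 : Rat0.RatG F₁ (B * h * B⁻¹) :=
      ratG_mono hle (rat_normalizer hG F₀ B (fun x hx => hB _ (mem_matrixSet hx)) (hn' h hh))
    rw [mem_subfieldSubgroup_iff]
    have hsc : ∀ g : GL (Fin n) F, Commute (Units.map (Matrix.scalar (Fin n) : F →+* _).toMonoidHom a) g := fun g =>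
      (scalars_comm (g := g) ⟨a, rfl⟩).symm
    convert h1 using 1
    rw [mul_inv_rev, hP₀, inv_inv]
    rw [show (Units.map (Matrix.scalar (Fin n) : F →+* _).toMonoidHom a)⁻¹ * B * h *
        (B⁻¹ * Units.map (Matrix.scalar (Fin n) : F →+* _).toMonoidHom a) =
      (Units.map (Matrix.scalar (Fin n) : F →+* _).toMonoidHom a)⁻¹ * (B * h * B⁻¹ *
        Units.map (Matrix.scalar (Fin n) : F →+* _).toMonoidHom a) by group, ← (hsc _).eq, inv_mul_cancel_left]
  have hform : ∀ a : Fˣ, (∀ i j, (a : F) * σ a * J i j ∈ F₁) →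
      IsFormRationalStructure (Cfsg.hermForm n F q) F₁ 1
        (P₀ * Units.map (Matrix.scalar (Fin n) : F →+* _).toMonoidHom a) := by
    intro a ha u v hu hv
    have hf := isSesq_of_unitary (herm_unitary (n := n) hF)
    rw [one_mul]
    have hP : ∀ w, (P₀ * Units.map (Matrix.scalar (Fin n) : F →+* _).toMonoidHom a).val *ᵥ w =
        (a : F) • (P₀.val *ᵥ w) := fun w => by
      rw [mul_mulVec]
      show P₀.val *ᵥ (Matrix.scalar (Fin n) (a : F) *ᵥ w) = _
      rw [Matrix.scalar_apply, ← Matrix.smul_one_eq_diagonal, Matrix.smul_mulVec, Matrix.one_mulVec,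
        Matrix.mulVec_smul]
    rw [hP, hP, hf.smul_left, hf.smul_right, sesq_act hf, gram_herm hF, Matrix.mul_one, ← hσdef, ← hJ, ← mul_assoc]
    simp only [dotProduct, Matrix.mulVec, Function.comp_apply, Finset.mul_sum]
    refine sum_mem fun i _ => sum_mem fun j _ => ?_
    rw [show (a : F) * σ a * (u i * (J i j * σ (v j))) = u i * σ (v j) * ((a : F) * σ a * J i j) by ring]
    exact mul_mem (mul_mem (hu i) (hσmem _ (hv j))) (ha i j)
  by_cases hmove : ∀ x ∈ F₁, x ^ q = x
  · -- F₁ is the fixed field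
    obtain ⟨hs2, hfixmem⟩ := index_two_of_fixed hF hs hcard hmove
    subst hs2
    have hσfix : ∀ x ∈ F₁, σ x = x := fun x hx => by rw [hσdef, sigmaE_apply]; exact hmove x hx
    rw [hσfix τ hτmem] at hτσ
    have hsym : ∀ i j, M j i = τ * M i j := fun i j => by
      refine mul_left_cancel₀ hlam0 ?_
      rw [← hJM, hJherm, hJM, map_mul, hσfix _ (hMmem i j), ← hτlam, mul_assoc]
    have hMdet : M.det ≠ 0 := by
      rw [hMJ, Matrix.det_smul]
      exact mul_ne_zero (pow_ne_zero _ hc0) hJdet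
    rcases em (τ = 1 ∧ Odd q) with ⟨hτ1, hoddq⟩ | hnot
    · have hlamF : lam ∈ F₁ := hfixmem lam (by
        rw [← sigmaE_apply hF, ← hσdef, ← hτlam, hτ1, mul_one])
      exact Or.inr (Or.inl ⟨hoddq, F₁, _, hcard, hform 1 (fun i j => by
        rw [Units.val_one, map_one, one_mul, one_mul, hJM]
        exact F₁.mul_mem hlamF (hMmem i j)), hH 1⟩)
    have hτm1 : τ = -1 := by
      rcases mul_self_eq_one_iff.1 hτσ with h | h
      · have hev : ¬ Odd q := fun ho => hnot ⟨h, ho⟩
        have h2 : (2 : F) = 0 := by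
          by_contra h2
          have := odd_card_of_two_ne_zero h2
          rw [hF, Nat.odd_pow_iff two_ne_zero] at this
          exact hev this
        rw [h]
        linear_combination h2
      · exact h
    have hMt : Mᵀ = -M := Matrix.ext fun i j => by
      rw [Matrix.transpose_apply, hsym, hτm1, Matrix.neg_apply, neg_one_mul]
    have halt : ∀ v : Fin n → F, (∀ i, v i ∈ F₁) → v ⬝ᵥ M *ᵥ v = 0 := by
      intro v hv
      by_cases h2 : (2 : F) = 0
      · refine diag_zero_alt h2 hMt (fun k => ?_) v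
        exact diag_zero_of_irr h2 hn hG.1 (B := B) hMdet hMt (fun g hg => by
          refine ⟨B.val * g.val * B⁻¹.val, ?_, ?_⟩
          · show _ * B.val = B.val * g.val
            simp only [Matrix.mul_assoc, Units.inv_mul, Matrix.mul_one]
          · have h3 := hMfix g hg
            rwa [show (B.val * g.val * B⁻¹.val).map σ = B.val * g.val * B⁻¹.val from
              Matrix.ext fun i j => hσfix _ (hrat g hg i j)] at h3) k
      · exact skew_alt h2 hMt v
    have hsneg : σ lam = -lam := by rw [← hτlam, hτm1, mul_neg, mul_one]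
    have hz : lam⁻¹ + lam⁻¹ ^ q = 0 := by
      rw [← sigmaE_apply hF, ← hσdef, map_inv₀, hsneg, inv_neg, add_neg_cancel]
    refine Or.inr (Or.inr ⟨F₁, P₀, lam⁻¹, ?_, hcard, inv_ne_zero hlam0, hz, ?_, ?_, fun h hh => ?_⟩)
    · by_contra hev
      rw [Nat.not_even_iff_odd] at hev
      have hb : IsBilinearForm fun u v : Fin n → F => u ⬝ᵥ M *ᵥ v :=
        { add_left := fun x y v => add_dotProduct x y _
          smul_left := fun a x v => by simp [smul_dotProduct]
          add_right := fun v x y => by simp [Matrix.mulVec_add, dotProduct_add]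
          smul_right := fun a v x => by simp [Matrix.mulVec_smul, dotProduct_smul] }
      refine not_alt_odd (ι := Fin n) (by rwa [Fintype.card_fin]) hb (fun v => ?_) (fun v hv => ?_)
      · by_cases h2 : (2 : F) = 0
        · refine diag_zero_alt h2 hMt (fun k => ?_) v
          have h1 := halt (Pi.single k 1) (fun i => by
            rcases eq_or_ne i k with rfl | h <;> simp [*, F₁.one_mem, F₁.zero_mem])
          simpa [Matrix.mulVec_single_one, single_dotProduct] using h1
        · exact skew_alt h2 hMt v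
      · have hx : ∃ x, x ⬝ᵥ M *ᵥ v ≠ 0 := by
          by_contra hne'
          push Not at hne'
          refine hMdet (Matrix.exists_mulVec_eq_zero_iff.1 ⟨v, hv, funext fun i => ?_⟩)
          simpa using hne' (Pi.single i 1)
        obtain ⟨x, hx'⟩ := hx
        refine ⟨⟨x, hx'⟩, x, fun h => hx' ?_⟩
        have h1 := dot_transpose M x v
        rw [hMt, Matrix.neg_mulVec, dotProduct_neg] at h1
        show x ⬝ᵥ M *ᵥ v = 0
        rw [← neg_eq_zero, h1]
        exact h
    · intro u v hu hv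
      rw [sesq_act (isSesq_of_unitary (herm_unitary hF)), gram_herm hF, Matrix.mul_one, ← hσdef, ← hJ]
      simp only [dotProduct, Matrix.mulVec, Function.comp_apply, Finset.mul_sum]
      refine sum_mem fun i _ => sum_mem fun j _ => ?_
      rw [hJM, show lam⁻¹ * (u i * (lam * M i j * σ (v j))) = lam⁻¹ * lam * (u i * σ (v j) * M i j) by ring,
        inv_mul_cancel₀ hlam0, one_mul]
      exact mul_mem (mul_mem (hu i) (hσmem _ (hv j))) (hMmem i j)
    · intro u hu
      rw [sesq_act (isSesq_of_unitary (herm_unitary hF)), gram_herm hF, Matrix.mul_one, ← hσdef, ← hJ,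
        show (σ ∘ u) = u from funext fun i => hσfix _ (hu i),
        show J = lam • M from Matrix.ext fun i j => hJM i j, Matrix.smul_mulVec, dotProduct_smul, halt u hu,
        smul_zero]
    · have h0 := hH 1 h hh
      rwa [map_one, mul_one] at h0
  · push Not at hmove
    obtain ⟨w, hw, hwσ⟩ := hmove
    have hs2 : s ≠ 2 := fun h2 => hwσ (by
      have h1 : Nat.card F₁ = q := Nat.pow_left_injective two_ne_zero
        (by show Nat.card F₁ ^ 2 = q ^ 2; rw [← hF, hcard, h2])
      letI := Fintype.ofFinite F₁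
      have h2 := FiniteField.pow_card (⟨w, hw⟩ : F₁)
      rw [← Nat.card_eq_fintype_card, h1] at h2
      exact congrArg Subtype.val h2)
    obtain ⟨β, hβmem, hβ0, hβ⟩ : ∃ β ∈ F₁, β ≠ 0 ∧ σ β = τ * β := by
      let bb : F → F := fun c0 => c0 + σ τ * σ c0
      have hbmem : ∀ c0 ∈ F₁, bb c0 ∈ F₁ := fun c0 hc => add_mem hc (mul_mem (hσmem _ hτmem) (hσmem _ hc))
      have hbσ : ∀ c0, σ (bb c0) = τ * bb c0 := fun c0 => by
        simp only [bb, map_add, map_mul, hσdef, sigmaE_sigmaE]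
        rw [← hσdef, mul_add, ← mul_assoc, hτσ, one_mul, add_comm]
      by_cases h1 : bb 1 = 0
      · refine ⟨bb w, hbmem w hw, fun h2 => hwσ ?_, hbσ w⟩
        have e : σ τ = -1 := by
          simp only [bb, map_one, mul_one] at h1
          linear_combination h1
        simp only [bb, e, neg_one_mul, ← sub_eq_add_neg, sub_eq_zero] at h2
        rw [← sigmaE_apply hF, ← hσdef]
        exact h2.symm
      · exact ⟨bb 1, hbmem 1 F₁.one_mem, h1, hbσ 1⟩
    have hν0 : β / lam ≠ 0 := div_ne_zero hβ0 hlam0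
    have hτ0 : τ ≠ 0 := left_ne_zero_of_mul_eq_one hτσ
    obtain ⟨a, ha⟩ := exists_norm_eq hF hν0 (by
      rw [← sigmaE_apply hF, ← hσdef, map_div₀, hβ, ← hτlam, mul_comm lam, mul_div_mul_left _ _ hτ0])
    refine Or.inl ⟨F₁, s, _, hs, (hs.eq_two_or_odd').resolve_left hs2, hcard, hform a (fun i j => ?_), hH a⟩
    rw [hσdef, sigmaE_apply, ← pow_succ', ha, hJM, ← mul_assoc, div_mul_cancel₀ _ hlam0]
    exact F₁.mul_mem hβmem (hMmem i j)


end Cfsg.Lib.Linear.AschU
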