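import Cfsg.Agent.Lib.Linear.AschU.Frame
import Cfsg.Agent.Lib.Linear.AschU.Rational
import Cfsg.Agent.Lib.Linear.AschSp.Descent

/-!
# Tensor powers of a unitary plane are realised over the fixed field
-/

set_option autoImplicit false
set_option linter.unusedSectionVars false
set_option linter.style.haveILetI false

namespace Cfsg.Lib.Linear.AschU

open Cfsg.Geo Cfsg.Lib.Linear Cfsg.Lib.Linear.Herm Cfsg.Lib.Linear.Asch
open scoped Matrix MatrixGroups

variable {F : Type*} [Field F] {q n k t : ℕ}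

/-- A subalgebra containing every slot is everything. -/
theorem slots_top {A : Subalgebra F (Matrix (Fin t → Fin k) (Fin t → Fin k) F)}
    (h : ∀ i a, slot i a ∈ A) : A = ⊤ := by
  classical
  have hp : ∀ (s : Finset (Fin t)) (g : Fin t → Matrix (Fin k) (Fin k) F), (∀ i ∉ s, g i = 1) → pure g ∈ A := by
    intro s
    induction s using Finset.induction with
    | empty =>
      intro g hg
      rw [show g = fun _ => 1 from funext fun i => hg i (by simp), pure_one]
      exact one_mem A
    | insert i s hi ih =>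
      intro g hg
      have e : pure g = slot i (g i) * pure (Function.update g i 1) := by
        rw [slot, pure_mul]
        refine congrArg pure (funext fun j => ?_)
        rcases eq_or_ne j i with rfl | hj
        · simp
        · simp [Function.update_of_ne hj]
      rw [e]
      refine mul_mem (h i _) (ih _ fun j hj => ?_)
      rcases eq_or_ne j i with rfl | hji
      · simp
      · rw [Function.update_of_ne hji]
        exact hg j (by simp [hji, hj])
  rw [eq_top_iff]
  intro M _
  rw [Matrix.matrix_eq_sum_single M]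
  refine sum_mem fun x _ => sum_mem fun y _ => ?_
  have e : Matrix.single x y (M x y) = M x y • pure fun i => Matrix.single (x i) (y i) (1 : F) := by
    refine Matrix.ext fun a b => ?_
    simp only [Matrix.smul_apply, pure, Matrix.of_apply, Matrix.single_apply, smul_eq_mul]
    by_cases hab : x = a ∧ y = b
    · obtain ⟨rfl, rfl⟩ := hab
      simp
    · rw [if_neg hab]
      symm
      rw [mul_eq_zero]
      right
      rw [Finset.prod_eq_zero_iff]
      by_contra hne
      push Not at hne
      refine hab ⟨funext fun i => ?_, funext fun i => ?_⟩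
      · by_contra hi; exact hne i (Finset.mem_univ i) (if_neg fun hh => hi hh.1)
      · by_contra hi; exact hne i (Finset.mem_univ i) (if_neg fun hh => hi hh.2)
  rw [e]
  exact A.smul_mem (hp Finset.univ _ fun i hi => absurd (Finset.mem_univ i) hi) _

/-- A group containing every slot of a group spanning the matrix algebra is absolutely irreducible. -/
theorem absIrr_frame [NeZero k] {S : Subgroup (GL (Fin k) F)} (hS : AschGen.adj S = ⊤)
    (e : Fin n ≃ (Fin t → Fin k)) (P : GL (Fin n) F) {K : Subgroup (GL (Fin n) F)}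
    (hK : ∀ a ∈ S, ∀ i, frameHom e P (pureHom (Function.update (fun _ => 1) i a)) ∈ K) :
    ActsAbsolutelyIrreducibly (matrixSet K) := by
  haveI : Nonempty (Fin n) := ⟨e.symm fun _ => 0⟩
  refine AschGen.absIrr_of_adj_top ?_
  let φ : Matrix (Fin t → Fin k) (Fin t → Fin k) F →ₐ[F] Matrix (Fin n) (Fin n) F :=
    ((Matrix.reindexAlgEquiv F F e.symm).trans (AschGen.conjA P)).toAlgHom
  have hsurj : Function.Surjective φ :=
    ((Matrix.reindexAlgEquiv F F e.symm).trans (AschGen.conjA P)).surjective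
  have h1 : (AschGen.adj K).comap φ = ⊤ := slots_top fun i a => by
    have ha : a ∈ AschGen.adj S := hS ▸ Algebra.mem_top
    show φ (slot i a) ∈ AschGen.adj K
    induction ha using Algebra.adjoin_induction with
    | mem x hx =>
      obtain ⟨g, hg, rfl⟩ := hx
      refine Algebra.subset_adjoin ⟨_, hK g hg i, ?_⟩
      show (frameHom e P (pureHom _)).val = φ (slot i g.val)
      rw [frameHom_val, pureHom_update_val]
      rfl
    | algebraMap r =>
      rw [Algebra.algebraMap_eq_smul_one, slot, pure_update_smul, ← slot, slot_one, map_smul, map_one]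
      exact Subalgebra.smul_mem _ (one_mem _) r
    | add x y _ _ hx hy =>
      rw [slot, pure_update_add, map_add]
      exact add_mem hx hy
    | mul x y _ _ hx hy =>
      rw [← slot_mul, map_mul]
      exact mul_mem hx hy
  rw [eq_top_iff]
  intro M _
  obtain ⟨X, rfl⟩ := hsurj M
  exact (show X ∈ (AschGen.adj K).comap φ from h1 ▸ Algebra.mem_top)

/-- Determinant one isometries of the unitary plane span the matrices. -/
theorem adj_su_two [Fintype F] (hF : Fintype.card F = q ^ 2) :
    AschGen.adj (Cfsg.GU 2 F q ⊓ specialLinear (Fin 2) F) = (⊤ : Subalgebra F (Matrix (Fin 2) (Fin 2) F)) := by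
  classical
  have hq := two_le_q hF
  obtain ⟨g, hg⟩ := IsCyclic.exists_generator (α := Fˣ)
  have hord : orderOf g = q ^ 2 - 1 := by
    rw [orderOf_eq_card_of_forall_mem_zpowers hg, Nat.card_units, Nat.card_eq_fintype_card, hF]
  set x := g ^ (q - 1) with hx
  have hprod : (q - 1) * (q + 1) = q ^ 2 - 1 := by
    rw [mul_comm, ← Nat.sq_sub_sq, one_pow]
  have hx1 : (x : F) * (x : F) ^ q = 1 := by
    rw [← pow_succ', ← Units.val_pow_eq_pow_val, hx, ← pow_mul, hprod, ← hord, pow_orderOf_eq_one, Units.val_one]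
  have hx2 : (x : F) ≠ (x : F)⁻¹ := fun h => by
    have h1 : x ^ 2 = 1 := Units.ext (by
      rw [Units.val_pow_eq_pow_val, Units.val_one, sq]; nth_rw 2 [h]; exact mul_inv_cancel₀ x.ne_zero)
    rw [hx, ← pow_mul] at h1
    have h2 := Nat.le_of_dvd (Nat.mul_pos (by omega) (by omega)) (hord ▸ orderOf_dvd_of_pow_eq_one h1)
    rw [← hprod] at h2
    have := Nat.le_of_mul_le_mul_left h2 (by omega)
    omega
  set A := AschGen.adj (Cfsg.GU 2 F q ⊓ specialLinear (Fin 2) F)
  have hmem : ∀ M : Matrix (Fin 2) (Fin 2) F, adjt hF M * M = 1 → M.det = 1 → M ∈ A := by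
    intro M hM hdet
    let u : GL (Fin 2) F := Matrix.GeneralLinearGroup.mkOfDetNeZero M (by rw [hdet]; exact one_ne_zero)
    refine Algebra.subset_adjoin ⟨u, ⟨(mem_GU_iff hF).2 hM, ?_⟩, rfl⟩
    exact Units.ext hdet
  have hd : (!![(x : F), 0; 0, (x : F)⁻¹] : Matrix (Fin 2) (Fin 2) F) ∈ A := by
    refine hmem _ ?_ (by simp [Matrix.det_fin_two])
    have h0 : (0 : F) ^ q = 0 := zero_pow (by omega)
    have h2 : ((x : F) ^ q)⁻¹ * (x : F)⁻¹ = 1 := by rw [← mul_inv, mul_comm, hx1, inv_one]
    ext i j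
    fin_cases i <;> fin_cases j <;>
      simp [Matrix.mul_apply, Fin.sum_univ_two, adjt_apply, h0, inv_pow, h2, mul_comm ((x : F) ^ q), hx1]
  have hw : (!![0, 1; -1, 0] : Matrix (Fin 2) (Fin 2) F) ∈ A := by
    refine hmem _ ?_ (by simp [Matrix.det_fin_two])
    have h0 : (0 : F) ^ q = 0 := zero_pow (by omega)
    have h1 : (-1 : F) ^ q = -1 := by rw [← sigmaE_apply hF, map_neg, map_one]
    ext i j
    fin_cases i <;> fin_cases j <;> simp [Matrix.mul_apply, Fin.sum_univ_two, adjt_apply, h0, h1]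
  have hE : (!![1, 0; 0, 0] : Matrix (Fin 2) (Fin 2) F) ∈ A := by
    have hd0 : (x : F) - (x : F)⁻¹ ≠ 0 := sub_ne_zero.2 hx2
    have e : (!![1, 0; 0, 0] : Matrix (Fin 2) (Fin 2) F) =
        ((x : F) - (x : F)⁻¹)⁻¹ • (!![(x : F), 0; 0, (x : F)⁻¹] - (x : F)⁻¹ • 1) := by
      ext i j
      fin_cases i <;> fin_cases j <;> simp [hd0]
    rw [e]
    exact A.smul_mem (sub_mem hd (A.smul_mem (one_mem A) _)) _
  rw [eq_top_iff]
  intro M _
  have e : M = M 0 0 • !![1, 0; 0, 0] + M 1 1 • (1 - !![1, 0; 0, 0]) + M 0 1 • (!![1, 0; 0, 0] * !![0, 1; -1, 0]) -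
      M 1 0 • (!![0, 1; -1, 0] * !![1, 0; 0, 0]) := by
    ext i j
    fin_cases i <;> fin_cases j <;> simp [Matrix.mul_apply, Fin.sum_univ_two]
  rw [e]
  exact sub_mem (add_mem (add_mem (A.smul_mem hE _) (A.smul_mem (sub_mem (one_mem A) hE) _))
    (A.smul_mem (mul_mem hE hw) _)) (A.smul_mem (mul_mem hw hE) _)

theorem trace_pure (A : Fin t → Matrix (Fin k) (Fin k) F) : (pure A).trace = ∏ i, (A i).trace := by
  classical
  simp only [Matrix.trace, Matrix.diag, pure, Matrix.of_apply, Fintype.prod_sum]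

/-- A group of isometries stabilising a unitary tensor power of planes lies in a subfield group. -/
theorem plane_power [Fintype F] (hF : Fintype.card F = q ^ 2) (hn : 2 ≤ n) (e : Fin n ≃ (Fin t → Fin 2))
    {P : GL (Fin n) F} (hP : P ∈ Cfsg.GU n F q) {H : Subgroup (GL (Fin n) F)} (hH : H ≤ Cfsg.GU n F q)
    (hle : H ≤ tensorWreathSubgroup 2 t e P) : SubfieldAlt n q H := by
  classical
  haveI : Nonempty (Fin n) := ⟨⟨0, by omega⟩⟩
  set S : Subgroup (GL (Fin 2) F) := specialLinear (Fin 2) F
  set G : Subgroup (GL (Fin n) F) := Cfsg.GU n F q ⊓ (pureGroup S t).map (frameHom e P) with hG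
  have hnorm : ∀ g ∈ H, ∀ a ∈ G, g * a * g⁻¹ ∈ G := by
    rintro g hg a ⟨haU, x, hx, rfl⟩
    obtain ⟨y, hy, rfl⟩ := (tensorWreath_eq e P).le (hle hg)
    refine ⟨(Cfsg.GU n F q).mul_mem ((Cfsg.GU n F q).mul_mem (hH hg) haU) ((Cfsg.GU n F q).inv_mem (hH hg)), y * x * y⁻¹, ?_, by simp⟩
    exact (Subgroup.mem_normalizer_iff.1 (wreath_normalizes
      (fun a z hz => (MonoidHom.normal_ker _).conj_mem z hz a) hy) x).1 hx
  have hslot : ∀ a ∈ Cfsg.GU 2 F q ⊓ S, ∀ i, frameHom e P (pureHom (Function.update (fun _ => 1) i a)) ∈ G := by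
    intro a ha i
    refine ⟨(frameHom_mem_GU hF e hP _).2 ?_, _, slot_mem_pureGroup S ha.2 i, rfl⟩
    rw [pureHom_update_val, adjt_slot, slot_mul, (mem_GU_iff hF).1 ha.1, slot_one]
  have habs := absIrr_frame (adj_su_two hF) e P hslot
  set F₀ : Subfield F := (frob hF).eqLocusField (RingHom.id F)
  have htop : F₀ ≠ ⊤ := fun h => sigmaE_ne hF (RingEquiv.ext fun x => by
    rw [sigmaE_apply]; exact (mem_fixedField hF x).1 (show x ∈ F₀ from h ▸ Subfield.mem_top x))
  refine subfieldAlt_of_realisable hF hn htop habs inf_le_left hnorm (AschSp.realisable_of_trace habs F₀ ?_)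
  rintro _ ⟨hU, x, hx, rfl⟩
  obtain ⟨a, ha, hax⟩ := mem_pureGroup.1 hx
  rw [trace_frameHom, hax, mem_fixedField, ← sigmaE_apply hF]
  have h1 := (frameHom_mem_GU hF e hP x).1 hU
  have h2 : adjt hF x.val = pure fun i => ((a i)⁻¹).val := by
    calc adjt hF x.val = adjt hF x.val * (x.val * pure fun i => ((a i)⁻¹).val) := by
          rw [hax, (pure_isUnit (g := a)).1, mul_one]
      _ = _ := by rw [← mul_assoc, h1, one_mul]
  have h3 : sigmaE hF x.val.trace = (adjt hF x.val).trace := by
    rw [adjt, Matrix.trace_transpose]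
    simp [Matrix.trace, map_sum]
  rw [← hax, h3, h2, hax, trace_pure, trace_pure]
  refine Finset.prod_congr rfl fun i _ => ?_
  have hd : (a i).val.det = 1 := congrArg Units.val (MonoidHom.mem_ker.1 (ha i))
  rw [Matrix.coe_units_inv, Matrix.inv_def, hd, Ring.inverse_one, one_smul, Matrix.adjugate_fin_two,
    Matrix.trace_fin_two, Matrix.trace_fin_two]
  simp [add_comm]

end Cfsg.Lib.Linear.AschU
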