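import Cfsg.Agent.Lib.Linear.AschU.CubeBase
import Cfsg.Agent.Lib.Linear.AschU.Plane
import Cfsg.Agent.Lib.Linear.AschU.ClassSix

/-!
# Tensor powers of the three-dimensional unitary space over the field with four elements

Their stabilisers normalise a group of symplectic type.
-/

set_option autoImplicit false
set_option linter.unusedSectionVars false
set_option linter.style.haveILetI false

namespace Cfsg.Lib.Linear.AschU

open Cfsg.Geo Cfsg.Lib.Linear Cfsg.Lib.Linear.Herm Cfsg.Lib.Linear.Asch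
open scoped Matrix MatrixGroups commutatorElement

variable {F : Type*} [Field F] {n k t : ℕ}

theorem SubfieldAlt.mono [Fintype F] {q : ℕ} {H H' : Subgroup (GL (Fin n) F)} (h : SubfieldAlt n q H')
    (hle : H ≤ H') : SubfieldAlt n q H := by
  rcases h with ⟨F₀, r, P, a, b, c, d, e⟩ | ⟨o, F₀, P, c, d, e⟩ | ⟨F₀, P, ζ, a, b, c, d, e, f, g⟩
  · exact Or.inl ⟨F₀, r, P, a, b, c, d, hle.trans e⟩
  · exact Or.inr (Or.inl ⟨o, F₀, P, c, d, hle.trans e⟩)
  · exact Or.inr (Or.inr ⟨F₀, P, ζ, a, b, c, d, e, f, hle.trans g⟩)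

/-- A permutation of the factors as an invertible matrix. -/
def permHom : Equiv.Perm (Fin t) →* GL (Fin t → Fin k) F :=
  MonoidHom.toHomUnits
    { toFun := fun σ => Matrix.of fun x y => if y = x ∘ σ then 1 else 0
      map_one' := Matrix.ext fun x y => by simp [Matrix.one_apply, eq_comm]
      map_mul' := fun σ τ => Matrix.ext fun x y => by
        simp only [Matrix.mul_apply, Matrix.of_apply]
        rw [Finset.sum_eq_single (x ∘ σ) (fun z _ hz => by rw [if_neg hz, zero_mul])
          (fun h => absurd (Finset.mem_univ _) h), if_pos rfl, one_mul]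
        rfl }

theorem permHom_apply (σ : Equiv.Perm (Fin t)) (x y : Fin t → Fin k) :
    (permHom (F := F) σ).val x y = if y = x ∘ σ then 1 else 0 := rfl

theorem permHom_pure (σ : Equiv.Perm (Fin t)) (a : Fin t → GL (Fin k) F) :
    permHom σ * pureHom a = pureHom (fun i => a (σ.symm i)) * permHom σ :=
  Units.ext (perm_pure σ (permHom_apply σ) fun i => (a i).val)

/-- The elements of the wreath product are pure tensors times permutations. -/
theorem wreath_split {g : GL (Fin t → Fin k) F} (hg : g ∈ tensorWreathStandard k t F) :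
    ∃ (a : Fin t → GL (Fin k) F) (σ : Equiv.Perm (Fin t)), g = pureHom a * permHom σ := by
  induction hg using Subgroup.closure_induction with
  | mem g hg =>
    rcases hg with ⟨gs, h⟩ | ⟨σ, h⟩
    · exact ⟨gs, 1, by rw [map_one, mul_one]; exact Units.ext (Matrix.ext h)⟩
    · exact ⟨1, σ, by rw [map_one, one_mul]; exact Units.ext (Matrix.ext fun x y => (h x y).trans (permHom_apply σ x y).symm)⟩
  | one => exact ⟨1, 1, by rw [map_one, map_one, one_mul]⟩
  | mul g h _ _ ihg ihh =>
    obtain ⟨a, σ, rfl⟩ := ihg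
    obtain ⟨b, τ, rfl⟩ := ihh
    exact ⟨a * fun i => b (σ.symm i), σ * τ, by
      rw [map_mul pureHom, map_mul permHom, mul_assoc, ← mul_assoc (permHom σ), permHom_pure]
      simp only [mul_assoc]⟩
  | inv g _ ih =>
    obtain ⟨a, σ, rfl⟩ := ih
    exact ⟨fun i => (a (σ⁻¹.symm i))⁻¹, σ⁻¹, by
      rw [mul_inv_rev, ← map_inv, ← map_inv, permHom_pure]; rfl⟩

theorem permHom_mem (σ : Equiv.Perm (Fin t)) : permHom σ ∈ tensorWreathStandard k t F :=
  Subgroup.subset_closure (Or.inr ⟨σ, permHom_apply σ⟩)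

theorem pureHom_mem (a : Fin t → GL (Fin k) F) : pureHom a ∈ tensorWreathStandard k t F :=
  Subgroup.subset_closure (Or.inl ⟨a, fun _ _ => rfl⟩)

theorem adjt_permHom [Fintype F] {q : ℕ} (hF : Fintype.card F = q ^ 2) (σ : Equiv.Perm (Fin t)) :
    adjt hF (permHom (k := k) (F := F) σ).val * (permHom σ).val = 1 := by
  have h : adjt hF (permHom (k := k) (F := F) σ).val = (permHom σ⁻¹).val := Matrix.ext fun x y => by
    show sigmaE hF ((permHom σ).val y x) = _
    rw [permHom_apply, permHom_apply, apply_ite (sigmaE hF), map_one, map_zero]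
    refine if_congr ⟨fun e => ?_, fun e => ?_⟩ rfl rfl
    · subst e; funext i; simp
    · subst e; funext i; simp
  rw [h, ← Units.val_mul, ← map_mul, inv_mul_cancel, map_one, Units.val_one]

variable [Fintype F]

/-- Unitary pure tensors over the field with four elements have unitary factors. -/
theorem factor_unitary (hF : Fintype.card F = 2 ^ 2) (a : Fin t → GL (Fin 3) F)
    (h : adjt hF (pureHom a).val * (pureHom a).val = 1) (i : Fin t) : a i ∈ Cfsg.GU 3 F 2 := by
  have h1 : pure (fun j => adjt hF (a j).val * (a j).val) = 1 := by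
    rw [← h, ← pure_mul, ← adjt_pure]; rfl
  obtain ⟨c, hc⟩ := pure_eq_one (by norm_num) h1 i
  rw [mem_GU_iff hF, hc]
  have hc0 : c ≠ 0 := by
    rintro rfl
    rw [zero_smul] at hc
    have h2 := congrArg Matrix.det hc
    rw [Matrix.det_mul, det_adjt, Matrix.det_zero, mul_eq_zero] at h2
    have hd : (a i).val.det ≠ 0 := Matrix.GeneralLinearGroup.det_ne_zero _
    rcases h2 with h2 | h2
    · exact hd (by simpa using h2)
    · exact hd h2
  have hfix : c ^ 2 = c := by
    have h2 := congrArg (adjt hF) hc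
    rw [adjt_mul, adjt_adjt, hc, adjt_smul, adjt_one, sigmaE_apply] at h2
    exact (smul_left_injective F one_ne_zero h2).symm
  have h1 : c = 1 := mul_left_cancel₀ hc0 (by rw [mul_one, ← sq, hfix])
  rw [h1, one_smul]

/-- The stabiliser of a tensor power of the three-dimensional space lies in a member of class five or six. -/
theorem cube_power (hF : Fintype.card F = 2 ^ 2) (ht : 0 < t) (e : Fin n ≃ (Fin t → Fin 3))
    {P : GL (Fin n) F} (hP : P ∈ Cfsg.GU n F 2) {H : Subgroup (GL (Fin n) F)} (hH : H ≤ Cfsg.GU n F 2)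
    (hle : H ≤ tensorWreathSubgroup 3 t e P) :
    SubfieldAlt n 2 H ∨ ∃ R p ee, SixData 2 R 3 p ee t ∧ H ≤ subgroupNormalizer R := by
  classical
  have hn : n = 3 ^ t := by simpa using Fintype.card_congr e
  have h3n : 3 ≤ n := hn ▸ Nat.le_self_pow ht.ne' 3
  haveI : Nonempty (Fin n) := ⟨⟨0, by omega⟩⟩
  set H' := Cfsg.GU n F 2 ⊓ tensorWreathSubgroup 3 t e P with hH'
  set Φ : (Fin t → GL (Fin 3) F) →* GL (Fin n) F := (frameHom e P).comp pureHom with hΦ
  set R : Subgroup (GL (Fin n) F) := (Subgroup.pi Set.univ fun _ => extraGroup F).map Φ with hR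
  have hmemR : ∀ a : Fin t → GL (Fin 3) F, (∀ i, a i ∈ extraGroup F) → Φ a ∈ R :=
    fun a ha => ⟨a, fun i _ => ha i, rfl⟩
  have hΦU : ∀ a : Fin t → GL (Fin 3) F, (∀ i, a i ∈ Cfsg.GU 3 F 2) → Φ a ∈ H' := by
    intro a ha
    refine ⟨(frameHom_mem_GU hF e hP _).2 ?_, (tensorWreath_eq e P).ge ⟨_, pureHom_mem a, rfl⟩⟩
    show adjt hF (pure fun i => (a i).val) * pure (fun i => (a i).val) = 1
    rw [adjt_pure, pure_mul, ← pure_one]
    exact congrArg pure (funext fun i => (mem_GU_iff hF).1 (ha i))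
  have hperm : ∀ σ : Equiv.Perm (Fin t), frameHom e P (permHom σ) ∈ H' := fun σ =>
    ⟨(frameHom_mem_GU hF e hP _).2 (adjt_permHom hF σ), (tensorWreath_eq e P).ge ⟨_, permHom_mem σ, rfl⟩⟩
  have hRH : R ≤ H' := by
    rintro _ ⟨a, ha, rfl⟩
    exact hΦU a fun i => extra_le_GU hF (ha i (Set.mem_univ i))
  have hnorm : ∀ g ∈ H', ∀ x ∈ R, g * x * g⁻¹ ∈ R := by
    rintro g ⟨hgU, hgW⟩ _ ⟨b, hb, rfl⟩
    obtain ⟨y, hy, rfl⟩ := (tensorWreath_eq e P).le hgW
    obtain ⟨a, σ, rfl⟩ := wreath_split hy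
    have hσ := (hperm σ).1
    rw [map_mul] at hgU
    have haU : frameHom e P (pureHom a) ∈ Cfsg.GU n F 2 := ((Cfsg.GU n F 2).mul_mem_cancel_right hσ).1 hgU
    have ha := factor_unitary hF a ((frameHom_mem_GU hF e hP _).1 haU)
    refine ⟨fun i => a i * b (σ.symm i) * (a i)⁻¹,
      fun i _ => extra_normal hF (ha i) (hb _ (Set.mem_univ _)), ?_⟩
    show frameHom e P (pureHom (a * (fun i => b (σ.symm i)) * a⁻¹)) = _
    rw [map_mul pureHom, map_mul pureHom, map_inv pureHom]
    show _ = frameHom e P (pureHom a * permHom σ) * frameHom e P (pureHom b) * (frameHom e P (pureHom a * permHom σ))⁻¹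
    rw [← map_inv (frameHom e P), ← map_mul (frameHom e P), ← map_mul (frameHom e P)]
    congr 1
    rw [mul_inv_rev, show pureHom (fun i => b (σ.symm i)) = permHom σ * pureHom b * (permHom σ)⁻¹ by
      rw [permHom_pure, mul_inv_cancel_right]]
    simp only [mul_assoc]
  have hsub : AschGen.NormalSub H' R := ⟨hRH, hnorm⟩
  have habs : ActsAbsolutelyIrreducibly (matrixSet R) :=
    absIrr_frame (adj_extra hF) e P fun a ha i => hmemR _ fun j => by
      rcases eq_or_ne j i with rfl | h <;> simp [*, one_mem]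
  have hscal : ∀ a : Fin t → GL (Fin 3) F, (∀ i, a i ∈ scalars (Fin 3) F) → Φ a ∈ scalars (Fin n) F := by
    intro a ha
    choose c hc using fun i => (mem_scalars_iff _).1 (ha i)
    refine (mem_scalars_iff _).2 ⟨∏ i, c i, ?_⟩
    have h1 : (pureHom a).val = (∏ i, (c i : F)) • (1 : Matrix (Fin t → Fin 3) (Fin t → Fin 3) F) := by
      show pure (fun i => (a i).val) = _
      simp only [hc, pure_smul, pure_one]
    show (frameHom e P (pureHom a)).val = _
    rw [frameHom_val, h1, Matrix.submatrix_smul]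
    simp [Units.coe_prod]
  have hcomm : ⁅R, R⁆ ≤ scalars (Fin n) F := by
    rw [Subgroup.commutator_le]
    rintro _ ⟨a, ha, rfl⟩ _ ⟨b, hb, rfl⟩
    rw [← map_commutatorElement]
    exact hscal _ fun i => extra_comm (ha i (Set.mem_univ i)) (hb i (Set.mem_univ i))
  have hmin : ∀ K ≤ R, (∀ g ∈ H', ∀ x ∈ K, g * x * g⁻¹ ∈ K) → ¬ K ≤ scalars (Fin n) F → K = R := by
    intro K hKR hKn hKs
    refine le_antisymm hKR ?_
    let L : Fin t → Subgroup (GL (Fin 3) F) := fun i =>
      K.comap (Φ.comp (MonoidHom.mulSingle (fun _ : Fin t => GL (Fin 3) F) i))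
    have hsingle : ∀ (i : Fin t) (g : GL (Fin 3) F), g ∈ Cfsg.GU 3 F 2 → ∀ j, (Pi.mulSingle i g : Fin t → _) j ∈ Cfsg.GU 3 F 2 :=
      fun i g hg j => by
        rcases eq_or_ne j i with rfl | h
        · rw [Pi.mulSingle_eq_same]; exact hg
        · rw [Pi.mulSingle_eq_of_ne h]; exact (Cfsg.GU 3 F 2).one_mem
    have hLn : ∀ i, ∀ g ∈ Cfsg.GU 3 F 2, ∀ x ∈ L i, g * x * g⁻¹ ∈ L i := by
      intro i g hg x hx
      show Φ (Pi.mulSingle i (g * x * g⁻¹)) ∈ K
      rw [Pi.mulSingle_mul, Pi.mulSingle_mul, Pi.mulSingle_inv, map_mul, map_mul, map_inv]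
      exact hKn _ (hΦU _ (hsingle i g hg)) _ hx
    obtain ⟨x, hxK, hxs⟩ := Set.not_subset.1 hKs
    obtain ⟨a, ha, rfl⟩ := hKR hxK
    obtain ⟨i, hi⟩ : ∃ i, a i ∉ scalars (Fin 3) F := by
      by_contra hne
      push Not at hne
      exact hxs (hscal a hne)
    have hfull : extraGroup F ≤ L i := extra_le_of_normal hF (hLn i) (ha i (Set.mem_univ i)) (fun g hg => by
      show Φ (Pi.mulSingle i (g * a i * g⁻¹ * (a i)⁻¹)) ∈ K
      have e1 : (Pi.mulSingle i (g * a i * g⁻¹ * (a i)⁻¹) : Fin t → GL (Fin 3) F) =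
          Pi.mulSingle i g * a * (Pi.mulSingle i g)⁻¹ * a⁻¹ := funext fun j => by
        rcases eq_or_ne j i with rfl | h <;> simp [*]
      rw [e1, map_mul, map_mul, map_mul, map_inv, map_inv]
      exact K.mul_mem (hKn _ (hΦU _ (hsingle i g hg)) _ hxK) (K.inv_mem hxK)) hi
    have hall : ∀ j, extraGroup F ≤ L j := by
      intro j r hr
      have h1 := hKn _ (hperm (Equiv.swap i j)) _ (hfull hr : Φ (Pi.mulSingle i r) ∈ K)
      show Φ (Pi.mulSingle j r) ∈ K
      convert h1 using 1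
      show frameHom e P (pureHom (Pi.mulSingle j r)) = _ * frameHom e P (pureHom (Pi.mulSingle i r)) * _
      rw [← map_inv, ← map_mul, ← map_mul, permHom_pure, mul_inv_cancel_right]
      congr 2
      funext l
      simp only [Equiv.symm_swap]
      rcases eq_or_ne l j with rfl | hl
      · simp
      · rw [Pi.mulSingle_eq_of_ne hl, Pi.mulSingle_eq_of_ne]
        rcases eq_or_ne l i with rfl | hli
        · rw [Equiv.swap_apply_left]; exact Ne.symm hl
        · rw [Equiv.swap_apply_of_ne_of_ne hli hl]; exact hli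
    rw [hR, Subgroup.map_le_iff_le_comap]
    exact Subgroup.pi_le_iff.2 fun j r hr => by
      obtain ⟨s, hs, rfl⟩ := hr
      exact hall j hs
  obtain ⟨r, m, h6⟩ := AschGen.six_of_minimal (by rw [Fintype.card_fin]; omega) hsub habs hcomm hmin
  have hcard := h6.card_eq
  rw [Fintype.card_fin, hn] at hcard
  have hr3 : r = 3 := (Nat.prime_dvd_prime_iff_eq h6.symp.prime Nat.prime_three).1
    (h6.symp.prime.dvd_of_dvd_pow (hcard ▸ dvd_pow_self r h6.pos.ne'))
  subst hr3
  obtain rfl : t = m := Nat.pow_right_injective (by norm_num) hcard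
  rcases six_cases hF (by omega) (inf_le_left : H' ≤ Cfsg.GU n F 2) h6 with h | ⟨p, ee, h, hle'⟩
  · exact Or.inl (h.mono (le_inf hH hle))
  · exact Or.inr ⟨R, p, ee, h, (le_inf hH hle).trans hle'⟩

end Cfsg.Lib.Linear.AschU
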