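import Cfsg.Agent.Lib.Linear.AschU.Star
import Cfsg.Agent.Lib.Linear.AschGen.Core

/-!
# The normal extraspecial group of the three-dimensional unitary group over the field with four elements

The function `v ↦ v₀ v₁ v₂` on unit vectors labels the four orthonormal frames.
-/

set_option autoImplicit false
set_option linter.unusedSectionVars false
set_option linter.style.haveILetI false

namespace Cfsg.Lib.Linear.AschU

open Cfsg.Geo Cfsg.Lib.Linear Cfsg.Lib.Linear.Herm Cfsg.Lib.Linear.Asch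
open scoped Matrix MatrixGroups

variable {F : Type*} [Field F] [Fintype F]

/-- The field with four elements: cubes of non-zero elements are one. -/
theorem cube_eq_one (hF : Fintype.card F = 2 ^ 2) {x : F} (hx : x ≠ 0) : x ^ 3 = 1 := by
  have h := FiniteField.pow_card_sub_one_eq_one x hx
  rwa [hF, show 2 ^ 2 - 1 = 3 by norm_num] at h

theorem two_zero (hF : Fintype.card F = 2 ^ 2) : (2 : F) = 0 := by
  by_contra h
  have h1 := Lib.Linear.Asch.odd_card_of_two_ne_zero h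
  rw [hF] at h1
  exact absurd h1 (by decide)

/-- The label of a vector. -/
def chi (v : Fin 3 → F) : F := v 0 * v 1 * v 2

/-- Unit vectors for the standard form. -/
def IsUnitVec (v : Fin 3 → F) : Prop := Cfsg.hermForm 3 F 2 v v = 1

theorem herm_three (u v : Fin 3 → F) :
    Cfsg.hermForm 3 F 2 u v = u 0 * v 0 ^ 2 + u 1 * v 1 ^ 2 + u 2 * v 2 ^ 2 := by
  simp [Cfsg.hermForm, Fin.sum_univ_three]

/-- A unit vector is supported everywhere or in one place. -/
theorem unit_support (hF : Fintype.card F = 2 ^ 2) {v : Fin 3 → F} (hv : IsUnitVec v) :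
    (v 0 ≠ 0 ∧ v 1 = 0 ∧ v 2 = 0) ∨ (v 0 = 0 ∧ v 1 ≠ 0 ∧ v 2 = 0) ∨ (v 0 = 0 ∧ v 1 = 0 ∧ v 2 ≠ 0) ∨
      (v 0 ≠ 0 ∧ v 1 ≠ 0 ∧ v 2 ≠ 0) := by
  have h2 := two_zero hF
  rw [IsUnitVec, herm_three] at hv
  have hs : ∀ x : F, x = 0 ∨ x * x ^ 2 = 1 := fun x => by
    rcases eq_or_ne x 0 with h | h
    · exact Or.inl h
    · exact Or.inr (by rw [← cube_eq_one hF h]; ring)
  rcases hs (v 0) with a | a <;> rcases hs (v 1) with b | b <;> rcases hs (v 2) with c | c <;>
    simp only [a, b, c, zero_mul, zero_add, add_zero] at hv ⊢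
  · exact absurd hv zero_ne_one
  · exact Or.inr (Or.inr (Or.inl ⟨trivial, trivial, left_ne_zero_of_mul_eq_one c⟩))
  · exact Or.inr (Or.inl ⟨trivial, left_ne_zero_of_mul_eq_one b, trivial⟩)
  · exact absurd (by linear_combination h2 - hv) one_ne_zero
  · exact Or.inl ⟨left_ne_zero_of_mul_eq_one a, trivial, trivial⟩
  · exact absurd (by linear_combination h2 - hv) one_ne_zero
  · exact absurd (by linear_combination h2 - hv) one_ne_zero
  · exact Or.inr (Or.inr (Or.inr ⟨left_ne_zero_of_mul_eq_one a, left_ne_zero_of_mul_eq_one b,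
      left_ne_zero_of_mul_eq_one c⟩))

theorem cube_pair (hF : Fintype.card F = 2 ^ 2) {a b : F} (ha : a ≠ 0) (hb : b ≠ 0) (hab : a ≠ b) :
    a * b * (a + b) = 1 := by
  have h1 : (a - b) * (a ^ 2 + a * b + b ^ 2) = 0 := by
    linear_combination cube_eq_one hF ha - cube_eq_one hF hb
  linear_combination b * (mul_eq_zero.1 h1).resolve_left (sub_ne_zero.2 hab) - cube_eq_one hF hb - two_zero hF

theorem chi_eq_of_orth (hF : Fintype.card F = 2 ^ 2) {u v : Fin 3 → F} (hu : IsUnitVec u) (hv : IsUnitVec v)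
    (h : Cfsg.hermForm 3 F 2 u v = 0) : chi u = chi v := by
  have h2 := two_zero hF
  rw [herm_three] at h
  rcases unit_support hF hu with ⟨a0, a1, a2⟩ | ⟨a0, a1, a2⟩ | ⟨a0, a1, a2⟩ | ⟨a0, a1, a2⟩ <;>
    rcases unit_support hF hv with ⟨b0, b1, b2⟩ | ⟨b0, b1, b2⟩ | ⟨b0, b1, b2⟩ | ⟨b0, b1, b2⟩ <;>
    try (simp_all [chi]; done)
  -- both supported everywhere
  set a := u 0 * v 0 ^ 2 with ha
  set b := u 1 * v 1 ^ 2 with hb
  set c := u 2 * v 2 ^ 2 with hc
  have ha0 : a ≠ 0 := mul_ne_zero a0 (pow_ne_zero _ b0)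
  have hb0 : b ≠ 0 := mul_ne_zero a1 (pow_ne_zero _ b1)
  have hc0 : c ≠ 0 := mul_ne_zero a2 (pow_ne_zero _ b2)
  have hce : c = a + b := by linear_combination h - (a + b) * h2
  have hab : a ≠ b := fun e => hc0 (by rw [hce, e]; linear_combination b * h2)
  have hprod : a * b * c = 1 := by rw [hce]; exact cube_pair hF ha0 hb0 hab
  simp only [chi]
  calc u 0 * u 1 * u 2 = u 0 * u 1 * u 2 * (v 0 ^ 3 * v 1 ^ 3 * v 2 ^ 3) := by
        rw [cube_eq_one hF b0, cube_eq_one hF b1, cube_eq_one hF b2]; ring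
    _ = a * b * c * (v 0 * v 1 * v 2) := by rw [ha, hb, hc]; ring
    _ = _ := by rw [hprod, one_mul]

theorem orth_or_prop (hF : Fintype.card F = 2 ^ 2) {u v : Fin 3 → F} (hu : IsUnitVec u) (hv : IsUnitVec v)
    (h : chi u = chi v) : Cfsg.hermForm 3 F 2 u v = 0 ∨ ∃ c : F, c ≠ 0 ∧ u = c • v := by
  have h2 := two_zero hF
  rw [herm_three]
  have hprop : ∀ i : Fin 3, u i ≠ 0 → v i ≠ 0 → (∀ l, l ≠ i → u l = 0 ∧ v l = 0) → ∃ c : F, c ≠ 0 ∧ u = c • v :=
    fun i hui hvi hl => ⟨u i / v i, div_ne_zero hui hvi, funext fun l => by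
      rcases eq_or_ne l i with rfl | hli
      · simp [hvi]
      · simp [(hl l hli).1, (hl l hli).2]⟩
  rcases unit_support hF hu with ⟨a0, a1, a2⟩ | ⟨a0, a1, a2⟩ | ⟨a0, a1, a2⟩ | ⟨a0, a1, a2⟩ <;>
    rcases unit_support hF hv with ⟨b0, b1, b2⟩ | ⟨b0, b1, b2⟩ | ⟨b0, b1, b2⟩ | ⟨b0, b1, b2⟩ <;>
    try (simp_all [chi]; done)
  · exact Or.inr (hprop 0 a0 b0 fun l hl => by fin_cases l <;> simp_all)
  · exact Or.inr (hprop 1 a1 b1 fun l hl => by fin_cases l <;> simp_all)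
  · exact Or.inr (hprop 2 a2 b2 fun l hl => by fin_cases l <;> simp_all)
  set a := u 0 * v 0 ^ 2 with ha
  set b := u 1 * v 1 ^ 2 with hb
  set c := u 2 * v 2 ^ 2 with hc
  have ha0 : a ≠ 0 := mul_ne_zero a0 (pow_ne_zero _ b0)
  have hb0 : b ≠ 0 := mul_ne_zero a1 (pow_ne_zero _ b1)
  have hprod : a * b * c = 1 := by
    simp only [chi] at h
    calc a * b * c = u 0 * u 1 * u 2 * (v 0 * v 1 * v 2) ^ 2 := by rw [ha, hb, hc]; ring
      _ = v 0 ^ 3 * v 1 ^ 3 * v 2 ^ 3 := by rw [h]; ring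
      _ = 1 := by rw [cube_eq_one hF b0, cube_eq_one hF b1, cube_eq_one hF b2]; ring
  by_cases hab : a = b
  · right
    have hca : c = a := mul_left_cancel₀ (mul_ne_zero ha0 ha0)
      (by rw [← hab] at hprod; rw [hprod, ← cube_eq_one hF ha0]; ring)
    refine ⟨a, ha0, funext fun l => ?_⟩
    have hl : ∀ i, v i ≠ 0 → u i * v i ^ 2 * v i = u i := fun i hi => by
      rw [mul_assoc, ← pow_succ, cube_eq_one hF hi, mul_one]
    fin_cases l
    · exact ((hl 0 b0).symm.trans (by rw [← ha]; rfl))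
    · exact ((hl 1 b1).symm.trans (by rw [← hb, ← hab]; rfl))
    · exact ((hl 2 b2).symm.trans (by rw [← hc, hca]; rfl))
  · left
    have hce : c = a + b := mul_left_cancel₀ (mul_ne_zero ha0 hb0) (hprod.trans (cube_pair hF ha0 hb0 hab).symm)
    rw [hce]
    linear_combination (a + b) * h2

/-- Isometries respect equality of labels. -/
theorem chi_congr (hF : Fintype.card F = 2 ^ 2) {g : GL (Fin 3) F} (hg : g ∈ Cfsg.GU 3 F 2) {u v : Fin 3 → F}
    (hu : IsUnitVec u) (hv : IsUnitVec v) (h : chi u = chi v) : chi (g.val *ᵥ u) = chi (g.val *ᵥ v) := by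
  rcases orth_or_prop hF hu hv h with h' | ⟨c, hc, rfl⟩
  · exact chi_eq_of_orth hF ((hg u u).trans hu) ((hg v v).trans hv) ((hg u v).trans h')
  · rw [Matrix.mulVec_smul]
    simp only [chi, Pi.smul_apply, smul_eq_mul]
    linear_combination (g.val *ᵥ v) 0 * (g.val *ᵥ v) 1 * (g.val *ᵥ v) 2 * cube_eq_one hF hc

theorem pow_val_add {δ : F} (hδ : δ ^ 3 = 1) (i j : Fin 3) : δ ^ (i + j).val = δ ^ i.val * δ ^ j.val := by
  rw [Fin.val_add, ← pow_add]
  conv_rhs => rw [← Nat.mod_add_div (i.val + j.val) 3, pow_add, pow_mul, hδ, one_pow, mul_one]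

/-- A generalised permutation matrix with cyclic permutation and geometric entries. -/
def mono (c δ : F) (j : Fin 3) : Matrix (Fin 3) (Fin 3) F :=
  Matrix.of fun i l => if l = i + j then c * δ ^ i.val else 0

theorem mono_mul {c δ c' δ' : F} (hδ' : δ' ^ 3 = 1) (j j' : Fin 3) :
    mono c δ j * mono c' δ' j' = mono (c * c' * δ' ^ j.val) (δ * δ') (j + j') := by
  refine Matrix.ext fun i l => ?_
  simp only [Matrix.mul_apply, mono, Matrix.of_apply]
  rw [Finset.sum_eq_single (i + j) (fun z _ hz => by rw [if_neg hz, zero_mul])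
    (fun h => absurd (Finset.mem_univ _) h), if_pos rfl, pow_val_add hδ', mul_pow, add_assoc]
  split_ifs <;> ring

theorem mono_one : mono (1 : F) 1 0 = 1 := by
  refine Matrix.ext fun i l => ?_
  simp [mono, Matrix.one_apply, eq_comm]

/-- The extraspecial group of order `27`. -/
def extraSet (F : Type*) [Field F] : Set (GL (Fin 3) F) :=
  {g | ∃ (c δ : F) (j : Fin 3), c ^ 3 = 1 ∧ δ ^ 3 = 1 ∧ g.val = mono c δ j}

theorem extra_mul {g h : GL (Fin 3) F} (hg : g ∈ extraSet F) (hh : h ∈ extraSet F) : g * h ∈ extraSet F := by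
  obtain ⟨c, δ, j, hc, hδ, eg⟩ := hg
  obtain ⟨c', δ', j', hc', hδ', eh⟩ := hh
  refine ⟨_, _, _, ?_, ?_, by rw [Units.val_mul, eg, eh, mono_mul hδ']⟩
  · rw [mul_pow, mul_pow, hc, hc', ← pow_mul, mul_comm j.val, pow_mul, hδ', one_pow, mul_one, mul_one]
  · rw [mul_pow, hδ, hδ', mul_one]

theorem extra_pow {g : GL (Fin 3) F} (hg : g ∈ extraSet F) : g ^ 3 = 1 := by
  obtain ⟨c, δ, j, hc, hδ, eg⟩ := hg
  refine Units.ext ?_
  rw [Units.val_pow_eq_pow_val, eg, pow_succ, sq, mono_mul hδ, mono_mul hδ, Units.val_one, ← mono_one]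
  have hj : j + j + j = 0 := by clear eg; revert j; decide
  rw [hj, show δ * δ * δ = 1 by rw [← hδ]; ring]
  congr 1
  have hδj : δ ^ (j + j).val = δ ^ j.val * δ ^ j.val := pow_val_add hδ j j
  rw [hδj]
  have h3 : (δ ^ j.val) ^ 3 = 1 := by rw [← pow_mul, mul_comm, pow_mul, hδ, one_pow]
  calc c * c * δ ^ j.val * c * (δ ^ j.val * δ ^ j.val) = c ^ 3 * (δ ^ j.val) ^ 3 := by ring
    _ = 1 := by rw [hc, h3, mul_one]

/-- The extraspecial group of order `27` as a subgroup. -/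
def extraGroup (F : Type*) [Field F] [Fintype F] : Subgroup (GL (Fin 3) F) where
  carrier := extraSet F
  one_mem' := ⟨1, 1, 0, one_pow 3, one_pow 3, mono_one.symm⟩
  mul_mem' := extra_mul
  inv_mem' := fun {g} hg => by
    rw [inv_eq_of_mul_eq_one_right (show g * g ^ 2 = 1 by rw [← pow_succ']; exact extra_pow hg), sq]
    exact extra_mul hg hg

theorem extra_le_GU (hF : Fintype.card F = 2 ^ 2) : extraGroup F ≤ Cfsg.GU 3 F 2 := by
  rintro g ⟨c, δ, j, hc, hδ, eg⟩
  rw [mem_GU_iff hF, eg]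
  refine Matrix.ext fun i l => ?_
  simp only [Matrix.mul_apply, adjt_apply, mono, Matrix.of_apply, Matrix.one_apply, mul_ite, mul_zero]
  rw [Finset.sum_eq_single (l - j) (fun z _ hz => if_neg fun h => hz (by rw [h, add_sub_cancel_right]))
    (fun h => absurd (Finset.mem_univ _) h), if_pos (sub_add_cancel l j).symm]
  by_cases hil : i = l
  · subst hil
    rw [if_pos (sub_add_cancel i j).symm, if_pos rfl, ← pow_succ]
    rw [mul_pow, hc, ← pow_mul, mul_comm _ 3, pow_mul, hδ, one_pow, mul_one]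
  · rw [if_neg hil, if_neg (fun h => hil (by rw [h, sub_add_cancel])), zero_pow two_ne_zero, zero_mul]

theorem chi_extra (hF : Fintype.card F = 2 ^ 2) {g : GL (Fin 3) F} (hg : g ∈ extraGroup F) (v : Fin 3 → F) :
    chi (g.val *ᵥ v) = chi v := by
  obtain ⟨c, δ, j, hc, hδ, eg⟩ := hg
  have e : ∀ i, (g.val *ᵥ v) i = c * δ ^ i.val * v (i + j) := fun i => by
    simp [eg, Matrix.mulVec, dotProduct, mono]
  simp only [chi, e]
  fin_cases j <;> simp <;> linear_combination (v 0 * v 1 * v 2) * c ^ 3 * hδ + (v 0 * v 1 * v 2) * hc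

theorem det_extra (hF : Fintype.card F = 2 ^ 2) {g : GL (Fin 3) F} (hg : g ∈ extraGroup F) : g.val.det = 1 := by
  obtain ⟨c, δ, j, hc, hδ, eg⟩ := hg
  rw [eg, Matrix.det_fin_three]
  fin_cases j <;> simp [mono] <;> linear_combination c ^ 3 * hδ + hc

/-- A monomial isometry of determinant one and order three lies in the group. -/
theorem mem_extra_of_chi (hF : Fintype.card F = 2 ^ 2) {k : GL (Fin 3) F} (hk : k ∈ Cfsg.GU 3 F 2)
    (hdet : k.val.det = 1) (h3 : k ^ 3 = 1) (hchi : ∀ v, IsUnitVec v → chi (k.val *ᵥ v) = chi v) :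
    k ∈ extraGroup F := by
  have hcol : ∀ l : Fin 3, ∃ i, k.val i l ≠ 0 ∧ ∀ i', i' ≠ i → k.val i' l = 0 := by
    intro l
    have hu : IsUnitVec (Pi.single l (1 : F)) := by
      rw [IsUnitVec, herm_three]
      fin_cases l <;> simp
    have hu' : IsUnitVec (k.val *ᵥ Pi.single l (1 : F)) := (hk _ _).trans hu
    have hc := hchi _ hu
    have hz : chi (Pi.single l (1 : F)) = 0 := by fin_cases l <;> simp [chi]
    rw [hz] at hc
    simp only [Matrix.mulVec_single_one] at hu' hc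
    rcases unit_support hF hu' with ⟨a, b, c⟩ | ⟨a, b, c⟩ | ⟨a, b, c⟩ | ⟨a, b, c⟩
    · exact ⟨0, a, fun i hi => by fin_cases i <;> first | exact absurd rfl hi | exact b | exact c⟩
    · exact ⟨1, b, fun i hi => by fin_cases i <;> first | exact absurd rfl hi | exact a | exact c⟩
    · exact ⟨2, c, fun i hi => by fin_cases i <;> first | exact absurd rfl hi | exact a | exact b⟩
    · exact absurd hc (mul_ne_zero (mul_ne_zero a b) c)
  choose π hπ0 hπ using hcol
  have hke : ∀ l, k.val *ᵥ Pi.single l (1 : F) = k.val (π l) l • Pi.single (π l) (1 : F) := fun l => by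
    rw [Matrix.mulVec_single_one]
    funext i
    rcases eq_or_ne i (π l) with rfl | hi
    · simp [Matrix.transpose]
    · simp [hi, Matrix.transpose, hπ l i hi]
  have hπ3 : ∀ l, π (π (π l)) = l := fun l => by
    by_contra hne
    have h : ((k ^ 3).val *ᵥ Pi.single l (1 : F)) l = ((1 : GL (Fin 3) F).val *ᵥ Pi.single l (1 : F)) l := by
      rw [h3]
    rw [Units.val_pow_eq_pow_val, pow_three, ← Matrix.mulVec_mulVec, ← Matrix.mulVec_mulVec, hke,
      Matrix.mulVec_smul, hke, smul_smul, Matrix.mulVec_smul, hke, smul_smul, Units.val_one, Matrix.one_mulVec,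
      Pi.smul_apply, Pi.single_eq_same, Pi.single_eq_of_ne (Ne.symm hne), smul_zero] at h
    exact zero_ne_one h
  have hshift : ∀ π : Fin 3 → Fin 3, (∀ l, π (π (π l)) = l) → ∃ j : Fin 3, ∀ l, π l + j = l := by decide
  obtain ⟨j, hj⟩ := hshift π hπ3
  have hd : ∀ i, k.val i (i + j) ≠ 0 := fun i => by
    have : π (i + j) = i := add_right_cancel (hj (i + j))
    simpa [this] using hπ0 (i + j)
  have hent : ∀ i l, k.val i l = if l = i + j then k.val i (i + j) else 0 := fun i l => by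
    split_ifs with h
    · rw [h]
    · exact hπ l i fun e => h (by rw [e, hj])
  set c := k.val 0 (0 + j) with hc
  set δ := k.val 1 (1 + j) * c ^ 2 with hδ
  have hc3 : c ^ 3 = 1 := cube_eq_one hF (hd 0)
  have hprod : k.val 0 (0 + j) * k.val 1 (1 + j) * k.val 2 (2 + j) = 1 := by
    have hk' : k.val = Matrix.of fun i l => if l = i + j then k.val i (i + j) else 0 := Matrix.ext hent
    generalize hf : (fun i => k.val i (i + j)) = f
    have hf' : ∀ i, k.val i (i + j) = f i := fun i => congrFun hf i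
    simp only [hf'] at hk' ⊢
    rw [hk', Matrix.det_fin_three] at hdet
    simp only [Matrix.of_apply] at hdet
    clear_value c
    clear hδ hc hc3 hd hent hf hf' hk' hj
    fin_cases j <;> simp at hdet <;> linear_combination hdet
  refine ⟨c, δ, j, hc3, ?_, Matrix.ext fun i l => ?_⟩
  · rw [hδ, mul_pow, cube_eq_one hF (hd 1), ← pow_mul, mul_comm 2, pow_mul, hc3, one_pow, mul_one]
  · rw [mono, Matrix.of_apply, hent i l]
    split_ifs
    swap
    · rfl
    fin_cases i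
    · simp [hc]
    · show k.val 1 (1 + j) = c * δ ^ 1
      rw [hδ, pow_one]
      linear_combination (-(k.val 1 (1 + j))) * hc3
    · show k.val 2 (2 + j) = c * δ ^ 2
      refine mul_left_cancel₀ (mul_ne_zero (hd 0) (hd 1)) ?_
      rw [hprod, hδ, ← hc]
      linear_combination (-(c ^ 3 + 1) * (k.val 1 (1 + j)) ^ 3) * hc3 - cube_eq_one hF (hd 1)

/-- The extraspecial group is normal in the unitary group. -/
theorem extra_normal (hF : Fintype.card F = 2 ^ 2) {g : GL (Fin 3) F} (hg : g ∈ Cfsg.GU 3 F 2) {r : GL (Fin 3) F}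
    (hr : r ∈ extraGroup F) : g * r * g⁻¹ ∈ extraGroup F := by
  have hrU := extra_le_GU hF hr
  refine mem_extra_of_chi hF ((Cfsg.GU 3 F 2).mul_mem ((Cfsg.GU 3 F 2).mul_mem hg hrU) ((Cfsg.GU 3 F 2).inv_mem hg))
    ?_ (by rw [conj_pow, extra_pow hr, mul_one, mul_inv_cancel]) fun v hv => ?_
  · rw [Units.val_mul, Units.val_mul, Matrix.det_mul, Matrix.det_mul, det_extra hF hr, mul_one, ← Matrix.det_mul,
      ← Units.val_mul, mul_inv_cancel, Units.val_one, Matrix.det_one]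
  · have hgi := (Cfsg.GU 3 F 2).inv_mem hg
    rw [Units.val_mul, Units.val_mul, ← Matrix.mulVec_mulVec, ← Matrix.mulVec_mulVec]
    have hu : IsUnitVec ((g⁻¹).val *ᵥ v) := (hgi v v).trans hv
    rw [chi_congr hF hg (u := r.val *ᵥ ((g⁻¹).val *ᵥ v)) (v := (g⁻¹).val *ᵥ v) ((hrU _ _).trans hu) hu
      (chi_extra hF hr _), Matrix.mulVec_mulVec, ← Units.val_mul,
      mul_inv_cancel, Units.val_one, Matrix.one_mulVec]

/-- The commutator of two elements of the group is scalar. -/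
theorem extra_comm {g h : GL (Fin 3) F} (hg : g ∈ extraGroup F) (hh : h ∈ extraGroup F) :
    g * h * g⁻¹ * h⁻¹ ∈ scalars (Fin 3) F := by
  obtain ⟨c, δ, j, hc, hδ, eg⟩ := hg
  obtain ⟨c', δ', j', hc', hδ', eh⟩ := hh
  have hd : δ ^ j'.val ≠ 0 := pow_ne_zero _ fun h => by simp [h] at hδ
  have hd' : δ' ^ j.val ≠ 0 := pow_ne_zero _ fun h => by simp [h] at hδ'
  have hs : ∃ s : F, s ≠ 0 ∧ (g * h).val = s • (h * g).val := by
    refine ⟨δ' ^ j.val / δ ^ j'.val, div_ne_zero hd' hd, ?_⟩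
    rw [Units.val_mul, Units.val_mul, eg, eh, mono_mul hδ', mono_mul hδ, add_comm j', mul_comm δ']
    refine Matrix.ext fun i l => ?_
    simp only [mono, Matrix.smul_apply, Matrix.of_apply, smul_eq_mul, mul_ite, mul_zero]
    split_ifs
    · field_simp
    · rfl
  obtain ⟨s, hs0, hs⟩ := hs
  refine (mem_scalars_iff _).2 ⟨Units.mk0 s hs0, ?_⟩
  rw [show g * h * g⁻¹ * h⁻¹ = g * h * (h * g)⁻¹ by group, Units.val_mul, hs, Matrix.smul_mul, Units.mul_inv,
    Units.val_mk0]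

theorem exists_omega (hF : Fintype.card F = 2 ^ 2) : ∃ w : F, w ^ 3 = 1 ∧ w ≠ 1 ∧ 1 + w + w ^ 2 = 0 := by
  classical
  obtain ⟨w, hw0, hw1⟩ : ∃ w : F, w ≠ 0 ∧ w ≠ 1 := by
    by_contra hne
    push Not at hne
    have hsub : (Finset.univ : Finset F) ⊆ {0, 1} := fun x _ => by
      rcases eq_or_ne x 0 with h | h
      · simp [h]
      · simp [hne x h]
    have hc := (Finset.card_le_card hsub).trans Finset.card_le_two
    rw [Finset.card_univ, hF] at hc
    norm_num at hc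
  refine ⟨w, cube_eq_one hF hw0, hw1, ?_⟩
  have h1 : (w - 1) * (1 + w + w ^ 2) = 0 := by linear_combination cube_eq_one hF hw0
  exact (mul_eq_zero.1 h1).resolve_left (sub_ne_zero.2 hw1)

/-- The element `mono c δ j` as an invertible matrix of the group. -/
theorem exists_mono {c δ : F} (hc : c ^ 3 = 1) (hδ : δ ^ 3 = 1) (j : Fin 3) :
    ∃ g ∈ extraGroup F, g.val = mono c δ j := by
  have hc0 : c ≠ 0 := fun h => by simp [h] at hc
  have hδ0 : δ ≠ 0 := fun h => by simp [h] at hδ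
  have hu : IsUnit (mono c δ j) := (Matrix.isUnit_iff_isUnit_det _).2 (isUnit_iff_ne_zero.2 (by
    rw [Matrix.det_fin_three]
    fin_cases j <;> simp [mono] <;> simp [hc0, hδ0]))
  obtain ⟨g, hg⟩ := hu
  exact ⟨g, ⟨c, δ, j, hc, hδ, hg⟩, hg⟩

/-- The group spans the matrix algebra. -/
theorem adj_extra (hF : Fintype.card F = 2 ^ 2) :
    AschGen.adj (extraGroup F) = (⊤ : Subalgebra F (Matrix (Fin 3) (Fin 3) F)) := by
  obtain ⟨w, hw, hw1, hw2⟩ := exists_omega hF
  rw [eq_top_iff]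
  intro M _
  rw [Matrix.matrix_eq_sum_single M]
  refine sum_mem fun i _ => sum_mem fun l _ => ?_
  have hmem : ∀ a : ℕ, mono (1 : F) (w ^ a) (l - i) ∈ AschGen.adj (extraGroup F) := fun a => by
    obtain ⟨g, hg, e⟩ := exists_mono (c := 1) (one_pow 3) (show (w ^ a) ^ 3 = 1 by rw [← pow_mul, mul_comm, pow_mul, hw, one_pow]) (l - i)
    exact e ▸ Algebra.subset_adjoin (mem_matrixSet hg)
  have e : Matrix.single i l (M i l) = M i l • (mono (1 : F) (w ^ 0) (l - i) +
      (w ^ (2 * i.val)) • mono (1 : F) (w ^ 1) (l - i) + (w ^ i.val) • mono (1 : F) (w ^ 2) (l - i)) := by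
    have h2 := two_zero hF
    refine Matrix.ext fun a b => ?_
    fin_cases i <;> fin_cases l <;> fin_cases a <;> fin_cases b <;>
      simp [mono, Matrix.single_apply] <;> grind
  rw [e]
  exact Subalgebra.smul_mem _ (add_mem (add_mem (hmem 0) (Subalgebra.smul_mem _ (hmem 1) _))
    (Subalgebra.smul_mem _ (hmem 2) _)) _

/-- A subgroup normalised by the unitary group and containing a non-scalar element of the group contains
all of it. -/
theorem extra_le_of_normal (hF : Fintype.card F = 2 ^ 2) {L : Subgroup (GL (Fin 3) F)}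
    (hL : ∀ g ∈ Cfsg.GU 3 F 2, ∀ x ∈ L, g * x * g⁻¹ ∈ L) {r : GL (Fin 3) F} (hr : r ∈ extraGroup F)
    (hrL : ∀ g ∈ Cfsg.GU 3 F 2, g * r * g⁻¹ * r⁻¹ ∈ L) (hrs : r ∉ scalars (Fin 3) F) :
    extraGroup F ≤ L := by
  obtain ⟨w, hw, hw1, hw2⟩ := exists_omega hF
  have h2 := two_zero hF
  have hw0 : w ≠ 0 := fun h => by simp [h] at hw
  -- a diagonal isometry and the Fourier matrix
  obtain ⟨Q, hQU, hQv⟩ : ∃ Q ∈ Cfsg.GU 3 F 2, Q.val = !![1, 0, 0; 0, 1, 0; 0, 0, w] := by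
    let Q := Matrix.GeneralLinearGroup.mkOfDetNeZero (!![1, 0, 0; 0, 1, 0; 0, 0, w] : Matrix (Fin 3) (Fin 3) F)
      (by simp [Matrix.det_fin_three, hw0])
    refine ⟨Q, (mem_GU_iff hF).2 (Matrix.ext fun i l => ?_), rfl⟩
    fin_cases i <;> fin_cases l <;>
      simp [Q, Matrix.mul_apply, Fin.sum_univ_three, adjt_apply] <;> grind
  obtain ⟨T, hTU, hTv⟩ : ∃ T ∈ Cfsg.GU 3 F 2, T.val = !![1, 1, 1; 1, w, w ^ 2; 1, w ^ 2, w] := by
    set M : Matrix (Fin 3) (Fin 3) F := !![1, 1, 1; 1, w, w ^ 2; 1, w ^ 2, w]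
    have hM : adjt hF M * M = 1 := by
      refine Matrix.ext fun i l => ?_
      fin_cases i <;> fin_cases l <;> simp [M, Matrix.mul_apply, Fin.sum_univ_three, adjt_apply] <;> grind
    have hdet : M.det ≠ 0 := fun h => by
      have := congrArg Matrix.det hM
      rw [Matrix.det_mul, h, mul_zero, Matrix.det_one] at this
      exact zero_ne_one this
    exact ⟨Matrix.GeneralLinearGroup.mkOfDetNeZero M hdet, (mem_GU_iff hF).2 hM, rfl⟩
  have hconjQ : ∀ c δ : F, ∀ j : Fin 3, j ≠ 0 → ∀ g : GL (Fin 3) F, g.val = mono c δ j →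
      ∃ c' δ' : F, c' ^ 3 = 1 ∧ δ' ^ 3 = 1 ∧ δ' ≠ 1 ∧ (Q * g * Q⁻¹ * g⁻¹).val = mono c' δ' 0 := by
    intro c δ j hj g hg
    have hrel : ∃ c' δ' : F, c' ^ 3 = 1 ∧ δ' ^ 3 = 1 ∧ δ' ≠ 1 ∧ (Q * g).val = mono c' δ' 0 * (g * Q).val := by
      fin_cases j
      · exact absurd rfl hj
      · refine ⟨1, w ^ 2, one_pow 3, by rw [← pow_mul, mul_comm, pow_mul, hw, one_pow], fun h => hw1 (by grind), ?_⟩
        refine Matrix.ext fun i l => ?_
        rw [Units.val_mul, Units.val_mul, hQv, hg]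
        fin_cases i <;> fin_cases l <;> simp [Matrix.mul_apply, Fin.sum_univ_three, mono] <;> grind
      · refine ⟨w ^ 2, w, by rw [← pow_mul, mul_comm, pow_mul, hw, one_pow], hw, hw1, ?_⟩
        refine Matrix.ext fun i l => ?_
        rw [Units.val_mul, Units.val_mul, hQv, hg]
        fin_cases i <;> fin_cases l <;> simp [Matrix.mul_apply, Fin.sum_univ_three, mono] <;> grind
    obtain ⟨c', δ', h1, h3, h4, h5⟩ := hrel
    refine ⟨c', δ', h1, h3, h4, ?_⟩
    rw [show Q * g * Q⁻¹ * g⁻¹ = Q * g * (g * Q)⁻¹ by group, Units.val_mul, h5, mul_assoc, Units.mul_inv, mul_one]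
  have hconjT : ∀ c δ : F, δ ^ 3 = 1 → δ ≠ 1 → ∀ g : GL (Fin 3) F, g.val = mono c δ 0 →
      ∃ j : Fin 3, j ≠ 0 ∧ (T * g * T⁻¹).val = mono c 1 j := by
    intro c δ hδ hδ1 g hg
    have hrel : ∃ j : Fin 3, j ≠ 0 ∧ (T * g).val = mono c 1 j * T.val := by
      have hδw : δ = w ∨ δ = w ^ 2 := by
        have h1 : (δ - 1) * ((δ - w) * (δ - w ^ 2)) = 0 := by grind
        rcases mul_eq_zero.1 ((mul_eq_zero.1 h1).resolve_left (sub_ne_zero.2 hδ1)) with h | h
        · exact Or.inl (sub_eq_zero.1 h)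
        · exact Or.inr (sub_eq_zero.1 h)
      rcases hδw with rfl | rfl
      · refine ⟨1, by decide, Matrix.ext fun i l => ?_⟩
        rw [Units.val_mul, hTv, hg]
        fin_cases i <;> fin_cases l <;> simp [Matrix.mul_apply, Fin.sum_univ_three, mono] <;> grind
      · refine ⟨2, by decide, Matrix.ext fun i l => ?_⟩
        rw [Units.val_mul, hTv, hg]
        fin_cases i <;> fin_cases l <;> simp [Matrix.mul_apply, Fin.sum_univ_three, mono] <;> grind
    obtain ⟨j, hj, h⟩ := hrel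
    exact ⟨j, hj, by rw [Units.val_mul, h, mul_assoc, Units.mul_inv, mul_one]⟩
  -- a diagonal and a shift element of `L`
  obtain ⟨x, hxL, c, δ, hc, hδ, hδ1, hx⟩ : ∃ x ∈ L, ∃ c δ : F, c ^ 3 = 1 ∧ δ ^ 3 = 1 ∧ δ ≠ 1 ∧ x.val = mono c δ 0 := by
    obtain ⟨c, δ, j, hc, hδ, hrv⟩ := hr
    by_cases hj : j = 0
    · subst hj
      have hδ1 : δ ≠ 1 := fun h => hrs ((mem_scalars_iff r).2 ⟨Units.mk0 c (fun h0 => by simp [h0] at hc), by
        rw [hrv, h]
        refine Matrix.ext fun i l => ?_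
        simp [mono, Matrix.one_apply, eq_comm]⟩)
      obtain ⟨j, hj, hT⟩ := hconjT c δ hδ hδ1 r hrv
      obtain ⟨r', hr', hr'v⟩ := exists_mono (c := c ^ 2) (by rw [← pow_mul, mul_comm, pow_mul, hc, one_pow])
        (show (δ ^ 2) ^ 3 = 1 by rw [← pow_mul, mul_comm, pow_mul, hδ, one_pow]) 0
      have hinv : r⁻¹ = r' := inv_eq_of_mul_eq_one_right (Units.ext (by
        rw [Units.val_mul, hrv, hr'v, mono_mul (by rw [← pow_mul, mul_comm, pow_mul, hδ, one_pow]), Units.val_one,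
          ← mono_one]
        congr 1
        · simp; rw [← pow_succ', hc]
        · rw [← pow_succ', hδ]))
      have hy := hrL T hTU
      set y := T * r * T⁻¹ * r⁻¹ with hy'
      have hyv : y.val = mono (c * c ^ 2 * (δ ^ 2) ^ j.val) (1 * δ ^ 2) j := by
        rw [hy', Units.val_mul, hT, hinv, hr'v, mono_mul (by rw [← pow_mul, mul_comm, pow_mul, hδ, one_pow]),
          add_zero]
      obtain ⟨c', δ', h1, h3, h4, h5⟩ := hconjQ _ _ j hj y hyv
      exact ⟨_, L.mul_mem (hL Q hQU y hy) (inv_mem hy), c', δ', h1, h3, h4, h5⟩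
    · obtain ⟨c', δ', h1, h3, h4, h5⟩ := hconjQ c δ j hj r hrv
      exact ⟨_, hrL Q hQU, c', δ', h1, h3, h4, h5⟩
  obtain ⟨j, hj, hy⟩ := hconjT c δ hδ hδ1 x hx
  set y := T * x * T⁻¹ with hy'
  have hyL : y ∈ L := hL T hTU x hxL
  have hc0 : c ≠ 0 := fun h => by simp [h] at hc
  -- the scalars of order three
  obtain ⟨z, hzL, s, hs, hs1, hz⟩ : ∃ z ∈ L, ∃ s : F, s ^ 3 = 1 ∧ s ≠ 1 ∧ z.val = mono s 1 0 := by
    refine ⟨y * x * y⁻¹ * x⁻¹, mul_mem (mul_mem (mul_mem hyL hxL) (inv_mem hyL)) (inv_mem hxL), δ ^ j.val,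
      by rw [← pow_mul, mul_comm, pow_mul, hδ, one_pow], fun h => ?_, ?_⟩
    · fin_cases j
      · exact hj rfl
      · exact hδ1 (by simpa using h)
      · refine hδ1 ?_
        simp only at h
        calc δ = δ * δ ^ 2 := by rw [h, mul_one]
          _ = 1 := by rw [← pow_succ', hδ]
    · rw [show y * x * y⁻¹ * x⁻¹ = y * x * (x * y)⁻¹ by group, Units.val_mul,
        show (y * x).val = mono (δ ^ j.val) 1 0 * (x * y).val by
          rw [Units.val_mul y x, Units.val_mul x y, hx, hy, mono_mul hδ, mono_mul (one_pow 3), mono_mul (by rw [mul_one]; exact hδ)]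
          congr 1 <;> simp <;> ring,
        mul_assoc, Units.mul_inv, mul_one]
  have hpow : ∀ (g : GL (Fin 3) F) (a d : F) (i : Fin 3), d ^ 3 = 1 → g.val = mono a d i → ∀ k : ℕ,
      ∃ b, (g ^ k).val = mono b (d ^ k) (k • i) := by
    intro g a d i hd hg k
    induction k with
    | zero => exact ⟨1, by simp [mono_one]⟩
    | succ k ih =>
      obtain ⟨b, hb⟩ := ih
      exact ⟨_, by rw [pow_succ g, Units.val_mul, hb, hg, mono_mul hd, pow_succ d, succ_nsmul]⟩
  rintro g ⟨a, d, i, ha, hd, hgv⟩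
  have hd3 : ∀ u : F, u ^ 3 = 1 → u ≠ 1 → ∀ v : F, v ^ 3 = 1 → ∃ k : ℕ, u ^ k = v := fun u hu hu1 v hv => by
    have hu2 : 1 + u + u ^ 2 = 0 := (mul_eq_zero.1
      (show (u - 1) * (1 + u + u ^ 2) = 0 by linear_combination hu)).resolve_left (sub_ne_zero.2 hu1)
    have h1 : (v - 1) * ((v - u) * (v - u ^ 2)) = 0 := by grind
    rcases mul_eq_zero.1 h1 with h | h
    · exact ⟨0, by rw [pow_zero, sub_eq_zero.1 h]⟩
    rcases mul_eq_zero.1 h with h | h
    · exact ⟨1, by rw [pow_one, sub_eq_zero.1 h]⟩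
    · exact ⟨2, (sub_eq_zero.1 h).symm⟩
  obtain ⟨k1, hk1⟩ := hd3 δ hδ hδ1 d hd
  obtain ⟨k2, hk2⟩ : ∃ k : ℕ, k • j = i := by
    have : ∀ j i : Fin 3, j ≠ 0 → ∃ k : Fin 3, k.val • j = i := by decide
    obtain ⟨k, hk⟩ := this j i hj
    exact ⟨k.val, hk⟩
  obtain ⟨b1, hb1⟩ := hpow x c δ 0 hδ hx k1
  obtain ⟨b2, hb2⟩ := hpow y c 1 j (one_pow 3) hy k2
  have hb1' : b1 ≠ 0 := fun h => (x ^ k1).ne_zero (by rw [hb1, h]; ext; simp [mono])
  have hb2' : b2 ≠ 0 := fun h => (y ^ k2).ne_zero (by rw [hb2, h]; ext; simp [mono])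
  obtain ⟨k3, hk3⟩ := hd3 s hs hs1 (a / (b1 * b2)) (cube_eq_one hF (div_ne_zero (fun h => by simp [h] at ha)
    (mul_ne_zero hb1' hb2')))
  obtain ⟨b3, hb3⟩ := hpow z s 1 0 (one_pow 3) hz k3
  have hb3' : b3 = s ^ k3 := by
    have e : (z ^ k3).val = mono (s ^ k3) 1 0 := by
      clear hb3 hk3
      induction k3 with
      | zero => simp [mono_one]
      | succ k ih => rw [pow_succ, Units.val_mul, ih, hz, mono_mul (one_pow 3)]; simp [pow_succ]
    have := congrFun (congrFun (hb3.symm.trans e) 0) 0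
    simpa [mono] using this
  have hmain : g = z ^ k3 * (x ^ k1 * y ^ k2) := Units.ext (by
    rw [Units.val_mul, Units.val_mul, hb1, hb2, hb3, hgv, hb3', mono_mul (by simp), mono_mul (by simp [hk1, hd]),
      smul_zero, smul_zero, zero_add, zero_add, hk2, hk3, hk1]
    congr 1 <;> simp [div_mul_cancel₀, mul_ne_zero hb1' hb2'])
  rw [hmain]
  exact mul_mem (pow_mem hzL k3) (mul_mem (pow_mem hxL k1) (pow_mem hyL k2))

end Cfsg.Lib.Linear.AschU
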