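import Cfsg.Agent.Lib.Linear.AschU.NotSU

/-!
# Orthonormal frames in four dimensions over the field of nine elements

The stabiliser of such a frame is not maximal in the special unitary group: it normalises
the group of signed permutation matrices of the four-group.
-/

set_option autoImplicit false
set_option linter.unusedSectionVars false
set_option linter.style.haveILetI false

namespace Cfsg.Lib.Linear.AschU

open Cfsg.Geo Cfsg.Lib.Linear Cfsg.Lib.Linear.Herm Cfsg.Lib.Linear.Asch
open scoped Matrix MatrixGroups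

namespace FourFrame

/-- The regular representation of the four-group. -/
def vx : Fin 4 → Fin 4 → Fin 4 := ![![0, 1, 2, 3], ![1, 0, 3, 2], ![2, 3, 0, 1], ![3, 2, 1, 0]]

/-- The parity of a sign vector. -/
def par (ε : Fin 4 → Bool) : Bool := ((ε 0).xor (ε 1)).xor ((ε 2).xor (ε 3))

/-- A signed permutation matrix of the four-group. -/
def MZ (j : Fin 4) (ε : Fin 4 → Bool) : Matrix (Fin 4) (Fin 4) ℤ :=
  Matrix.of fun a b => if a = vx j b then (if ε b then -1 else 1) else 0

/-- A Hadamard matrix. -/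
def TZ : Matrix (Fin 4) (Fin 4) ℤ := !![1, 1, 1, 1; 1, -1, 1, -1; 1, 1, -1, -1; 1, -1, -1, 1]

theorem TZ_conj : ∀ (j : Fin 4) (ε : Fin 4 → Bool), par ε = false → ∃ j' ε', par ε' = false ∧
    ∀ a b, (TZ * MZ j ε * TZ) a b = 4 * MZ j' ε' a b := by
  decide +kernel

theorem TZ_sq : ∀ a b, (TZ * TZ) a b = if a = b then 4 else 0 := by decide +kernel

theorem TZ_det : TZ.det = 16 := by decide +kernel

theorem perm_vx : ∀ (σ : Equiv.Perm (Fin 4)) (j : Fin 4), ∃ j', ∀ b, σ (vx j b) = vx j' (σ b) := by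
  decide +kernel

theorem par_perm : ∀ (σ : Equiv.Perm (Fin 4)) (ε : Fin 4 → Bool), par (ε ∘ σ) = par ε := by
  decide +kernel

theorem par_xor : ∀ ε u : Fin 4 → Bool, par (fun b => (ε b).xor (u b)) = (par ε).xor (par u) := by
  decide +kernel

theorem par_vx : ∀ (t : Fin 4 → Bool) (j : Fin 4), par t = false →
    ∀ b, (t (vx j b)).xor (t b) = (t (vx j 0)).xor (t 0) := by
  decide +kernel

theorem vx_three : ∀ j : Fin 4, vx j 3 = 3 → j = 0 := by decide

theorem par_three : ∀ ε : Fin 4 → Bool, par ε = false → ε 0 = ε 1 → ε 1 = ε 2 → ε 3 = ε 0 := by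
  decide

theorem prod_vx : ∀ j : Fin 4, Function.Injective (vx j) := by decide

variable {F : Type*} [Field F]

/-- The sign of a truth value. -/
def sg (b : Bool) : F := if b then -1 else 1

theorem sg_xor (a b : Bool) : (sg (a.xor b) : F) = sg a * sg b := by
  cases a <;> cases b <;> simp [sg]

theorem sg_sq (a : Bool) : (sg a : F) * sg a = 1 := by cases a <;> simp [sg]

theorem sg_ne_zero (a : Bool) : (sg a : F) ≠ 0 := by cases a <;> simp [sg]

theorem sg_injective (h2 : (2 : F) ≠ 0) : Function.Injective (sg : Bool → F) := by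
  intro a b h
  cases a <;> cases b <;> simp [sg] at h ⊢
  · exact h2 (by linear_combination h)
  · exact h2 (by linear_combination -h)

theorem prod_sg (t : Fin 4 → Bool) : ∏ b, (sg (t b) : F) = sg (par t) := by
  simp only [par, sg_xor, Fin.prod_univ_four]
  ring

/-- The signed permutation matrix over a field. -/
def MF (j : Fin 4) (ε : Fin 4 → Bool) : Matrix (Fin 4) (Fin 4) F :=
  Matrix.of fun a b => if a = vx j b then sg (ε b) else 0

theorem MF_eq (j : Fin 4) (ε : Fin 4 → Bool) :
    (MF j ε : Matrix (Fin 4) (Fin 4) F) = (MZ j ε).map (Int.castRingHom F) := by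
  refine Matrix.ext fun a b => ?_
  by_cases h : a = vx j b <;> cases hb : ε b <;> simp [MF, MZ, sg, h, hb]

/-- The scalar multiples of the signed permutation matrices of even parity. -/
def Sgn (x : GL (Fin 4) F) : Prop :=
  ∃ (c : F) (j : Fin 4) (ε : Fin 4 → Bool), c ^ 4 = 1 ∧ par ε = false ∧ x.val = c • MF j ε

/-- The normaliser of the signed permutations. -/
def sgnNormalizer : Subgroup (GL (Fin 4) F) where
  carrier := {g | ∀ x, Sgn x ↔ Sgn (g * x * g⁻¹)}
  one_mem' x := by simp
  mul_mem' {a b} ha hb x := by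
    rw [hb x, ha]
    group
  inv_mem' {a} ha x := by
    rw [ha (a⁻¹ * x * a⁻¹⁻¹)]
    group

theorem mem_sgnNormalizer [Finite F] {g : GL (Fin 4) F} (h : ∀ x, Sgn x → Sgn (g * x * g⁻¹)) :
    g ∈ (sgnNormalizer : Subgroup (GL (Fin 4) F)) := by
  intro x
  refine ⟨h x, fun hx => ?_⟩
  haveI : Finite {x : GL (Fin 4) F // Sgn x} := inferInstance
  have hinj : Function.Injective fun y : {x : GL (Fin 4) F // Sgn x} =>
      (⟨g * y.1 * g⁻¹, h _ y.2⟩ : {x : GL (Fin 4) F // Sgn x}) := fun y z e => by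
    have h1 := congrArg Subtype.val e
    exact Subtype.ext (mul_left_cancel (mul_right_cancel h1))
  obtain ⟨y, hy⟩ := Finite.injective_iff_surjective.1 hinj ⟨_, hx⟩
  have h1 := congrArg Subtype.val hy
  rw [← mul_left_cancel (mul_right_cancel h1)]
  exact y.2

theorem card_three [Fintype F] (hF : Fintype.card F = 3 ^ 2) : (3 : F) = 0 := by
  have h := FiniteField.cast_card_eq_zero F
  rw [hF] at h
  push_cast at h
  exact mul_self_eq_zero.1 (show (3 : F) * 3 = 0 by linear_combination h)

/-- Monomial isometries of determinant one normalise the signed permutations. -/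
theorem monomial_mem [Fintype F] (hF : Fintype.card F = 3 ^ 2) {Y : GL (Fin 4) F} (hY : Y ∈ sunit 4 F 3)
    (σ : Equiv.Perm (Fin 4)) (d : Fin 4 → F) (hYv : ∀ a b, Y.val a b = if a = σ b then d b else 0) :
    Y ∈ (sgnNormalizer : Subgroup (GL (Fin 4) F)) := by
  classical
  have h3 := card_three hF
  have h2 : (2 : F) ≠ 0 := fun h => one_ne_zero (α := F) (by linear_combination h3 - h)
  have hd4 : ∀ b, d b ^ 4 = 1 := fun b => by
    have h1 := congrFun (congrFun ((mem_GU_iff hF).1 hY.1) b) b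
    simp only [Matrix.mul_apply, adjt_apply, hYv, Matrix.one_apply_eq] at h1
    rw [Finset.sum_eq_single (σ b) (fun a _ ha => by simp [ha]) (by simp), if_pos rfl] at h1
    linear_combination h1
  have hd0 : ∀ b, d b ≠ 0 := fun b h => by simpa [h] using hd4 b
  have hdet : (Equiv.Perm.sign σ⁻¹ : ℤ) • ∏ b, d b = 1 := by
    have h1 : Y.val = (Matrix.diagonal d).submatrix (⇑σ⁻¹) id := Matrix.ext fun a b => by
      rw [hYv, Matrix.submatrix_apply, Matrix.diagonal_apply]
      by_cases h : a = σ b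
      · subst h; simp
      · rw [if_neg h, if_neg fun e => h (by simp at e; rw [← e]; simp)]
    have h4 : Y.val.det = 1 := congrArg Units.val hY.2
    rw [h1, Matrix.det_permute, Matrix.det_diagonal] at h4
    rw [zsmul_eq_mul]
    exact h4
  have hsgn : ∀ b, d b * d b = 1 ∨ d b * d b = -1 := fun b =>
    mul_self_eq_one_iff.1 (by linear_combination hd4 b)
  choose t ht using fun b => (show ∃ u : Bool, d b * d b = sg u from
    (hsgn b).elim (fun h => ⟨false, by simpa [sg] using h⟩) fun h => ⟨true, by simpa [sg] using h⟩)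
  have hpt : par t = false := sg_injective h2 (by
    rw [← prod_sg, ← Finset.prod_congr rfl fun b _ => ht b, Finset.prod_mul_distrib]
    rcases Int.units_eq_one_or (Equiv.Perm.sign σ⁻¹) with h | h <;> rw [h] at hdet <;>
      simp at hdet <;> simp [sg]
    · rw [hdet, one_mul]
    · rw [show ∏ b, d b = -1 by linear_combination -hdet]; ring)
  refine mem_sgnNormalizer fun x ⟨c, j, ε, hc, hε, hx⟩ => ?_
  obtain ⟨j', hj'⟩ := perm_vx σ j
  set ρ : Fin 4 → F := fun b => d (vx j b) / d b with hρ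
  have hρsq : ∀ b, ρ b * ρ b = ρ 0 * ρ 0 := fun b => by
    have h1 : ∀ b, ρ b * ρ b = sg ((t (vx j b)).xor (t b)) := fun b => by
      rw [hρ, sg_xor]
      simp only
      rw [div_mul_div_comm, ht, ht, div_eq_iff (sg_ne_zero _), mul_assoc, sg_sq, mul_one]
    rw [h1, h1, par_vx t j hpt b]
  have hρ0 : ρ 0 ≠ 0 := div_ne_zero (hd0 _) (hd0 _)
  choose u hu using fun b => (show ∃ u : Bool, ρ b = ρ 0 * sg u from
    (mul_self_eq_mul_self_iff.1 (hρsq b)).elim (fun h => ⟨false, by simp [sg, h]⟩)
      fun h => ⟨true, by simp [sg, h]⟩)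
  have hρ4 : ρ 0 ^ 4 = 1 := by
    rw [hρ]
    simp only [div_pow, hd4, div_one]
  have hpu : par u = false := sg_injective h2 (by
    rw [← prod_sg]
    have h1 : ∏ b, ρ b = 1 := by
      rw [hρ]
      simp only [Finset.prod_div_distrib]
      rw [Function.Bijective.prod_comp ⟨prod_vx j, Finite.injective_iff_surjective.1 (prod_vx j)⟩ d,
        div_self (Finset.prod_ne_zero_iff.2 fun b _ => hd0 b)]
    rw [Finset.prod_congr rfl fun b _ => hu b, Finset.prod_mul_distrib, Finset.prod_const] at h1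
    simp only [Finset.card_univ, Fintype.card_fin, hρ4, one_mul] at h1
    rw [h1]
    simp [sg])
  refine ⟨c * ρ 0, j', (fun b => (ε b).xor (u b)) ∘ σ.symm, by rw [mul_pow, hc, hρ4, mul_one], by
    rw [par_perm, par_xor, hε, hpu]; rfl, ?_⟩
  have key : Y.val * x.val = ((c * ρ 0) • MF j' ((fun b => (ε b).xor (u b)) ∘ σ.symm)) * Y.val := by
    refine Matrix.ext fun a b => ?_
    rw [Matrix.mul_apply, Matrix.mul_apply, Finset.sum_eq_single (vx j b), Finset.sum_eq_single (σ b)]
    · rw [hx, hYv, hYv, if_pos rfl]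
      simp only [Matrix.smul_apply, MF, Matrix.of_apply, smul_eq_mul, if_pos rfl, Function.comp_apply,
        Equiv.symm_apply_apply, hj', ↓reduceIte]
      by_cases h : a = vx j' (σ b)
      · rw [if_pos h, if_pos h, sg_xor]
        have h5 : d (vx j b) = ρ 0 * sg (u b) * d b := by rw [← hu, hρ]; exact (div_mul_cancel₀ _ (hd0 b)).symm
        rw [h5]; ring
      · rw [if_neg h, if_neg h]; ring
    · intro k _ hk; rw [hYv, if_neg hk, mul_zero]
    · simp
    · intro k _ hk
      rw [hx]
      simp [MF, hk]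
    · simp
  rw [Units.val_mul, Units.val_mul, key, mul_assoc, Units.mul_inv, mul_one]

end FourFrame

open FourFrame in
/-- Over the field of nine elements no maximal subgroup of `SU₄` fixes an orthogonal frame. -/
theorem frame_four_not_max {F : Type*} [Field F] [Fintype F] (hF : Fintype.card F = 3 ^ 2)
    {H : Subgroup (GL (Fin 4) F)} (hH : IsMaximalIn (sunit 4 F 3) H) {D : Fin 4 → Submodule F (Fin 4 → F)}
    (hD : IsNondegenerateMDecomposition (Cfsg.hermForm 4 F 3) 1 D) (hle : H ≤ decompositionStabilizer D) :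
    False := by
  classical
  have hU := herm_unitary (n := 4) hF
  have hf := isSesq_of_unitary hU
  have h3 := card_three hF
  obtain ⟨b, hb⟩ := decomp_gen hD.decomp
  have hbb : ∀ i, Cfsg.hermForm 4 F 3 (b i) (b i) ≠ 0 := fun i h => by
    obtain ⟨x, hx, hxb⟩ := (hD.nondegenerate i (b i) (hb i ▸ Submodule.mem_span_singleton_self _)
      (b.ne_zero i)).1
    rw [hb i] at hx
    obtain ⟨s, rfl⟩ := Submodule.mem_span_singleton.1 hx
    exact hxb (by rw [hf.smul_left, h, mul_zero])
  have hsc : ∀ i, ∃ s : Fˣ, Cfsg.hermForm 4 F 3 ((s : F) • b i) ((s : F) • b i) = 1 := fun i => by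
    obtain ⟨s, hs⟩ := exists_norm_eq hF (inv_ne_zero (hbb i))
      (by rw [inv_pow, ← sigmaE_apply hF, ← hU.herm])
    refine ⟨s, ?_⟩
    rw [hf.smul_left, hf.smul_right, sigmaE_apply, ← mul_assoc, ← pow_succ', hs, inv_mul_cancel₀ (hbb i)]
  choose s hs using hsc
  let a : Fin 4 → Fin 4 → F := fun i => (s i : F) • b i
  have haD : ∀ i, D i = Submodule.span F {a i} := fun i => by
    rw [hb i, Submodule.span_singleton_smul_eq (s i).isUnit]
  have hon : ∀ i j, Cfsg.hermForm 4 F 3 (a i) (a j) = if i = j then 1 else 0 := fun i j => by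
    by_cases h : i = j
    · subst h; rw [if_pos rfl]; exact hs i
    · rw [if_neg h]
      exact hD.orthogonal i j h _ (haD i ▸ Submodule.mem_span_singleton_self _) _
        (haD j ▸ Submodule.mem_span_singleton_self _)
  let P0 : Matrix (Fin 4) (Fin 4) F := Matrix.of fun i j => a j i
  have hP0 : adjt hF P0 * P0 = 1 := by
    refine Matrix.ext fun i j => ?_
    rw [Matrix.one_apply, show (if i = j then (1 : F) else 0) = if j = i then 1 else 0 by simp [eq_comm], ← hon j i]
    simp only [Matrix.mul_apply, adjt_apply, P0, Matrix.of_apply, Cfsg.hermForm]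
    exact Finset.sum_congr rfl fun l _ => mul_comm _ _
  let P : GL (Fin 4) F := ⟨P0, adjt hF P0, mul_eq_one_comm.1 hP0, hP0⟩
  have hPU : P ∈ Cfsg.GU 4 F 3 := (mem_GU_iff hF).2 hP0
  have hPcol : ∀ j, P.val *ᵥ Pi.single j 1 = a j := fun j => by
    rw [Matrix.mulVec_single_one]; rfl
  have hconj : ∀ g : GL (Fin 4) F, g ∈ sunit 4 F 3 → P⁻¹ * g * P ∈ sunit 4 F 3 := fun g hg =>
    ⟨Subgroup.mul_mem _ (Subgroup.mul_mem _ (Subgroup.inv_mem _ hPU) hg.1) hPU, by
      show Matrix.GeneralLinearGroup.det (P⁻¹ * g * P) = 1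
      rw [map_mul, map_mul, map_inv, show Matrix.GeneralLinearGroup.det g = 1 from hg.2, mul_one, inv_mul_cancel]⟩
  have hconj' : ∀ g : GL (Fin 4) F, g ∈ sunit 4 F 3 → P * g * P⁻¹ ∈ sunit 4 F 3 := fun g hg =>
    ⟨Subgroup.mul_mem _ (Subgroup.mul_mem _ hPU hg.1) (Subgroup.inv_mem _ hPU), by
      show Matrix.GeneralLinearGroup.det (P * g * P⁻¹) = 1
      rw [map_mul, map_mul, map_inv, show Matrix.GeneralLinearGroup.det g = 1 from hg.2, mul_one, mul_inv_cancel]⟩
  -- elements of the stabiliser are monomial in the frame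
  have hmono : ∀ g ∈ decompositionStabilizer D, ∃ (σ : Equiv.Perm (Fin 4)) (d : Fin 4 → F),
      ∀ i k, (P⁻¹ * g * P).val i k = if i = σ k then d k else 0 := by
    rintro g ⟨σ, hσ⟩
    have hd : ∀ k, ∃ d : F, d • a (σ k) = g.val *ᵥ a k := fun k => by
      have h1 : g.val *ᵥ a k ∈ D (σ k) := by
        rw [← hσ k]
        exact ⟨a k, haD k ▸ Submodule.mem_span_singleton_self _, Matrix.toLin'_apply _ _⟩
      rw [haD] at h1
      exact Submodule.mem_span_singleton.1 h1
    choose d hd using hd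
    refine ⟨σ, d, fun i k => ?_⟩
    have h1 : (P⁻¹ * g * P).val *ᵥ Pi.single k 1 = d k • (Pi.single (σ k) 1 : Fin 4 → F) := by
      rw [Units.val_mul, Units.val_mul, ← Matrix.mulVec_mulVec, hPcol, ← Matrix.mulVec_mulVec, ← hd,
        Matrix.mulVec_smul, ← hPcol, inv_mulVec_mulVec]
    rw [Matrix.mulVec_single_one] at h1
    have h2 := congrFun h1 i
    simpa [Pi.single_apply] using h2
  set N : Subgroup (GL (Fin 4) F) := sgnNormalizer.comap (MulAut.conj P⁻¹).toMonoidHom with hN
  have hmem : ∀ g, g ∈ N ↔ P⁻¹ * g * P ∈ (sgnNormalizer : Subgroup (GL (Fin 4) F)) := fun g => by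
    simp [hN]
  have hHN : H ≤ N := fun g hg => by
    rw [hmem]
    obtain ⟨σ, d, hd⟩ := hmono g (hle hg)
    exact monomial_mem hF (hconj g (hH.1.le hg)) σ d hd
  -- the Hadamard matrix
  set φ := Int.castRingHom F
  have h16 : (16 : F) = 1 := by linear_combination 5 * h3
  have h4 : (4 : F) = 1 := by linear_combination h3
  have hTT : (TZ.map φ) * (TZ.map φ) = 1 := by
    rw [← Matrix.map_mul]
    refine Matrix.ext fun i k => ?_
    rw [Matrix.map_apply, TZ_sq, Matrix.one_apply]
    split_ifs <;> simp [φ, h4]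
  let T : GL (Fin 4) F := ⟨TZ.map φ, TZ.map φ, hTT, hTT⟩
  have hTU : T ∈ sunit 4 F 3 := by
    refine ⟨(mem_GU_iff hF).2 ?_, Units.ext ?_⟩
    · have hsym : adjt hF (TZ.map φ) = TZ.map φ := Matrix.ext fun i k => by
        rw [adjt_apply, Matrix.map_apply, Matrix.map_apply, ← sigmaE_apply hF, eq_intCast, map_intCast,
          show TZ k i = TZ i k by fin_cases i <;> fin_cases k <;> rfl]
        simp [φ]
      show adjt hF (TZ.map φ) * TZ.map φ = 1
      rw [hsym, hTT]
    · show (TZ.map φ).det = 1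
      rw [← RingHom.mapMatrix_apply, ← RingHom.map_det, TZ_det]
      simp [φ, h16]
  have hTN : P * T * P⁻¹ ∈ N := by
    rw [hmem, show P⁻¹ * (P * T * P⁻¹) * P = T by group]
    refine mem_sgnNormalizer fun x ⟨c, j, ε, hc, hε, hx⟩ => ?_
    obtain ⟨j', ε', hε', he⟩ := TZ_conj j ε hε
    refine ⟨c, j', ε', hc, hε', ?_⟩
    show TZ.map φ * x.val * TZ.map φ = _
    rw [hx, Matrix.mul_smul, Matrix.smul_mul, MF_eq, ← Matrix.map_mul, ← Matrix.map_mul, MF_eq]
    congr 1
    refine Matrix.ext fun i k => ?_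
    rw [Matrix.map_apply, Matrix.map_apply, he, map_mul]
    simp [φ, h4]
  have hTD : P * T * P⁻¹ ∉ decompositionStabilizer D := fun h => by
    obtain ⟨σ, d, hd⟩ := hmono _ h
    rw [show P⁻¹ * (P * T * P⁻¹) * P = T by group] at hd
    have h0 := hd 0 0
    have h1 := hd 1 0
    simp [T, TZ, φ] at h0 h1
    exact one_ne_zero (α := F) (by
      by_cases hc : (0 : Fin 4) = σ 0
      · rw [if_neg (fun e => absurd (hc.trans e.symm) (by decide))] at h1; exact h1
      · rw [if_neg hc] at h0; exact h0)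
  -- a transvection outside the normaliser
  obtain ⟨l, hl0, hl⟩ := exists_trace hF
  set z : Fin 4 → F := ![1, 1, 1, 0] with hz
  have hzz : Cfsg.hermForm 4 F 3 z z = 0 := by
    simp [Cfsg.hermForm, hz, Fin.sum_univ_four]
    linear_combination h3
  obtain ⟨g, hg, -, hgv⟩ := exists_utv hF hzz hl
  have hgN : g ∉ (sgnNormalizer : Subgroup (GL (Fin 4) F)) := by
    intro hgn
    set ε₀ : Fin 4 → Bool := ![true, true, false, false]
    have hu0 : IsUnit (MF 0 ε₀ : Matrix (Fin 4) (Fin 4) F) := by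
      have hdd : (MF 0 ε₀ : Matrix (Fin 4) (Fin 4) F) = Matrix.diagonal fun k => sg (ε₀ k) :=
        Matrix.ext fun i k => by fin_cases i <;> fin_cases k <;> simp [MF, vx, Matrix.diagonal]
      rw [hdd]
      exact Matrix.isUnit_diagonal.2 (by simp [Pi.isUnit_iff, sg_ne_zero, isUnit_iff_ne_zero])
    obtain ⟨x, hx⟩ := hu0
    obtain ⟨c, j, ε, hc, hε, hy⟩ := (hgn x).1 ⟨1, 0, ε₀, one_pow 4, by decide, by rw [hx, one_smul]⟩
    have h1 : g.val * x.val = (c • MF j ε) * g.val := by
      rw [← hy, Units.val_mul, Units.val_mul, mul_assoc, Units.inv_mul, mul_one]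
    have hl1 : (1 : F) + l ≠ 0 := fun e => by
      obtain rfl : l = -1 := by linear_combination e
      exact one_ne_zero (α := F) (by linear_combination hl + h3)
    have h2 := congrArg (fun M => M *ᵥ (Pi.single 0 1 : Fin 4 → F)) h1
    simp only [← Matrix.mulVec_mulVec] at h2
    have hx0 : x.val *ᵥ (Pi.single 0 1 : Fin 4 → F) = -(Pi.single 0 1 : Fin 4 → F) := by
      rw [hx, Matrix.mulVec_single_one]
      funext i
      fin_cases i <;> simp [MF, vx, sg, ε₀]
    have hz0 : Cfsg.hermForm 4 F 3 (Pi.single 0 1) z = 1 := by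
      simp [Cfsg.hermForm, hz, Fin.sum_univ_four]
    have hw : g.val *ᵥ (Pi.single 0 1 : Fin 4 → F) = ![1 + l, l, l, 0] := by
      rw [hgv, hz0, mul_one]
      funext i
      fin_cases i <;> simp [hz]
    rw [hx0, Matrix.mulVec_neg, hw] at h2
    have h3' := congrFun h2 (vx j 3)
    rw [Matrix.smul_mulVec, Pi.neg_apply, Pi.smul_apply] at h3'
    have hent : ∀ k, ((MF j ε : Matrix (Fin 4) (Fin 4) F) *ᵥ ![1 + l, l, l, 0]) (vx j k) =
        sg (ε k) * ![1 + l, l, l, 0] k := fun k => by
      simp only [Matrix.mulVec, dotProduct, MF, Matrix.of_apply, (prod_vx j).eq_iff]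
      simp
    rw [hent] at h3'
    have hj : j = 0 := by
      refine vx_three j ?_
      have hne : ∀ i : Fin 4, i ≠ 3 → (![1 + l, l, l, 0] : Fin 4 → F) i ≠ 0 := by
        intro i hi
        fin_cases i <;> simp [hl0, hl1] at hi ⊢
      by_contra hne'
      exact hne _ hne' (by simpa using h3')
    subst hj
    have hvid : ∀ k : Fin 4, vx 0 k = k := by decide
    have hcs : ∀ k : Fin 4, k ≠ 3 → c * sg (ε k) = -1 := by
      intro k hk
      have h4' := congrFun h2 (vx 0 k)
      rw [Matrix.smul_mulVec, Pi.neg_apply, Pi.smul_apply, hent, smul_eq_mul] at h4'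
      rw [hvid] at h4'
      fin_cases k <;> simp at h4' hk ⊢
      · exact mul_right_cancel₀ hl1 (by linear_combination -h4')
      · exact mul_right_cancel₀ hl0 (by linear_combination -h4')
      · exact mul_right_cancel₀ hl0 (by linear_combination -h4')
    have h2' : (2 : F) ≠ 0 := fun h => one_ne_zero (α := F) (by linear_combination h3 - h)
    have hc0 : c ≠ 0 := fun e => by simp [e] at hc
    have he : ∀ k : Fin 4, k ≠ 3 → ε k = ε 0 := fun k hk =>
      sg_injective h2' (mul_left_cancel₀ hc0 ((hcs k hk).trans (hcs 0 (by decide)).symm))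
    have he3 : ε 3 = ε 0 := par_three ε hε (he 1 (by decide)).symm ((he 1 (by decide)).trans (he 2 (by decide)).symm)
    have hM : c • (MF 0 ε : Matrix (Fin 4) (Fin 4) F) = -1 := by
      refine Matrix.ext fun i k => ?_
      have hck : c * sg (ε k) = -1 := by
        by_cases hk : k = 3
        · rw [hk, he3]; exact hcs 0 (by decide)
        · exact hcs k hk
      simp only [Matrix.smul_apply, MF, Matrix.of_apply, hvid, smul_eq_mul, Matrix.neg_apply, Matrix.one_apply]
      split_ifs
      · exact hck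
      · simp
    rw [hM, neg_mul, one_mul] at h1
    have h5 : x.val = -1 := g.isUnit.mul_left_cancel (by rw [h1, mul_neg, mul_one])
    have h6 := congrFun (congrFun (hx.symm.trans h5) 2) 2
    simp [MF, vx, sg, ε₀] at h6
    exact h2' (by linear_combination h6)
  rcases hH.2 (N ⊓ sunit 4 F 3) (le_inf hHN hH.1.le) inf_le_right with h | h
  · exact hTD (hle (h ▸ ⟨hTN, hconj' T hTU⟩))
  · have h1 : P * g * P⁻¹ ∈ N := (h.symm ▸ hconj' g hg : P * g * P⁻¹ ∈ N ⊓ sunit 4 F 3).1
    rw [hmem, show P⁻¹ * (P * g * P⁻¹) * P = g by group] at h1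
    exact hgN h1

end Cfsg.Lib.Linear.AschU
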