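import Cfsg.Agent.Lib.Linear.AschU.NotSU

/-!
# Pairs of totally singular planes over small fields

For `q ≤ 3` their stabilisers are contained in subfield groups.
-/

set_option autoImplicit false
set_option linter.unusedSectionVars false
set_option linter.style.haveILetI false

namespace Cfsg.Lib.Linear.AschU

open Cfsg.Geo Cfsg.Lib.Linear Cfsg.Lib.Linear.Herm Cfsg.Lib.Linear.Asch
open scoped Matrix MatrixGroups

variable {F : Type*} [Field F] [Fintype F] {q : ℕ}

theorem adjt_blocks (hF : Fintype.card F = q ^ 2) (A B C D : Matrix (Fin 2) (Fin 2) F) :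
    adjt hF (Matrix.fromBlocks A B C D) =
      Matrix.fromBlocks (adjt hF A) (adjt hF C) (adjt hF B) (adjt hF D) := by
  simp [adjt, Matrix.fromBlocks_map, Matrix.fromBlocks_transpose]

theorem det_blocks_anti (B C : Matrix (Fin 2) (Fin 2) F) :
    (Matrix.fromBlocks 0 B C 0).det = B.det * C.det := by
  let e : Fin 4 ≃ Fin 2 ⊕ Fin 2 := (finSumFinEquiv : Fin 2 ⊕ Fin 2 ≃ Fin (2 + 2)).symm
  rw [← Matrix.det_submatrix_equiv_self e]
  have h : (Matrix.fromBlocks 0 B C 0).submatrix e e =
      !![0, 0, B 0 0, B 0 1; 0, 0, B 1 0, B 1 1; C 0 0, C 0 1, 0, 0; C 1 0, C 1 1, 0, 0] := by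
    refine Matrix.ext fun i j => ?_
    fin_cases i <;> fin_cases j <;> rfl
  rw [h, Matrix.det_fin_two, Matrix.det_fin_two]
  simp [Matrix.det_succ_row_zero, Fin.sum_univ_succ, Matrix.submatrix, Fin.succAbove]
  ring

theorem trace_blocks (A B C D : Matrix (Fin 2) (Fin 2) F) :
    (Matrix.fromBlocks A B C D).trace = A.trace + D.trace := by
  simp [Matrix.trace, Fintype.sum_sum_type]

/-- A stabiliser of a pair of totally singular planes lies in a subfield group when `q ≤ 3`. -/
theorem pair_small (hF : Fintype.card F = q ^ 2) (hq : q ≤ 3) {D : Fin 2 → Submodule F (Fin 4 → F)}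
    (hD : IsMDecomposition 2 D) (hts : ∀ i, IsTotallySingularFor (Cfsg.hermForm 4 F q) (D i))
    {H : Subgroup (GL (Fin 4) F)} (hH : H ≤ sunit 4 F q) (hle : H ≤ decompositionStabilizer D) :
    SubfieldAlt 4 q H := by
  classical
  have hU := herm_unitary (n := 4) hF
  have hf := isSesq_of_unitary hU
  have hcompl : IsCompl (D 0) (D 1) := by
    refine ⟨hD.indep.pairwiseDisjoint (show (0 : Fin 2) ≠ 1 by decide), codisjoint_iff.2 (eq_top_iff.2 ?_)⟩
    rw [← hD.iSup_eq_top]
    exact iSup_le fun i => by fin_cases i; exacts [le_sup_left, le_sup_right]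
  let b0 : Module.Basis (Fin 2) F (D 0) := (Module.finBasis F (D 0)).reindex (finCongr (hD.finrank_eq 0))
  let b1 : Module.Basis (Fin 2) F (D 1) := (Module.finBasis F (D 1)).reindex (finCongr (hD.finrank_eq 1))
  let e : Fin 4 ≃ Fin 2 ⊕ Fin 2 := (finSumFinEquiv : Fin 2 ⊕ Fin 2 ≃ Fin (2 + 2)).symm
  let bb : Module.Basis (Fin 2 ⊕ Fin 2) F (Fin 4 → F) :=
    (b0.prod b1).map (Submodule.prodEquivOfIsCompl _ _ hcompl)
  have hbl : ∀ i, bb (Sum.inl i) = (b0 i : Fin 4 → F) := fun i => by simp [bb]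
  have hbr : ∀ i, bb (Sum.inr i) = (b1 i : Fin 4 → F) := fun i => by simp [bb]
  let M0 : Matrix (Fin 4) (Fin 4) F := Matrix.of fun r c => bb (e c) r
  have hsum : ∀ v, M0 *ᵥ v = ∑ c, v c • bb (e c) := fun v => funext fun i => by
    simp only [Matrix.mulVec, dotProduct, M0, Matrix.of_apply, Finset.sum_apply, Pi.smul_apply, smul_eq_mul]
    exact Finset.sum_congr rfl fun j _ => mul_comm _ _
  have hu0 : IsUnit M0 := by
    refine Matrix.mulVec_injective_iff_isUnit.1 fun u v huv => ?_
    let bc := bb.reindex e.symm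
    have h1 : ∀ w, M0 *ᵥ w = ∑ c, w c • bc c := fun w => by rw [hsum]; simp [bc]
    rw [h1, h1] at huv
    funext j
    rw [← congrFun (bc.repr_sum_self u) j, ← congrFun (bc.repr_sum_self v) j, huv]
  obtain ⟨P0, hP0⟩ := hu0
  set J0 := gramGL hF e P0 with hJ0
  have hJ0e : ∀ a b, J0.val a b = Cfsg.hermForm 4 F q (bb b) (bb a) := fun a b => by
    rw [hJ0, gramGL_val]
    simp only [Matrix.reindex_apply, Matrix.submatrix_apply, Matrix.mul_apply, adjt_apply, hP0, M0,
      Matrix.of_apply, e.apply_symm_apply, Cfsg.hermForm]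
    exact Finset.sum_congr rfl fun l _ => mul_comm _ _
  set K := J0.val.toBlocks₁₂ with hK
  have hJb : J0.val = Matrix.fromBlocks 0 K J0.val.toBlocks₂₁ 0 := by
    conv_lhs => rw [← Matrix.fromBlocks_toBlocks J0.val]
    congr 1
    · refine Matrix.ext fun i j => ?_
      show J0.val (Sum.inl i) (Sum.inl j) = 0
      rw [hJ0e, hbl, hbl]
      exact hts 0 _ (b0 j).2 _ (b0 i).2
    · refine Matrix.ext fun i j => ?_
      show J0.val (Sum.inr i) (Sum.inr j) = 0
      rw [hJ0e, hbr, hbr]
      exact hts 1 _ (b1 j).2 _ (b1 i).2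
  have hK21 : J0.val.toBlocks₂₁ = adjt hF K := by
    have h1 := gramGL_herm hF e P0
    rw [← hJ0, hJb, adjt_blocks, Matrix.fromBlocks_inj] at h1
    exact h1.2.2.1.symm
  have hKdet : K.det ≠ 0 := fun h => by
    have h1 := Matrix.GeneralLinearGroup.det_ne_zero J0
    rw [hJb, det_blocks_anti, h, zero_mul] at h1
    exact h1 rfl
  let Kg : GL (Fin 2) F := Matrix.GeneralLinearGroup.mkOfDetNeZero K hKdet
  let Q : GL (Fin 2 ⊕ Fin 2) F :=
    ⟨Matrix.fromBlocks 1 0 0 (Kg⁻¹).val, Matrix.fromBlocks 1 0 0 Kg.val,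
      by simp [Matrix.fromBlocks_multiply], by simp [Matrix.fromBlocks_multiply]⟩
  set P := P0 * glReindex e.symm Q with hP
  set J : Matrix (Fin 2 ⊕ Fin 2) (Fin 2 ⊕ Fin 2) F := Matrix.fromBlocks 0 1 1 0 with hJ
  have hgram : (gramGL hF e P).val = J := by
    have h1 : (gramGL hF e P).val = adjt hF Q.val * J0.val * Q.val := by
      rw [gramGL_val, hJ0, gramGL_val, hP, Units.val_mul,
        show (glReindex e.symm Q).val = Q.val.submatrix e e from rfl, adjt_mul,
        show adjt hF (Q.val.submatrix e e) = (adjt hF Q.val).submatrix e e from rfl]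
      simp only [Matrix.reindex_apply]
      rw [← Matrix.submatrix_mul_equiv _ _ e.symm e.symm e.symm,
        ← Matrix.submatrix_mul_equiv _ _ e.symm e.symm e.symm,
        ← Matrix.submatrix_mul_equiv (adjt hF P0.val) P0.val e.symm e.symm e.symm,
        ← Matrix.submatrix_mul_equiv P0.val (Q.val.submatrix e e) e.symm e.symm e.symm]
      simp only [Matrix.submatrix_submatrix, Equiv.self_comp_symm, Matrix.submatrix_id_id,
        ← Matrix.submatrix_mul_equiv (adjt hF P0.val) P0.val e.symm e.symm e.symm, mul_assoc]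
    rw [h1, hJb, hK21, hJ]
    show adjt hF (Matrix.fromBlocks 1 0 0 (Kg⁻¹).val) * _ * Matrix.fromBlocks 1 0 0 (Kg⁻¹).val = _
    rw [adjt_blocks, Matrix.fromBlocks_multiply, Matrix.fromBlocks_multiply]
    have hKv : Kg.val = K := rfl
    simp only [adjt_one, adjt_zero, Matrix.mul_zero, Matrix.zero_mul, add_zero, zero_add, Matrix.mul_one,
      Matrix.one_mul]
    rw [← hKv, Units.mul_inv, ← adjt_mul, Units.mul_inv, adjt_one]
  let Φ := frameHom e P
  have hsurj : ∀ g : GL (Fin 4) F, ∃ Y, Φ Y = g := fun g =>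
    ⟨glReindex e ((MulAut.conj P).symm g), by
      show MulAut.conj P (glReindex e.symm (glReindex e ((MulAut.conj P).symm g))) = g
      rw [show glReindex e.symm (glReindex e ((MulAut.conj P).symm g)) = (MulAut.conj P).symm g from
        Units.ext (by simp [glReindex])]
      exact MulEquiv.apply_symm_apply _ g⟩
  have hmemU : ∀ Y, Φ Y ∈ Cfsg.GU 4 F q ↔ adjt hF Y.val * J * Y.val = J := by
    intro Y
    have hcore : adjt hF (P.val * Y.val.submatrix e e) * (P.val * Y.val.submatrix e e) =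
        (adjt hF Y.val * J * Y.val).submatrix e e := by
      rw [adjt_mul, show adjt hF (Y.val.submatrix e e) = (adjt hF Y.val).submatrix e e from rfl,
        ← Matrix.submatrix_mul_equiv _ _ e e e, ← Matrix.submatrix_mul_equiv _ _ e e e, ← hgram, gramGL_val,
        Matrix.reindex_apply, Matrix.submatrix_submatrix, Equiv.symm_comp_self, Matrix.submatrix_id_id]
      simp only [mul_assoc]
    have hPJ : adjt hF P.val * P.val = J.submatrix e e := by
      rw [← hgram, gramGL_val, Matrix.reindex_apply, Matrix.submatrix_submatrix, Equiv.symm_comp_self,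
        Matrix.submatrix_id_id]
    rw [mem_GU_iff hF, show (Φ Y).val = P.val * Y.val.submatrix e e * (P⁻¹).val from rfl, adjt_mul,
      show adjt hF (P⁻¹).val * adjt hF (P.val * Y.val.submatrix e e) *
        (P.val * Y.val.submatrix e e * (P⁻¹).val) =
        adjt hF (P⁻¹).val * (adjt hF (P.val * Y.val.submatrix e e) * (P.val * Y.val.submatrix e e)) * (P⁻¹).val by
        simp only [mul_assoc], hcore]
    constructor
    · intro h
      have h1 := congrArg (fun M => adjt hF P.val * M * P.val) h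
      simp only [← mul_assoc, ← adjt_mul, Units.inv_mul, adjt_one, one_mul, mul_one] at h1
      rw [mul_assoc _ (P⁻¹).val P.val, Units.inv_mul, mul_one, hPJ] at h1
      have h2 := congrArg (fun M : Matrix (Fin 4) (Fin 4) F => M.submatrix e.symm e.symm) h1
      simpa [Matrix.submatrix_submatrix] using h2
    · intro h
      rw [h, ← hPJ, ← mul_assoc, ← adjt_mul, mul_assoc, Units.mul_inv, mul_one, adjt_one]
  -- the columns of `P` lie in the two planes
  have hcols : ∀ (a : Fin 2 ⊕ Fin 2), P.val *ᵥ Pi.single (e.symm a) 1 ∈ D (Sum.elim (fun _ => 0) (fun _ => 1) a) := by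
    intro a
    have hQ : ∀ w, P.val *ᵥ w = ∑ c, ((Q.val.submatrix e e) *ᵥ w) c • bb (e c) := fun w => by
      rw [hP, Units.val_mul, ← Matrix.mulVec_mulVec, hP0, hsum]; rfl
    rw [hQ]
    refine Submodule.sum_mem _ fun c _ => ?_
    rw [Matrix.mulVec_single_one]
    show Q.val (e c) (e (e.symm a)) • bb (e c) ∈ _
    rw [e.apply_symm_apply, show Q.val = Matrix.fromBlocks 1 0 0 (Kg⁻¹).val from rfl]
    rcases a with i | i <;> rcases e c with j | j <;>
      simp [Submodule.zero_mem, hbl, hbr, (D 0).smul_mem _ (b0 j).2, (D 1).smul_mem _ (b1 j).2]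
  have hshape : ∀ Y, Φ Y ∈ decompositionStabilizer D →
      (∃ A C, Y.val = Matrix.fromBlocks A 0 0 C) ∨ (∃ B C, Y.val = Matrix.fromBlocks 0 B C 0) := by
    rintro Y ⟨σ, hσ⟩
    have hmove : ∀ a b, σ (Sum.elim (fun _ => 0) (fun _ => 1) a : Fin 2) ≠ Sum.elim (fun _ => 0) (fun _ => 1) b →
        Y.val b a = 0 := by
      intro a b hne
      have h1 : (Φ Y).val *ᵥ (P.val *ᵥ Pi.single (e.symm a) 1) ∈
          D (σ (Sum.elim (fun _ => 0) (fun _ => 1) a)) := by
        rw [← hσ]
        exact ⟨_, hcols a, Matrix.toLin'_apply _ _⟩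
      rw [show (Φ Y).val = P.val * Y.val.submatrix e e * (P⁻¹).val from rfl, ← Matrix.mulVec_mulVec,
        inv_mulVec_mulVec, ← Matrix.mulVec_mulVec] at h1
      set v := Y.val.submatrix e e *ᵥ Pi.single (e.symm a) (1 : F) with hv
      have hvb : ∀ c, v c = Y.val (e c) a := fun c => by
        rw [hv, Matrix.mulVec_single_one]; show Y.val (e c) (e (e.symm a)) = _; rw [e.apply_symm_apply]
      let part : Fin 2 → Fin 4 → F := fun s c => if Sum.elim (fun _ => 0) (fun _ => 1) (e c) = s then v c else 0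
      have hpart : ∀ s, P.val *ᵥ part s ∈ D s := fun s => by
        rw [show part s = ∑ c, part s c • (Pi.single c (1 : F) : Fin 4 → F) from pi_eq_sum_univ' _, Matrix.mulVec_sum]
        refine Submodule.sum_mem _ fun c _ => ?_
        rw [Matrix.mulVec_smul]
        by_cases hc : Sum.elim (fun _ => 0) (fun _ => 1) (e c) = s
        · have h2 := hcols (e c)
          rw [e.symm_apply_apply, hc] at h2
          exact Submodule.smul_mem _ _ h2
        · simp only [part, if_neg hc, zero_smul]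
          exact zero_mem _
      have hv2 : ∀ s s', s ≠ s' → P.val *ᵥ v = P.val *ᵥ part s + P.val *ᵥ part s' := fun s s' hs => by
        rw [← Matrix.mulVec_add]
        congr 1
        funext c
        simp only [part, Pi.add_apply]
        generalize Sum.elim (fun _ => (0 : Fin 2)) (fun _ => 1) (e c) = r
        rcases eq_or_ne r s with rfl | h1
        · rw [if_pos rfl, if_neg hs, add_zero]
        · have h2 : r = s' := by omega
          rw [if_neg h1, if_pos h2, zero_add]
      set s := σ (Sum.elim (fun _ => 0) (fun _ => 1) a)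
      set s' := (Sum.elim (fun _ => 0) (fun _ => 1) b : Fin 2)
      rw [hv2 s s' hne, (D s).add_mem_iff_right (hpart s)] at h1
      have h0 := Submodule.disjoint_def.1 (hD.indep.pairwiseDisjoint hne) _ h1 (hpart s')
      have h3 : part s' = 0 := Matrix.mulVec_injective_iff_isUnit.2 P.isUnit (h0.trans (Matrix.mulVec_zero _).symm)
      have h4 := congrFun h3 (e.symm b)
      simp only [part, e.apply_symm_apply, Pi.zero_apply] at h4
      rw [if_pos rfl, hvb, e.apply_symm_apply] at h4
      exact h4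
    have hσ2 : σ = 1 ∨ σ = Equiv.swap 0 1 := by clear hσ hmove; revert σ; decide
    rcases hσ2 with rfl | rfl
    · refine Or.inl ⟨Y.val.toBlocks₁₁, Y.val.toBlocks₂₂, ?_⟩
      conv_lhs => rw [← Matrix.fromBlocks_toBlocks Y.val]
      congr 1
      · exact Matrix.ext fun i j => hmove (Sum.inr j) (Sum.inl i) (by simp)
      · exact Matrix.ext fun i j => hmove (Sum.inl j) (Sum.inr i) (by simp)
    · refine Or.inr ⟨Y.val.toBlocks₁₂, Y.val.toBlocks₂₁, ?_⟩
      conv_lhs => rw [← Matrix.fromBlocks_toBlocks Y.val]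
      congr 1
      · exact Matrix.ext fun i j => hmove (Sum.inl j) (Sum.inl i) (by simp)
      · exact Matrix.ext fun i j => hmove (Sum.inr j) (Sum.inr i) (by simp)
  -- the normal subgroup
  let S : Set (GL (Fin 2 ⊕ Fin 2) F) := {Y |
    (∃ A C, Y.val = Matrix.fromBlocks A 0 0 C ∧ adjt hF A * C = 1 ∧ A.det = 1) ∨
    (∃ B C, Y.val = Matrix.fromBlocks 0 B C 0 ∧ adjt hF C * B = 1 ∧ B.det = 1)}
  have hdetC : ∀ A C : Matrix (Fin 2) (Fin 2) F, adjt hF A * C = 1 → A.det = 1 → C.det = 1 := fun A C h h1 => by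
    have h2 := congrArg Matrix.det h
    rw [Matrix.det_mul, det_adjt, h1, map_one, one_mul, Matrix.det_one] at h2
    exact h2
  have hcomm : ∀ {X Z : Matrix (Fin 2) (Fin 2) F}, adjt hF X * Z = 1 → adjt hF Z * X = 1 := fun {X Z} h => by
    have h1 := congrArg (adjt hF) h
    rwa [adjt_mul, adjt_adjt, adjt_one] at h1
  have hSU : ∀ Y ∈ S, Φ Y ∈ Cfsg.GU 4 F q := by
    rintro Y (⟨A, C, hY, h, -⟩ | ⟨B, C, hY, h, -⟩) <;> rw [hmemU, hY, hJ, adjt_blocks, adjt_zero,
      Matrix.fromBlocks_multiply, Matrix.fromBlocks_multiply]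
    · simp [h, hcomm h]
    · simp [h, hcomm h]
  have hSmul : ∀ Y ∈ S, ∀ Z ∈ S, Y * Z ∈ S := by
    rintro Y (⟨A, C, hY, h, hd⟩ | ⟨B, C, hY, h, hd⟩) Z (⟨A', C', hZ, h', hd'⟩ | ⟨B', C', hZ, h', hd'⟩)
    · refine Or.inl ⟨A * A', C * C', by simp [hY, hZ, Matrix.fromBlocks_multiply], ?_, by simp [hd, hd']⟩
      rw [adjt_mul, mul_assoc, ← mul_assoc (adjt hF A), h, one_mul, h']
    · refine Or.inr ⟨A * B', C * C', by simp [hY, hZ, Matrix.fromBlocks_multiply], ?_, by simp [hd, hd']⟩
      rw [adjt_mul, mul_assoc, ← mul_assoc (adjt hF C), hcomm h, one_mul, h']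
    · refine Or.inr ⟨B * C', C * A', by simp [hY, hZ, Matrix.fromBlocks_multiply], ?_,
        by simp [hd, hdetC _ _ h' hd']⟩
      rw [adjt_mul, mul_assoc, ← mul_assoc (adjt hF C), h, one_mul, h']
    · refine Or.inl ⟨B * C', C * B', by simp [hY, hZ, Matrix.fromBlocks_multiply], ?_,
        by simp [hd, hdetC _ _ (hcomm h') hd']⟩
      rw [adjt_mul, mul_assoc, ← mul_assoc (adjt hF B), hcomm h, one_mul, h']
  have hS1 : (1 : GL (Fin 2 ⊕ Fin 2) F) ∈ S :=
    Or.inl ⟨1, 1, by simp, by simp [adjt_one], Matrix.det_one⟩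
  have hSpow : ∀ Y ∈ S, ∀ j : ℕ, Y ^ j ∈ S := fun Y hY j => by
    induction j with
    | zero => simpa using hS1
    | succ j ih => rw [pow_succ]; exact hSmul _ ih _ hY
  let G0 : Subgroup (GL (Fin 2 ⊕ Fin 2) F) :=
    { carrier := S
      one_mem' := hS1
      mul_mem' := fun {a b} ha hb => hSmul a ha b hb
      inv_mem' := fun {a} ha => by
        rw [inv_eq_of_mul_eq_one_right (show a * a ^ (orderOf a - 1) = 1 by
          rw [← pow_succ', Nat.sub_add_cancel (orderOf_pos a), pow_orderOf_eq_one])]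
        exact hSpow a ha _ }
  set G := G0.map Φ with hG
  have hGU : G ≤ Cfsg.GU 4 F q := by
    rintro _ ⟨Y, hY, rfl⟩
    exact hSU Y hY
  -- fixed non-zero scalars square to one
  have hsq : ∀ δ : F, δ ≠ 0 → δ ^ q = δ → δ * δ = 1 := by
    intro δ hδ0 hδ
    have hqq : q - 1 + 1 = q := by have := two_le_q hF; omega
    have h1 : δ ^ (q - 1) = 1 := mul_right_cancel₀ hδ0 (by rw [← pow_succ, hqq, hδ, one_mul])
    rcases (show q = 2 ∨ q = 3 by have := two_le_q hF; omega) with h | h <;> rw [h] at h1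
    · rw [show (2 : ℕ) - 1 = 1 from rfl, pow_one] at h1; rw [h1, one_mul]
    · rw [← sq]; exact h1
  have hnorm : ∀ g ∈ H, ∀ a ∈ G, g * a * g⁻¹ ∈ G := by
    rintro g hg _ ⟨Z, hZ, rfl⟩
    obtain ⟨Y, rfl⟩ := hsurj g
    obtain ⟨hYU, hYdet⟩ := hH hg
    have hY1 := (hmemU Y).1 hYU
    have hdet : Y.val.det = 1 := by
      have h1 : (Φ Y).val.det = 1 := congrArg Units.val hYdet
      rwa [show (Φ Y).val = P.val * Y.val.submatrix e e * (P⁻¹).val from rfl, Matrix.det_mul, Matrix.det_mul,
        Matrix.det_submatrix_equiv_self, mul_comm, ← mul_assoc, ← Matrix.det_mul, Units.inv_mul, Matrix.det_one,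
        one_mul] at h1
    suffices hZ' : Y * Z * Y⁻¹ ∈ S from ⟨_, hZ', by simp⟩
    rcases hshape Y (hle hg) with ⟨A, C, hY⟩ | ⟨B, C, hY⟩
    · rw [hY, hJ, adjt_blocks, adjt_zero, Matrix.fromBlocks_multiply, Matrix.fromBlocks_multiply] at hY1
      simp only [Matrix.mul_zero, Matrix.zero_mul, Matrix.mul_one, add_zero, zero_add, Matrix.fromBlocks_inj] at hY1
      obtain ⟨-, h, h', -⟩ := hY1
      rw [hY, Matrix.det_fromBlocks_zero₂₁] at hdet
      have hδ0 : A.det ≠ 0 := left_ne_zero_of_mul_eq_one hdet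
      have hσ : sigmaE hF A.det = A.det := by
        have h2 := congrArg Matrix.det h
        rw [Matrix.det_mul, det_adjt, Matrix.det_one] at h2
        exact mul_right_cancel₀ (right_ne_zero_of_mul_eq_one hdet) (h2.trans hdet.symm)
      have hinv : (Y⁻¹).val = Matrix.fromBlocks (adjt hF C) 0 0 (adjt hF A) := by
        have h1 : Y.val * Matrix.fromBlocks (adjt hF C) 0 0 (adjt hF A) = 1 := by
          rw [hY, Matrix.fromBlocks_multiply]
          simp [mul_eq_one_comm.1 h, mul_eq_one_comm.1 (hcomm h)]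
        rw [← mul_one (Y⁻¹).val, ← h1, ← mul_assoc, Units.inv_mul, one_mul]
      have hCd : (adjt hF C).det * A.det = 1 := by
        rw [det_adjt]
        have := congrArg (sigmaE hF) hdet
        rwa [map_mul, hσ, map_one, mul_comm] at this
      have hAd : A.det * (adjt hF A).det = 1 := by
        rw [det_adjt, hσ]
        exact hsq _ hδ0 (by rw [← sigmaE_apply hF, hσ])
      rcases hZ with ⟨A', C', hZ, hh, hd⟩ | ⟨B', C', hZ, hh, hd⟩
      · refine Or.inl ⟨A * A' * adjt hF C, C * C' * adjt hF A, by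
          simp [hY, hZ, hinv, Matrix.fromBlocks_multiply], ?_, ?_⟩
        · simp only [adjt_mul, adjt_adjt, mul_assoc]
          rw [← mul_assoc (adjt hF A) C, h, one_mul, ← mul_assoc (adjt hF A'), hh, one_mul, mul_eq_one_comm.1 h]
        · rw [Matrix.det_mul, Matrix.det_mul, hd, mul_one, mul_comm, hCd]
      · refine Or.inr ⟨A * B' * adjt hF A, C * C' * adjt hF C, by
          simp [hY, hZ, hinv, Matrix.fromBlocks_multiply], ?_, ?_⟩
        · simp only [adjt_mul, adjt_adjt, mul_assoc]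
          rw [← mul_assoc (adjt hF C) A, hcomm h, one_mul, ← mul_assoc (adjt hF C'), hh, one_mul,
            mul_eq_one_comm.1 h]
        · rw [Matrix.det_mul, Matrix.det_mul, hd, mul_one, hAd]
    · rw [hY, hJ, adjt_blocks, adjt_zero, Matrix.fromBlocks_multiply, Matrix.fromBlocks_multiply] at hY1
      simp only [Matrix.mul_zero, Matrix.zero_mul, Matrix.mul_one, add_zero, zero_add, Matrix.fromBlocks_inj] at hY1
      obtain ⟨-, h, h', -⟩ := hY1
      rw [hY, det_blocks_anti] at hdet
      have hδ0 : B.det ≠ 0 := left_ne_zero_of_mul_eq_one hdet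
      have hB : adjt hF B * C = 1 := by first | exact h | exact hcomm h
      have hC : adjt hF C * B = 1 := hcomm hB
      have hσ : sigmaE hF B.det = B.det := by
        have h2 := congrArg Matrix.det hB
        rw [Matrix.det_mul, det_adjt, Matrix.det_one] at h2
        exact mul_right_cancel₀ (right_ne_zero_of_mul_eq_one hdet) (h2.trans hdet.symm)
      have hinv : (Y⁻¹).val = Matrix.fromBlocks 0 (adjt hF B) (adjt hF C) 0 := by
        have h1 : Y.val * Matrix.fromBlocks 0 (adjt hF B) (adjt hF C) 0 = 1 := by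
          rw [hY, Matrix.fromBlocks_multiply]
          simp [mul_eq_one_comm.1 hB, mul_eq_one_comm.1 hC]
        rw [← mul_one (Y⁻¹).val, ← h1, ← mul_assoc, Units.inv_mul, one_mul]
      have hBd : B.det * (adjt hF B).det = 1 := by
        rw [det_adjt, hσ]
        exact hsq _ hδ0 (by rw [← sigmaE_apply hF, hσ])
      have hCd : B.det * (adjt hF C).det = 1 := by
        rw [det_adjt]
        have := congrArg (sigmaE hF) hdet
        rwa [map_mul, hσ, map_one] at this
      rcases hZ with ⟨A', C', hZ, hh, hd⟩ | ⟨B', C', hZ, hh, hd⟩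
      · refine Or.inl ⟨B * C' * adjt hF C, C * A' * adjt hF B, by
          simp [hY, hZ, hinv, Matrix.fromBlocks_multiply], ?_, ?_⟩
        · simp only [adjt_mul, adjt_adjt, mul_assoc]
          rw [← mul_assoc (adjt hF B) C, hB, one_mul, ← mul_assoc (adjt hF C'), hcomm hh, one_mul,
            mul_eq_one_comm.1 hB]
        · rw [Matrix.det_mul, Matrix.det_mul, hdetC _ _ hh hd, mul_one, hCd]
      · refine Or.inr ⟨B * C' * adjt hF B, C * B' * adjt hF C, by
          simp [hY, hZ, hinv, Matrix.fromBlocks_multiply], ?_, ?_⟩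
        · simp only [adjt_mul, adjt_adjt, mul_assoc]
          rw [← mul_assoc (adjt hF C) B, hC, one_mul, ← mul_assoc (adjt hF B'), hcomm hh, one_mul,
            mul_eq_one_comm.1 hB]
        · rw [Matrix.det_mul, Matrix.det_mul, hdetC _ _ (hcomm hh) hd, mul_one, hBd]
  -- absolute irreducibility
  let φ : Matrix (Fin 2 ⊕ Fin 2) (Fin 2 ⊕ Fin 2) F →ₐ[F] Matrix (Fin 4) (Fin 4) F :=
    ((Matrix.reindexAlgEquiv F F e.symm).trans (AschGen.conjA P)).toAlgHom
  have hφsurj : Function.Surjective φ :=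
    ((Matrix.reindexAlgEquiv F F e.symm).trans (AschGen.conjA P)).surjective
  set T := (AschGen.adj G).comap φ with hT
  have hmk : ∀ M : Matrix (Fin 2 ⊕ Fin 2) (Fin 2 ⊕ Fin 2) F, IsUnit M →
      (∀ Y : GL (Fin 2 ⊕ Fin 2) F, Y.val = M → Y ∈ S) → M ∈ T := by
    intro M hM hS
    obtain ⟨Y, hY⟩ := hM
    refine Algebra.subset_adjoin ⟨Φ Y, ⟨Y, hS Y hY, rfl⟩, ?_⟩
    rw [← hY]; rfl
  have hblk : ∀ A C B C' : Matrix (Fin 2) (Fin 2) F, adjt hF A * C = 1 → A.det = 1 →
      adjt hF C' * B = 1 → B.det = 1 → Matrix.fromBlocks A 0 0 C ∈ T ∧ Matrix.fromBlocks 0 B C' 0 ∈ T := by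
    intro A C B C' h hd h' hd'
    constructor
    · refine hmk _ ((Matrix.isUnit_iff_isUnit_det _).2 ?_) (fun Y hY => Or.inl ⟨A, C, hY, h, hd⟩)
      rw [Matrix.det_fromBlocks_zero₂₁, hd, hdetC A C h hd]; simp
    · refine hmk _ ((Matrix.isUnit_iff_isUnit_det _).2 ?_) (fun Y hY => Or.inr ⟨B, C', hY, h', hd'⟩)
      rw [det_blocks_anti, hd', hdetC B C' (hcomm h') hd']; simp
  have hW : Matrix.fromBlocks 0 1 1 0 ∈ T := (hblk 1 1 1 1 (by simp [adjt_one]) (by simp) (by simp [adjt_one]) (by simp)).2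
  obtain ⟨w, hw⟩ : ∃ w : F, sigmaE hF w ≠ w := by
    by_contra h
    push Not at h
    exact sigmaE_ne hF (RingEquiv.ext h)
  have huni : ∀ i j : Fin 2, i ≠ j → Matrix.fromBlocks (Matrix.single i j (1 : F)) 0 0 0 ∈ T := by
    intro i j hij
    have hel : ∀ a : F, Matrix.fromBlocks (1 + Matrix.single i j a) 0 0
        (1 - Matrix.single j i (sigmaE hF a)) ∈ T := fun a => by
      refine (hblk _ _ 1 1 ?_ ?_ (by simp [adjt_one]) (by simp)).1
      · have hs : adjt hF (Matrix.single i j a) = Matrix.single j i (sigmaE hF a) := Matrix.ext fun x y => by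
          show sigmaE hF (Matrix.single i j a y x) = _
          simp only [Matrix.single_apply]
          by_cases hxy : i = y ∧ j = x
          · rw [if_pos hxy, if_pos ⟨hxy.2, hxy.1⟩]
          · rw [if_neg hxy, if_neg (fun hh => hxy ⟨hh.2, hh.1⟩), map_zero]
        rw [adjt_add, adjt_one, hs, add_mul, one_mul, mul_sub, mul_one,
          Matrix.single_mul_single_of_ne (h := hij)]
        abel
      · fin_cases i <;> fin_cases j <;> first | exact absurd rfl hij | simp [Matrix.det_fin_two]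
    have hdiff : ∀ a, Matrix.fromBlocks (Matrix.single i j a) 0 0 (-Matrix.single j i (sigmaE hF a)) ∈ T := fun a => by
      have := sub_mem (hel a) (one_mem T)
      rwa [← Matrix.fromBlocks_one, sub_eq_add_neg, Matrix.fromBlocks_neg, Matrix.fromBlocks_add, neg_zero,
        add_zero, ← sub_eq_add_neg, add_sub_cancel_left, ← sub_eq_add_neg, sub_sub_cancel_left] at this
    have hd0 : sigmaE hF w - w ≠ 0 := sub_ne_zero.2 hw
    have h1 := T.smul_mem (sub_mem (T.smul_mem (hdiff 1) (sigmaE hF w)) (hdiff w)) (sigmaE hF w - w)⁻¹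
    convert h1 using 1
    refine Matrix.ext fun x y => ?_
    rcases x with x | x <;> rcases y with y | y <;> simp [Matrix.single_apply]
    split_ifs <;> simp [hd0]
  have h11 : ∀ M : Matrix (Fin 2) (Fin 2) F, Matrix.fromBlocks M 0 0 0 ∈ T := by
    have hd : ∀ i, Matrix.fromBlocks (Matrix.single i i (1 : F)) 0 0 0 ∈ T := fun i => by
      obtain ⟨j, hj⟩ : ∃ j : Fin 2, i ≠ j := by revert i; decide
      have h := mul_mem (huni i j hj) (huni j i hj.symm)
      simpa [Matrix.fromBlocks_multiply] using h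
    intro M
    have hdec : Matrix.fromBlocks M 0 0 0 =
        ∑ i : Fin 2, ∑ j : Fin 2, M i j • Matrix.fromBlocks (Matrix.single i j (1 : F)) 0 0 (0 : Matrix (Fin 2) (Fin 2) F) := by
      refine Matrix.ext fun x y => ?_
      rcases x with x | x <;> rcases y with y | y <;>
        simp [Fin.sum_univ_two, Matrix.single_apply]
      fin_cases x <;> fin_cases y <;> simp
    rw [hdec]
    refine sum_mem fun i _ => sum_mem fun j _ => T.smul_mem ?_ _
    rcases eq_or_ne i j with rfl | h
    · exact hd i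
    · exact huni i j h
  have htop : T = ⊤ := by
    rw [eq_top_iff]
    intro M _
    rw [← Matrix.fromBlocks_toBlocks M]
    set W : Matrix (Fin 2 ⊕ Fin 2) (Fin 2 ⊕ Fin 2) F := Matrix.fromBlocks 0 1 1 0
    have hsum' : Matrix.fromBlocks M.toBlocks₁₁ M.toBlocks₁₂ M.toBlocks₂₁ M.toBlocks₂₂ =
        Matrix.fromBlocks M.toBlocks₁₁ 0 0 0 + Matrix.fromBlocks M.toBlocks₁₂ 0 0 0 * W +
          W * Matrix.fromBlocks M.toBlocks₂₁ 0 0 0 + W * Matrix.fromBlocks M.toBlocks₂₂ 0 0 0 * W := by
      simp [W, Matrix.fromBlocks_multiply, Matrix.fromBlocks_add]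
    rw [hsum']
    exact add_mem (add_mem (add_mem (h11 _) (mul_mem (h11 _) hW)) (mul_mem hW (h11 _)))
      (mul_mem (mul_mem hW (h11 _)) hW)
  have habs : ActsAbsolutelyIrreducibly (matrixSet G) := by
    refine AschGen.absIrr_of_adj_top (eq_top_iff.2 fun M _ => ?_)
    obtain ⟨X, rfl⟩ := hφsurj M
    exact (show X ∈ T from htop ▸ Algebra.mem_top)
  set F₀ : Subfield F := (frob hF).eqLocusField (RingHom.id F)
  have hne : F₀ ≠ ⊤ := fun h => sigmaE_ne hF (RingEquiv.ext fun x => by
    rw [sigmaE_apply]; exact (mem_fixedField hF x).1 (show x ∈ F₀ from h ▸ Subfield.mem_top x))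
  refine subfieldAlt_of_realisable hF (by norm_num) hne habs hGU hnorm (AschSp.realisable_of_trace habs F₀ ?_)
  rintro _ ⟨Y, hY, rfl⟩
  rw [trace_frameHom, mem_fixedField, ← sigmaE_apply hF]
  rcases hY with ⟨A, C, hY, h, hd⟩ | ⟨B, C, hY, -, -⟩
  · have hCv : C = (adjt hF A).adjugate := by
      have h1 := congrArg (fun M => (adjt hF A).adjugate * M) h
      simp only [← mul_assoc, Matrix.adjugate_mul, det_adjt, hd, map_one, one_smul, one_mul, mul_one] at h1
      exact h1
    rw [hY, trace_blocks, hCv, Matrix.adjugate_fin_two, Matrix.trace_fin_two, Matrix.trace_fin_two]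
    simp [adjt, map_add, sigmaE_sigmaE]
    ring
  · rw [hY, trace_blocks]; simp

end Cfsg.Lib.Linear.AschU
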