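import Cfsg.Agent.Lib.Linear.AschU.TensorForm
import Cfsg.Agent.Lib.Linear.AschGen.Core

/-!
# Pure tensors in an orthonormal frame

Groups of pure tensors with factors in a prescribed group, and the wreath product normalising them.
-/

set_option autoImplicit false
set_option linter.unusedSectionVars false
set_option linter.style.haveILetI false

namespace Cfsg.Lib.Linear.AschU

open Cfsg.Geo Cfsg.Lib.Linear Cfsg.Lib.Linear.Herm Cfsg.Lib.Linear.Asch
open scoped Matrix MatrixGroups

variable {F : Type*} [Field F] {q n k t : ℕ} {κ : Type} [Fintype κ] [DecidableEq κ]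

/-- Matrices written in the basis given by `e` and the columns of `P`. -/
def frameHom (e : Fin n ≃ κ) (P : GL (Fin n) F) : GL κ F →* GL (Fin n) F :=
  (MulAut.conj P).toMonoidHom.comp (glReindex e.symm).toMonoidHom

theorem frameHom_val (e : Fin n ≃ κ) (P : GL (Fin n) F) (X : GL κ F) :
    (frameHom e P X).val = P.val * X.val.submatrix e e * (P⁻¹).val := rfl

theorem tensorWreath_eq (e : Fin n ≃ (Fin t → Fin k)) (P : GL (Fin n) F) :
    tensorWreathSubgroup k t e P = (tensorWreathStandard k t F).map (frameHom e P) :=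
  Subgroup.map_map _ _ _

theorem frameHom_injective (e : Fin n ≃ κ) (P : GL (Fin n) F) : Function.Injective (frameHom e P) :=
  (MulEquiv.injective (MulAut.conj P)).comp (MulEquiv.injective (glReindex e.symm))

theorem trace_frameHom (e : Fin n ≃ κ) (P : GL (Fin n) F) (X : GL κ F) :
    (frameHom e P X).val.trace = X.val.trace := by
  rw [frameHom_val, Matrix.trace_mul_cycle, ← Units.val_mul, inv_mul_cancel, Units.val_one, Matrix.one_mul]
  exact Equiv.sum_comp e fun i => X.val i i

/-- In an orthonormal frame isometries are the matrices inverse to their conjugate transpose. -/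
theorem frameHom_mem_GU [Fintype F] (hF : Fintype.card F = q ^ 2) (e : Fin n ≃ κ) {P : GL (Fin n) F}
    (hP : P ∈ Cfsg.GU n F q) (X : GL κ F) :
    frameHom e P X ∈ Cfsg.GU n F q ↔ adjt hF X.val * X.val = 1 := by
  rw [mem_GU_iff hF, frameHom_val, adjt_mul, adjt_mul, adjt_eq_inv hF (inv_mem hP), inv_inv,
    adjt_eq_inv hF hP, show adjt hF (X.val.submatrix e e) = (adjt hF X.val).submatrix e e from rfl]
  constructor
  · intro h
    have h1 := congrArg (fun M => (P⁻¹).val * M * P.val) h
    simp only [mul_assoc, Units.inv_mul_cancel_left, Units.inv_mul, mul_one] at h1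
    rw [Matrix.submatrix_mul_equiv] at h1
    have h2 := congrArg (fun M : Matrix (Fin n) (Fin n) F => M.submatrix e.symm e.symm) h1
    simpa [Matrix.submatrix_submatrix] using h2
  · intro h
    simp only [mul_assoc, Units.inv_mul_cancel_left]
    rw [← mul_assoc (Matrix.submatrix _ _ _), Matrix.submatrix_mul_equiv, h, Matrix.submatrix_one_equiv, one_mul,
      Units.mul_inv]

/-- Tuples of invertible factors to pure tensors. -/
def pureHom : (Fin t → GL (Fin k) F) →* GL (Fin t → Fin k) F where
  toFun := pureGL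
  map_one' := Units.ext pure_one
  map_mul' g h := Units.ext (pure_mul (fun i => (g i).val) fun i => (h i).val).symm

/-- The pure tensors whose factors lie in `S`. -/
def pureGroup (S : Subgroup (GL (Fin k) F)) (t : ℕ) : Subgroup (GL (Fin t → Fin k) F) :=
  (Subgroup.pi Set.univ fun _ : Fin t => S).map pureHom

theorem mem_pureGroup {S : Subgroup (GL (Fin k) F)} {g : GL (Fin t → Fin k) F} :
    g ∈ pureGroup S t ↔ ∃ a : Fin t → GL (Fin k) F, (∀ i, a i ∈ S) ∧ g.val = pure fun i => (a i).val := by
  simp only [pureGroup, Subgroup.mem_map, Subgroup.mem_pi, Set.mem_univ, true_implies]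
  exact ⟨fun ⟨a, ha, h⟩ => ⟨a, ha, h ▸ rfl⟩, fun ⟨a, ha, h⟩ => ⟨a, ha, Units.ext h.symm⟩⟩

theorem slot_mem_pureGroup (S : Subgroup (GL (Fin k) F)) {a : GL (Fin k) F} (ha : a ∈ S) (i : Fin t) :
    pureHom (Function.update (fun _ => 1) i a) ∈ pureGroup S t :=
  ⟨_, fun j _ => by rcases eq_or_ne j i with rfl | h <;> simp [*, one_mem], rfl⟩

theorem pureHom_update_val (a : GL (Fin k) F) (i : Fin t) :
    (pureHom (Function.update (fun _ => 1) i a)).val = slot i a.val := by
  show pure (fun j => (Function.update (fun _ => (1 : GL (Fin k) F)) i a j).val) = _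
  rw [slot]
  exact congrArg pure (funext fun j => by rcases eq_or_ne j i with rfl | h <;> simp [*])

/-- A factor permutation moves pure tensors to pure tensors. -/
theorem perm_pure {g : GL (Fin t → Fin k) F} (σ : Equiv.Perm (Fin t))
    (hg : ∀ x y : Fin t → Fin k, g.val x y = if y = x ∘ σ then 1 else 0)
    (A : Fin t → Matrix (Fin k) (Fin k) F) :
    g.val * pure A = pure (fun i => A (σ.symm i)) * g.val := by
  classical
  refine Matrix.ext fun x y => ?_
  simp only [Matrix.mul_apply, hg, ite_mul, one_mul, zero_mul, mul_ite, mul_one, mul_zero]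
  rw [Finset.sum_ite_eq' Finset.univ (x ∘ σ), if_pos (Finset.mem_univ _),
    Finset.sum_eq_single (y ∘ σ.symm) (fun z _ hz => if_neg fun h => hz (by
      subst h; funext i; simp [Function.comp]))
      (fun h => absurd (Finset.mem_univ _) h), if_pos (by funext i; simp [Function.comp])]
  simp only [pure, Matrix.of_apply, Function.comp]
  refine Fintype.prod_equiv σ _ _ fun i => ?_
  simp

theorem mem_normalizer_of_conj [Finite F] {ι : Type} [Fintype ι] [DecidableEq ι] {K : Subgroup (GL ι F)}
    {g : GL ι F} (h : ∀ x ∈ K, g * x * g⁻¹ ∈ K) : g ∈ Subgroup.normalizer (K : Set (GL ι F)) := by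
  have he : K.map (MulAut.conj g).toMonoidHom = K := AschGen.eq_of_le_of_card
    (by rintro _ ⟨x, hx, rfl⟩; exact h x hx)
    (Nat.card_congr (K.equivMapOfInjective _ (MulEquiv.injective (MulAut.conj g))).toEquiv).le
  rw [Subgroup.mem_normalizer_iff]
  refine fun x => ⟨h x, fun hx => ?_⟩
  rw [← he] at hx
  obtain ⟨y, hy, e⟩ := hx
  have e' : g * y * g⁻¹ = g * x * g⁻¹ := e
  rwa [mul_left_cancel (mul_right_cancel e')] at hy

/-- The wreath product normalises the pure tensors with factors in a subgroup normalised by the admissible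
factors. -/
theorem wreath_normalizes [Finite F] {S : Subgroup (GL (Fin k) F)}
    (hS : ∀ a : GL (Fin k) F, ∀ x ∈ S, a * x * a⁻¹ ∈ S) :
    tensorWreathStandard k t F ≤ Subgroup.normalizer (pureGroup S t : Set _) := by
  refine (Subgroup.closure_le _).2 ?_
  rintro g (⟨gs, hgs⟩ | ⟨σ, hσ⟩) <;> refine mem_normalizer_of_conj fun x hx => ?_
  · obtain ⟨a, ha, hax⟩ := mem_pureGroup.1 hx
    have hg : g = pureHom gs := Units.ext (Matrix.ext fun i j => hgs i j)
    have hx' : x = pureHom a := Units.ext hax
    rw [hg, hx', ← map_inv, ← map_mul, ← map_mul]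
    exact ⟨_, fun i _ => hS (gs i) (a i) (ha i), rfl⟩
  · obtain ⟨a, ha, hax⟩ := mem_pureGroup.1 hx
    refine mem_pureGroup.2 ⟨fun i => a (σ.symm i), fun i => ha _, ?_⟩
    rw [Units.val_mul, Units.val_mul, hax, perm_pure σ hσ, mul_assoc, Units.mul_inv, mul_one]

end Cfsg.Lib.Linear.AschU
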