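import Cfsg.Agent.Lib.Linear.AschU.Star
import Cfsg.Agent.Lib.Linear.HermitianFactor

/-!
# Invariant subspaces, extension fields and hermitian square roots
-/

set_option autoImplicit false
set_option linter.unusedSectionVars false
set_option linter.style.haveILetI false

namespace Cfsg.Lib.Linear.AschU

open Cfsg.Geo Cfsg.Lib.Linear Cfsg.Lib.Linear.Herm Cfsg.Lib.Linear.Asch
open scoped Matrix MatrixGroups

variable {F : Type*} [Field F] [Fintype F] {q n : ℕ} (hF : Fintype.card F = q ^ 2)

/-- A reducible group of isometries fixes a totally singular subspace, a small non-degenerate one, or a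
pair of perpendicular non-degenerate subspaces of half the dimension. -/
theorem reducible_cases (hF : Fintype.card F = q ^ 2) {H : Subgroup (GL (Fin n) F)} (hH : H ≤ Cfsg.GU n F q)
    (hirr : ¬ ActsIrreducibly (matrixSet H)) :
    (∃ W : Submodule F (Fin n → F), W ≠ ⊥ ∧ W ≠ ⊤ ∧ IsTotallySingularFor (Cfsg.hermForm n F q) W ∧
      H ≤ subspaceStabilizer W) ∨
    (∃ W : Submodule F (Fin n → F), W ≠ ⊥ ∧ W ≠ ⊤ ∧ IsNondegenerateOn (Cfsg.hermForm n F q) W ∧
      2 * Module.finrank F W < n ∧ H ≤ subspaceStabilizer W) ∨
    (∃ (k : ℕ) (D : Fin 2 → Submodule F (Fin n → F)), 2 * k = n ∧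
      IsNondegenerateMDecomposition (Cfsg.hermForm n F q) k D ∧ H ≤ decompositionStabilizer D) := by
  rw [irr_iff] at hirr
  push Not at hirr
  obtain ⟨W, hW, hW0, hW1⟩ := hirr
  by_cases hsing : W ⊓ perp hF W = ⊥
  swap
  · refine Or.inl ⟨W ⊓ perp hF W, hsing, fun h => hW1 (eq_top_iff.2 (h ▸ inf_le_left)), fun u hu v hv => ?_,
      fun g hg => mem_subspaceStabilizer_of_inv fun w hw => ⟨hW g hg w hw.1, perp_inv hF hH hW g hg w hw.2⟩⟩
    have h := hu.2 v hv.1
    rw [hB_apply] at h
    exact h
  have hdim := finrank_perp hF W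
  have hpp : perp hF W ⊓ perp hF (perp hF W) = ⊥ := by rw [UMax.perp_perp, inf_comm]; exact hsing
  have hlt : Module.finrank F W < n := by
    have := Submodule.finrank_lt hW1
    rwa [Module.finrank_fin_fun] at this
  have hpos : 0 < Module.finrank F W := Nat.pos_of_ne_zero fun h => hW0 (Submodule.finrank_eq_zero.1 h)
  have hp0 : perp hF W ≠ ⊥ := fun h => by rw [h, finrank_bot] at hdim; omega
  have hp1 : perp hF W ≠ ⊤ := fun h => by
    rw [h, finrank_top, Module.finrank_fin_fun] at hdim
    omega
  right
  rcases lt_trichotomy (2 * Module.finrank F W) n with hd | hd | hd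
  · exact Or.inl ⟨W, hW0, hW1, nondegenerateOn_of_inf hF hsing, hd,
      fun g hg => mem_subspaceStabilizer_of_inv (hW g hg)⟩
  · right
    let D : Fin 2 → Submodule F (Fin n → F) := ![W, perp hF W]
    have hsup : W ⊔ perp hF W = ⊤ := by
      apply Submodule.eq_top_of_finrank_eq
      have h := Submodule.finrank_sup_add_finrank_inf_eq W (perp hF W)
      rw [hsing, finrank_bot] at h
      rw [Module.finrank_fin_fun]
      omega
    refine ⟨Module.finrank F W, D, hd, ⟨⟨le_rfl, hpos, ?_, ?_, ?_⟩, ?_, ?_⟩, fun g hg => ?_⟩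
    · intro i
      fin_cases i
      · rfl
      · show Module.finrank F (perp hF W) = _
        omega
    · rw [iSupIndep_pair (i := 0) (j := 1) (by decide) (fun i => by fin_cases i <;> simp)]
      exact disjoint_iff.2 hsing
    · rw [eq_top_iff, ← hsup]
      exact sup_le (le_iSup D 0) (le_iSup D 1)
    · intro i
      fin_cases i
      · exact nondegenerateOn_of_inf hF hsing
      · exact nondegenerateOn_of_inf hF hpp
    · intro i j hij u hu v hv
      fin_cases i <;> fin_cases j
      · exact absurd rfl hij
      · have h := hv u hu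
        rw [hB_apply] at h
        rw [(herm_unitary hF).herm, h, map_zero]
      · have h := hu v hv
        rw [hB_apply] at h
        exact h
      · exact absurd rfl hij
    · refine ⟨1, fun i => ?_⟩
      have hinv : InvSub H (D i) := by
        fin_cases i
        · exact hW
        · exact perp_inv hF hH hW
      refine le_antisymm ?_ fun v hv => ?_
      · rintro _ ⟨w, hw, rfl⟩
        rw [Matrix.toLin'_apply]
        exact hinv g hg w hw
      · exact ⟨(g⁻¹).val *ᵥ v, hinv _ (inv_mem hg) v hv, by rw [Matrix.toLin'_apply, mulVec_inv_mulVec]⟩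
  · exact Or.inl ⟨perp hF W, hp0, hp1, nondegenerateOn_of_inf hF hpp, by omega,
      fun g hg => mem_subspaceStabilizer_of_inv (perp_inv hF hH hW g hg)⟩

/-- A subfield of the matrix algebra closed under conjugate transposition has odd prime degree. -/
theorem odd_degree (hF : Fintype.card F = q ^ 2) {r : ℕ} (hr : r.Prime)
    {K : Subalgebra F (Matrix (Fin n) (Fin n) F)} (hK : IsFieldSubalgebra r K) (hadj : ∀ k ∈ K, adjt hF k ∈ K) :
    Odd r := by
  rcases hr.eq_two_or_odd' with rfl | h
  swap
  · exact h
  exfalso
  classical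
  haveI : Finite (Matrix (Fin n) (Fin n) F) := inferInstanceAs (Finite (Fin n → Fin n → F))
  have hpow2 : Nat.card K = (Nat.card F) ^ 2 := by
    haveI : FiniteDimensional F K := Module.finite_of_finrank_pos (hK.finrank_eq.symm ▸ two_pos)
    rw [Module.natCard_eq_pow_finrank (K := F), hK.finrank_eq]
  have hfield : IsField K :=
    { exists_pair_ne := ⟨0, 1, fun h => by
        haveI : Subsingleton K := subsingleton_of_zero_eq_one h
        have h2 : 1 < Nat.card F := Finite.one_lt_card
        have h3 : Nat.card K = 1 := Nat.card_eq_one_iff_unique.2 ⟨inferInstance, inferInstance⟩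
        nlinarith⟩
      mul_comm := fun a b => Subtype.ext (hK.comm a a.2 b b.2)
      mul_inv_cancel := fun {a} ha => by
        obtain ⟨y, hy, hy'⟩ := hK.inv a a.2 (fun h => ha (Subtype.ext h))
        exact ⟨⟨y, hy⟩, Subtype.ext hy'⟩ }
  letI : Field K := hfield.toField
  let θ : K → K := fun k => ⟨adjt hF k, hadj k k.2⟩
  let S : Subfield K :=
    { carrier := {k | θ k = k}
      one_mem' := Subtype.ext (adjt_one hF)
      zero_mem' := Subtype.ext (adjt_zero hF)
      add_mem' := fun {a b} ha hb => Subtype.ext (by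
        show adjt hF ((a : Matrix (Fin n) (Fin n) F) + (b : Matrix (Fin n) (Fin n) F)) = (a : Matrix (Fin n) (Fin n) F) + (b : Matrix (Fin n) (Fin n) F)
        rw [adjt_add, show adjt hF (a : Matrix (Fin n) (Fin n) F) = a from congrArg Subtype.val ha,
          show adjt hF (b : Matrix (Fin n) (Fin n) F) = b from congrArg Subtype.val hb])
      neg_mem' := fun {a} ha => Subtype.ext (by
        show adjt hF (-(a : Matrix (Fin n) (Fin n) F)) = -(a : Matrix (Fin n) (Fin n) F)
        rw [← zero_sub, adjt_sub, adjt_zero,
          show adjt hF (a : Matrix (Fin n) (Fin n) F) = a from congrArg Subtype.val ha])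
      mul_mem' := fun {a b} ha hb => Subtype.ext (by
        show adjt hF ((a : Matrix (Fin n) (Fin n) F) * (b : Matrix (Fin n) (Fin n) F)) = (a : Matrix (Fin n) (Fin n) F) * (b : Matrix (Fin n) (Fin n) F)
        rw [adjt_mul, show adjt hF (a : Matrix (Fin n) (Fin n) F) = a from congrArg Subtype.val ha,
          show adjt hF (b : Matrix (Fin n) (Fin n) F) = b from congrArg Subtype.val hb]
        exact hK.comm b b.2 a a.2)
      inv_mem' := fun a ha => by
        rcases eq_or_ne a 0 with h | h
        · rw [h, inv_zero]; exact Subtype.ext (adjt_zero hF)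
        · have h1 : θ a⁻¹ * a = 1 := by
            refine Subtype.ext ?_
            show adjt hF ((a⁻¹ : K) : Matrix (Fin n) (Fin n) F) * (a : Matrix (Fin n) (Fin n) F) = 1
            conv_lhs => enter [2]; rw [← show adjt hF (a : Matrix (Fin n) (Fin n) F) = a from congrArg Subtype.val ha]
            rw [← adjt_mul, ← MulMemClass.coe_mul, mul_inv_cancel₀ h]
            exact adjt_one hF
          exact eq_inv_of_mul_eq_one_left h1 }
  obtain ⟨w, hw⟩ : ∃ w : F, sigmaE hF w ≠ w := by
    by_contra h
    push Not at h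
    exact sigmaE_ne hF (RingEquiv.ext h)
  set d := sigmaE hF w - w with hd
  have hd0 : d ≠ 0 := sub_ne_zero.2 hw
  have hsc : ∀ (c : F) (k : K), θ (algebraMap F K c * k) = algebraMap F K (sigmaE hF c) * θ k := fun c k => by
    refine Subtype.ext ?_
    show adjt hF (algebraMap F (Matrix (Fin n) (Fin n) F) c * (k : Matrix (Fin n) (Fin n) F)) =
      algebraMap F (Matrix (Fin n) (Fin n) F) (sigmaE hF c) * adjt hF (k : Matrix (Fin n) (Fin n) F)
    rw [← Algebra.smul_def, adjt_smul, ← Algebra.smul_def]
  have hθθ : ∀ k : K, θ (θ k) = k := fun k => Subtype.ext (adjt_adjt hF _)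
  have hθadd : ∀ a b : K, θ (a + b) = θ a + θ b := fun a b => Subtype.ext (adjt_add hF _ _)
  have hθneg : ∀ a : K, θ (-a) = -θ a := fun a => Subtype.ext (by
    show adjt hF (-(a : Matrix (Fin n) (Fin n) F)) = -adjt hF a
    rw [← zero_sub, adjt_sub, adjt_zero, zero_sub])
  let e : S × S → K := fun p => p.1 + algebraMap F K w * p.2
  have he : Function.Bijective e := by
    constructor
    · rintro ⟨a, b⟩ ⟨a', b'⟩ h
      have h2 := congrArg θ h
      simp only [e, hθadd, hsc] at h2 h
      rw [show θ a.1 = a from a.2, show θ b.1 = b from b.2, show θ a'.1 = a' from a'.2,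
        show θ b'.1 = b' from b'.2] at h2
      have h3 : algebraMap F K d * ((b : K) - b') = 0 := by
        rw [hd, map_sub]
        linear_combination h2 - h
      have h4 : (b : K) = b' := sub_eq_zero.1 ((mul_eq_zero.1 h3).resolve_left
        ((map_ne_zero_iff _ (algebraMap F K).injective).2 hd0))
      refine Prod.ext (Subtype.ext ?_) (Subtype.ext h4)
      rw [h4] at h
      exact add_right_cancel h
    · intro x
      have hdσ : sigmaE hF d = -d := by rw [hd, map_sub, sigmaE_sigmaE]; ring
      have hbS : algebraMap F K d⁻¹ * (θ x + -x) ∈ S := by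
        show θ _ = _
        rw [hsc, hθadd, hθneg, hθθ, map_inv₀, hdσ, inv_neg, map_neg]
        ring
      set b : K := algebraMap F K d⁻¹ * (θ x + -x) with hb
      refine ⟨(⟨x - algebraMap F K w * b, ?_⟩, ⟨b, hbS⟩), sub_add_cancel _ _⟩
      show θ _ = _
      rw [sub_eq_add_neg, hθadd, hθneg, hsc, show θ b = b from hbS]
      have h1 : (algebraMap F K (sigmaE hF w) - algebraMap F K w) * b = θ x + -x := by
        rw [← map_sub, ← hd, hb, ← mul_assoc, ← map_mul, mul_inv_cancel₀ hd0, map_one, one_mul]
      linear_combination -h1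
  have hcS : Nat.card S = Nat.card F := by
    have h1 := Nat.card_congr (Equiv.ofBijective e he)
    rw [Nat.card_prod, hpow2, ← sq] at h1
    exact Nat.pow_left_injective two_ne_zero h1
  haveI : Fintype K := Fintype.ofFinite K
  letI : Fintype S := Fintype.ofFinite S
  have hsub : (S : Set K).toFinset ⊆ (Finset.univ.image (algebraMap F K)) := by
    intro x hx
    rw [Set.mem_toFinset] at hx
    have hq' : 1 < Fintype.card F := Fintype.one_lt_card
    have hp0 : (Polynomial.X ^ Fintype.card F - Polynomial.X : Polynomial K) ≠ 0 :=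
      FiniteField.X_pow_card_sub_X_ne_zero K hq'
    have hroot : ∀ y : K, y ^ Fintype.card F = y →
        y ∈ (Polynomial.X ^ Fintype.card F - Polynomial.X : Polynomial K).roots.toFinset := fun y hy => by
      rw [Multiset.mem_toFinset, Polynomial.mem_roots hp0, Polynomial.IsRoot, Polynomial.eval_sub,
        Polynomial.eval_pow, Polynomial.eval_X, hy, sub_self]
    have h1 : Finset.univ.image (algebraMap F K) ⊆
        (Polynomial.X ^ Fintype.card F - Polynomial.X : Polynomial K).roots.toFinset := by
      intro y hy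
      obtain ⟨c, -, rfl⟩ := Finset.mem_image.1 hy
      exact hroot _ (by rw [← map_pow, FiniteField.pow_card])
    have h2 := Finset.eq_of_subset_of_card_le h1 (by
      rw [Finset.card_image_of_injective _ (algebraMap F K).injective, Finset.card_univ]
      refine (Multiset.toFinset_card_le _).trans ((Polynomial.card_roots' _).trans ?_)
      exact (FiniteField.X_pow_card_sub_X_natDegree_eq K hq').le)
    rw [h2]
    refine hroot x ?_
    have h3 := FiniteField.pow_card (⟨x, hx⟩ : S)
    rw [← Nat.card_eq_fintype_card, hcS, Nat.card_eq_fintype_card] at h3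
    exact congrArg Subtype.val h3
  have heq := Finset.eq_of_subset_of_card_le hsub (by
    rw [Finset.card_image_of_injective _ (algebraMap F K).injective, Finset.card_univ, ← Nat.card_eq_fintype_card,
      ← hcS, Nat.card_eq_fintype_card, Set.toFinset_card]
    exact le_of_eq (Fintype.card_congr (Equiv.refl _)))
  have hwS : algebraMap F K w ∈ (S : Set K).toFinset := heq ▸ Finset.mem_image_of_mem _ (Finset.mem_univ w)
  rw [Set.mem_toFinset] at hwS
  have h3 : θ (algebraMap F K w) = algebraMap F K (sigmaE hF w) := by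
    have h := hsc w 1
    rw [mul_one, show θ (1 : K) = 1 from Subtype.ext (adjt_one hF), mul_one] at h
    exact h
  exact hw ((algebraMap F K).injective (h3.symm.trans hwS))

/-- An invertible hermitian matrix is `Q* Q`. -/
theorem exists_sqrt (hF : Fintype.card F = q ^ 2) {G : Matrix (Fin n) (Fin n) F} (hG : adjt hF G = G)
    (hu : IsUnit G) : ∃ Q : GL (Fin n) F, adjt hF Q.val * Q.val = G := by
  obtain ⟨w, hw⟩ : ∃ w : F, (sigmaE hF : F →+* F) w ≠ w := by
    by_contra h
    push Not at h
    exact sigmaE_ne hF (RingEquiv.ext h)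
  obtain ⟨S, hS, hSS, -⟩ := Lib.Linear.HermitianFactor.exists_factor (σ := (sigmaE hF : F →+* F))
    (sigmaE_sigmaE hF) hw hG hu
  exact ⟨hS.unit, hSS⟩

end Cfsg.Lib.Linear.AschU
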