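import Cfsg.Agent.Lib.Linear.AschU.ClassSix
import Cfsg.Agent.Lib.Linear.AschGen.Core

/-!
# Absolutely irreducible perfect normal subgroups
-/

set_option autoImplicit false
set_option linter.unusedSectionVars false
set_option linter.style.haveILetI false

namespace Cfsg.Lib.Linear.AschU

open Cfsg.Geo Cfsg.Lib.Linear Cfsg.Lib.Linear.Herm Cfsg.Lib.Linear.Asch
open Cfsg.Lib.Linear.AschGen (AlmostCore)
open scoped Matrix MatrixGroups

variable {F : Type*} [Field F] [Fintype F] {q n : ℕ}

/-- An almost simple group lies in a subfield group or in the residual class. -/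
theorem simple_cases (hF : Fintype.card F = q ^ 2) (hn : 2 ≤ n) {H P : Subgroup (GL (Fin n) F)}
    (hH : H ≤ Cfsg.GU n F q) (hP : AlmostCore H P) : SubfieldAlt n q H ∨ InUnitaryResidualClass H := by
  haveI : Nonempty (Fin n) := ⟨⟨0, by omega⟩⟩
  have hPU : P ≤ Cfsg.GU n F q := hP.sub.le.trans hH
  by_cases hreal : ∃ F₀ : Subfield F, F₀ ≠ ⊤ ∧ RealisableOver F₀ (matrixSet P)
  · obtain ⟨F₀, hne, hr⟩ := hreal
    exact Or.inl (subfieldAlt_of_realisable hF hn hne hP.absIrred hPU hP.sub.normal hr)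
  push Not at hreal
  have hb : ∀ b : (Fin n → F) → (Fin n → F) → F, IsBilinearForm b → IsNondegenerateForm b →
      ¬ FixesForm (matrixSet P) b := fun b hb hbn hfix => by
    obtain ⟨F₀, hne, hr⟩ := realisable_of_bilinear hF (by omega) hP.absIrred hPU hb hbn hfix
    exact hreal F₀ hne hr
  refine Or.inr ⟨P, ⟨hP.sub.le, hP.sub.normal, hP.perfect, hP.simple, hP.nonabelian, hP.centralizer_scalar,
    hP.absIrred, hreal⟩, ?_, ?_⟩
  · rintro ⟨Q, hQ, hfix⟩
    refine hb _ hQ.polar_bilinear hQ.nondegenerate fun s hs u v => ?_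
    simp only [QuadraticMap.polar]
    rw [← Matrix.mulVec_add, hfix s hs, hfix s hs, hfix s hs]
  · rintro ⟨f, hf, hfix⟩
    exact hb f hf.bilinear hf.nondegenerate hfix

end Cfsg.Lib.Linear.AschU
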