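import Cfsg.Agent.Lib.Linear.AschU.Cube
import Cfsg.Agent.Lib.Linear.AschU.Simple
import Cfsg.Agent.Lib.Linear.AschU.Decomp
import Cfsg.Agent.Lib.Linear.AschU.Reduce
import Cfsg.Agent.Lib.Linear.AschSp.PrimeField

/-!
# The subgroup structure of the unitary groups
-/

set_option autoImplicit false
set_option linter.unusedSectionVars false
set_option linter.style.haveILetI false

namespace Cfsg.Lib.Linear.AschU

open Cfsg.Geo Cfsg.Lib.Linear Cfsg.Lib.Linear.Herm Cfsg.Lib.Linear.Asch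
open scoped Matrix MatrixGroups

variable {F : Type*} [Field F] {q n : ℕ} {H : Subgroup (GL (Fin n) F)}

/-- The ways in which a group of isometries of the standard unitary form can sit. -/
inductive Cases [Fintype F] (n q : ℕ) (H : Subgroup (GL (Fin n) F)) : Prop
  | totSing (W : Submodule F (Fin n → F)) (h0 : W ≠ ⊥)
      (hts : IsTotallySingularFor (Cfsg.hermForm n F q) W) (hle : H ≤ subspaceStabilizer W)
  | small (W : Submodule F (Fin n → F)) (h0 : W ≠ ⊥) (hnd : IsNondegenerateOn (Cfsg.hermForm n F q) W)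
      (hlt : 2 * Module.finrank F W < n) (hle : H ≤ subspaceStabilizer W)
  | orth (t k : ℕ) (D : Fin t → Submodule F (Fin n → F))
      (hD : IsNondegenerateMDecomposition (Cfsg.hermForm n F q) k D) (hc : t * k = n)
      (hle : H ≤ decompositionStabilizer D)
  | pair (k : ℕ) (D : Fin 2 → Submodule F (Fin n → F)) (hc : 2 * k = n) (hD : IsMDecomposition k D)
      (hts : ∀ i, IsTotallySingularFor (Cfsg.hermForm n F q) (D i)) (hle : H ≤ decompositionStabilizer D)
  | field (r : ℕ) (K : Subalgebra F (Matrix (Fin n) (Fin n) F)) (hr : r.Prime) (hodd : Odd r) (hdvd : r ∣ n)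
      (hK : IsFieldSubalgebra r K) (hadj : IsAdjointClosedFor (Cfsg.hermForm n F q) K)
      (hle : H ≤ subalgebraNormalizer K)
  | tensor (n₁ n₂ : ℕ) (e : Fin n ≃ Fin n₁ × Fin n₂) (P : GL (Fin n) F) (hP : P ∈ Cfsg.GU n F q)
      (h2 : 2 ≤ n₁) (hlt : n₁ < n₂) (hc : n = n₁ * n₂) (hle : H ≤ tensorProductSubgroup n₁ n₂ e P)
  | power (k t : ℕ) (e : Fin n ≃ (Fin t → Fin k)) (P : GL (Fin n) F) (hP : P ∈ Cfsg.GU n F q)
      (hk : 3 ≤ k) (ht : 2 ≤ t) (hne : ¬ (q = 2 ∧ k = 3)) (hc : n = k ^ t)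
      (hle : H ≤ tensorWreathSubgroup k t e P)
  | subfld (h : SubfieldAlt n q H)
  | six (R : Subgroup (GL (Fin n) F)) (r p e k : ℕ) (h : SixData q R r p e k) (hle : H ≤ subgroupNormalizer R)
  | residual (h : InUnitaryResidualClass H)

/-- The degree of a field of matrices divides the dimension. -/
theorem field_dvd [Fintype F] {ι : Type} [Fintype ι] [DecidableEq ι] [Nonempty ι] {r : ℕ}
    {K : Subalgebra F (Matrix ι ι F)} (hK : IsFieldSubalgebra r K) : r ∣ Fintype.card ι := by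
  haveI : Finite (Matrix ι ι F) := inferInstanceAs (Finite (ι → ι → F))
  have hfield : IsField K :=
    { exists_pair_ne := ⟨0, 1, zero_ne_one⟩
      mul_comm := fun a b => Subtype.ext (hK.comm a a.2 b b.2)
      mul_inv_cancel := fun {a} ha => by
        obtain ⟨y, hy, e⟩ := hK.inv a a.2 (fun h => ha (Subtype.ext h))
        exact ⟨⟨y, hy⟩, Subtype.ext e⟩ }
  letI : Field K := hfield.toField
  letI : Module K (ι → F) := Module.compHom (ι → F)
    ((Matrix.toLinAlgEquiv' : Matrix ι ι F ≃ₐ[F] Module.End F (ι → F)).toAlgHom.comp K.val).toRingHom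
  haveI : Module.Finite K (ι → F) := Module.Finite.of_finite
  have h1 : Nat.card (ι → F) = Nat.card K ^ Module.finrank K (ι → F) := Module.natCard_eq_pow_finrank
  rw [Module.natCard_eq_pow_finrank (K := F) (V := K), hK.finrank_eq, Nat.card_fun,
    Nat.card_eq_fintype_card (α := ι), ← pow_mul] at h1
  exact ⟨_, Nat.pow_right_injective Finite.one_lt_card h1⟩

theorem adjt_pow [Fintype F] (hF : Fintype.card F = q ^ 2) (M : Matrix (Fin n) (Fin n) F) (j : ℕ) :
    adjt hF (M ^ j) = adjt hF M ^ j := by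
  induction j with
  | zero => simp [adjt_one]
  | succ j ih => rw [pow_succ, adjt_mul, ih, ← pow_succ']

theorem adjt_mem_bicomm [Fintype F] (hF : Fintype.card F = q ^ 2) {N : Subgroup (GL (Fin n) F)}
    (hN : N ≤ Cfsg.GU n F q) {X : Matrix (Fin n) (Fin n) F} (hX : X ∈ AschGen.bicomm N) :
    adjt hF X ∈ AschGen.bicomm N := by
  obtain ⟨h1, h2⟩ := Algebra.mem_inf.1 hX
  refine Algebra.mem_inf.2 ⟨adjt_mem_centralizer hF (adjt_mem_matrixSet hF hN) h1,
    adjt_mem_centralizer hF (fun s hs => ?_) h2⟩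
  exact adjt_mem_centralizer hF (adjt_mem_matrixSet hF hN) hs

theorem cases_imprimitive [Fintype F] (hF : Fintype.card F = q ^ 2) (hH : H ≤ Cfsg.GU n F q)
    (h : AschGen.Imprimitive H) : Cases n q H := by
  obtain ⟨N, t, e, ht, hN, hs⟩ := h
  have S : IdemSys H e :=
    ⟨fun i => (hs.idem.idem i).eq, fun i j hij => hs.idem.ortho hij, hs.idem.complete, hs.ne_zero,
      fun g hg i => by obtain ⟨σ, hσ⟩ := hs.perm g hg; exact ⟨σ i, hσ i⟩, hs.trans⟩
  have hbic : ∀ j, adjt hF (e j) ∈ AschGen.bicomm N := fun j =>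
    adjt_mem_bicomm hF (hN.le.trans hH) (hs.mem j)
  have hsq : ∀ j, adjt hF (e j) * adjt hF (e j) = adjt hF (e j) := fun j => by rw [← adjt_mul, S.idem]
  have hne : ∀ j, adjt hF (e j) ≠ 0 := fun j h =>
    hs.ne_zero j (by rw [← adjt_adjt hF (e j), h, adjt_zero])
  have hadj : ∀ i, ∃ j, adjt hF (e i) = e j := by
    intro i
    obtain ⟨j, hj⟩ : ∃ j, adjt hF (e i) * e j ≠ 0 := by
      by_contra hcon
      push Not at hcon
      refine hne i ?_
      rw [← mul_one (adjt hF (e i)), ← S.sum, Finset.mul_sum]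
      exact Finset.sum_eq_zero fun j _ => hcon j
    have h1 := (hs.minimal _ (hbic i) (hsq i) j).resolve_left hj
    have h2 : adjt hF (e j) * e i = adjt hF (e j) := by
      have h3 := congrArg (adjt hF) h1
      rwa [adjt_mul, adjt_adjt] at h3
    refine ⟨j, ?_⟩
    rcases hs.minimal _ (hbic j) (hsq j) i with h3 | h3
    · exact absurd (h2.symm.trans h3) (hne j)
    · rw [← h3, h2, adjt_adjt]
  rcases idem_cases hF hH S ht hadj with ⟨s, k, D, hD, hc, hle⟩ | ⟨k, D, hc, hD, hts, hle⟩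
  · exact .orth s k D hD hc hle
  · exact .pair k D hc hD hts hle

theorem cases_fieldExt [Fintype F] (hF : Fintype.card F = q ^ 2) (hn : 0 < n) (hH : H ≤ Cfsg.GU n F q)
    (h : AschGen.FieldExt H) : Cases n q H := by
  haveI : Nonempty (Fin n) := ⟨⟨0, hn⟩⟩
  obtain ⟨N, hN, h1, hK⟩ := h
  obtain ⟨r, hr, hrs⟩ := Nat.exists_prime_and_dvd (show Module.finrank F (AschGen.bicomm N) ≠ 1 by omega)
  obtain ⟨K, hKle, hKf, hmem⟩ := AschSp.exists_prime_subfield hK hr hrs
  have hone : ∀ g ∈ H, ∀ k ∈ K, AschGen.conjA g k ∈ K := by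
    intro g hg k hk
    refine (hmem _ (AschGen.conjA_bicomm hN hg (hKle hk))).2 ?_
    rw [← map_pow, (hmem k (hKle hk)).1 hk]
  have hadj : ∀ k ∈ K, adjt hF k ∈ K := fun k hk => by
    refine (hmem _ (adjt_mem_bicomm hF (hN.le.trans hH) (hKle hk))).2 ?_
    rw [← adjt_pow, (hmem k (hKle hk)).1 hk]
  refine .field r K hr (odd_degree hF hr hKf hadj) ?_ hKf (isAdjointClosedFor_of hF hadj)
    (fun g hg k => ⟨fun hk => hone g hg k hk, fun hk => ?_⟩)
  · have h3 := field_dvd hKf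
    rwa [Fintype.card_fin] at h3
  · have h3 := hone g⁻¹ (inv_mem hg) _ hk
    rwa [← AschGen.conjA_apply, AschGen.conjA_inv] at h3

theorem cases_square [Fintype F] (hF : Fintype.card F = q ^ 2) (hn : 2 ≤ n) (hH : H ≤ Cfsg.GU n F q) {d t : ℕ}
    (hd : 2 ≤ d) (ht : 2 ≤ t) (e : Fin n ≃ (Fin t → Fin d)) {P : GL (Fin n) F} (hP : P ∈ Cfsg.GU n F q)
    (hle : H ≤ tensorWreathSubgroup d t e P) : Cases n q H := by
  rcases Nat.lt_or_ge d 3 with h3 | h3
  · obtain rfl : d = 2 := by omega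
    exact .subfld (plane_power hF hn e hP hH hle)
  by_cases hq : q = 2 ∧ d = 3
  · obtain ⟨rfl, rfl⟩ := hq
    rcases cube_power hF (by omega) e hP hH hle with h | ⟨R, p, ee, h, hle'⟩
    · exact .subfld h
    · exact .six R 3 p ee t h hle'
  · exact .power d t e P hP h3 ht hq (by simpa using Fintype.card_congr e) hle

theorem cases_tensor [Fintype F] (hF : Fintype.card F = q ^ 2) (hn : 2 ≤ n) (hH : H ≤ Cfsg.GU n F q)
    (h : AschGen.TensorProd H) : Cases n q H := by
  obtain ⟨N, d, k, e, P, hN, hd, hk, hmem, hle⟩ := h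
  have hA : ∀ a : Matrix (Fin d) (Fin d) F, ∃ a', adjt hF (AschGen.tensMat e P a (1 : Matrix (Fin k) (Fin k) F)) =
      AschGen.tensMat e P a' 1 := fun a =>
    (hmem _).1 (adjt_mem_adjoin hF (hN.le.trans hH) ((hmem _).2 ⟨a, rfl⟩))
  obtain ⟨P', hP', hle'⟩ := tensor_unitary hF (by omega) (by omega) e P hA
  have hnc : n = d * k := by simpa using Fintype.card_congr e
  rcases lt_trichotomy d k with hlt | heq | hgt
  · exact .tensor d k e P' hP' hd hlt hnc (hle.trans hle')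
  · subst heq
    exact cases_square hF hn hH hd le_rfl _ hP' ((hle.trans hle').trans (tensorProduct_le_wreath e P'))
  · exact .tensor k d _ P' hP' hk hgt (by rw [hnc, mul_comm])
      ((hle.trans hle').trans (tensorProduct_swap e P'))

theorem cases_power [Fintype F] (hF : Fintype.card F = q ^ 2) (hn : 2 ≤ n) (hH : H ≤ Cfsg.GU n F q)
    (h : AschGen.TensorPow H) : Cases n q H := by
  obtain ⟨d, t, M, e, P, hd, ht, hM⟩ := h
  have hA : ∀ (i : Fin t) (a : Matrix (Fin d) (Fin d) F), ∃ a', adjt hF (AschGen.powEmb e P i a) =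
      AschGen.powEmb e P i a' := fun i a =>
    (hM.span i _).1 (adjt_mem_adjoin hF ((hM.le i).trans hH) ((hM.span i _).2 ⟨a, rfl⟩))
  obtain ⟨P', hP', hle⟩ := power_unitary hF (by omega) (by omega) e P hA
  exact cases_square hF hn hH hd ht e hP' (hM.stab.trans hle)

/-- The subgroup theorem for unitary groups. -/
theorem unitary_cases [Fintype F] (hF : Fintype.card F = q ^ 2) (hn : 3 ≤ n) (hH : H ≤ Cfsg.GU n F q) :
    Cases n q H := by
  by_cases hirr : ActsIrreducibly (matrixSet H)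
  swap
  · rcases reducible_cases hF hH hirr with ⟨W, h0, -, hts, hle⟩ | ⟨W, h0, -, hnd, hlt, hle⟩ | ⟨k, D, hc, hD, hle⟩
    · exact .totSing W h0 hts hle
    · exact .small W h0 hnd hlt hle
    · exact .orth 2 k D hD hc hle
  rcases AschGen.core hirr (by rw [Fintype.card_fin]; omega) with h | h | h | h | h | h
  · exact cases_imprimitive hF hH h
  · exact cases_fieldExt hF (by omega) hH h
  · exact cases_tensor hF (by omega) hH h
  · obtain ⟨R, r, k, h6⟩ := h
    rcases six_cases hF (by omega) hH h6 with hs | ⟨p, e, hs, hle⟩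
    · exact .subfld hs
    · exact .six R r p e k hs hle
  · exact cases_power hF (by omega) hH h
  · obtain ⟨P, hP⟩ := h
    rcases simple_cases hF (by omega) hH hP with h | h
    · exact .subfld h
    · exact .residual h

/-- The subgroup theorem in terms of the classes. -/
theorem le_member_or_residual [Fintype F] (hF : Fintype.card F = q ^ 2) (hn : 3 ≤ n) (hH : H ≤ Cfsg.GU n F q) :
    (∃ M, InUnitaryClass n F q M ∧ H ≤ M) ∨ InUnitaryResidualClass H := by
  cases unitary_cases hF hn hH with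
  | totSing W h0 hts hle => exact Or.inl ⟨_, Or.inl (Or.inl ⟨W, h0, hts, rfl⟩), le_inf hle hH⟩
  | small W h0 hnd hlt hle => exact Or.inl ⟨_, Or.inl (Or.inr (Or.inl ⟨W, h0, hnd, hlt, rfl⟩)), le_inf hle hH⟩
  | orth t k D hD hc hle => exact Or.inl ⟨_, Or.inl (Or.inr (Or.inr (Or.inl ⟨t, k, D, hD, rfl⟩))), le_inf hle hH⟩
  | pair k D hc hD hts hle =>
    exact Or.inl ⟨_, Or.inl (Or.inr (Or.inr (Or.inr (Or.inl ⟨k, D, hc, hD, hts, rfl⟩)))), le_inf hle hH⟩
  | field r K hr hodd hdvd hK hadj hle =>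
    exact Or.inl ⟨_, Or.inr (Or.inl ⟨r, K, hr, hodd, hK, hadj, rfl⟩), le_inf hle hH⟩
  | tensor n₁ n₂ e P hP h2 hlt hc hle =>
    exact Or.inl ⟨_, Or.inr (Or.inr (Or.inl ⟨n₁, n₂, e, P, _, _, h2, hlt, herm_pow hF n₁, herm_pow hF n₂,
      isTensorFormStructure_std hF e hP, rfl⟩)), le_inf hle hH⟩
  | power k t e P hP hk ht hne hc hle =>
    exact Or.inl ⟨_, Or.inr (Or.inr (Or.inr ⟨k, t, e, P, _, hk, ht, hne, herm_pow hF k,
      isTensorPowerFormStructure_std hF e hP, rfl⟩)), le_inf hle hH⟩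
  | subfld h =>
    rcases h with ⟨F₀, r, P, hr, ho, hc, hP, hle⟩ | ⟨ho, F₀, P, hc, hP, hle⟩ |
      ⟨F₀, P, ζ, hev, hc, h0, hz, hP, hal, hle⟩
    · exact Or.inl ⟨_, Or.inl (Or.inr (Or.inr (Or.inr (Or.inr (Or.inl
        ⟨F₀, r, P, hr, ho, hc, hP, rfl⟩))))), le_inf hle hH⟩
    · exact Or.inl ⟨_, Or.inl (Or.inr (Or.inr (Or.inr (Or.inr (Or.inr (Or.inl
        ⟨F₀, P, ho, hc, hP, rfl⟩)))))), le_inf hle hH⟩
    · exact Or.inl ⟨_, Or.inl (Or.inr (Or.inr (Or.inr (Or.inr (Or.inr (Or.inr (Or.inl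
        ⟨F₀, P, ζ, hev, hc, h0, hz, hP, hal, rfl⟩))))))), le_inf hle hH⟩
  | six R r p e k h hle =>
    exact Or.inl ⟨_, Or.inl (Or.inr (Or.inr (Or.inr (Or.inr (Or.inr (Or.inr (Or.inr
      ⟨r, R, p, e, k, h.symp, h.absIrr, h.sim, h.ne, h.minimal, h.card, rfl⟩))))))), le_inf hle hH⟩
  | residual h => exact Or.inr h

end Cfsg.Lib.Linear.AschU
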