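import Cfsg.Agent.Lib.Linear.AschU.NotSUSix
import Cfsg.Agent.Lib.Linear.AschU.BinaryPlanes

/-!
# Maximal subgroups of the special unitary groups

A maximal subgroup contained in a geometric member is that member intersected with the special unitary group.
-/

set_option autoImplicit false
set_option linter.unusedSectionVars false
set_option linter.style.haveILetI false

namespace Cfsg.Lib.Linear.AschU

open Cfsg.Geo Cfsg.Lib.Linear Cfsg.Lib.Linear.Herm Cfsg.Lib.Linear.Asch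
open scoped Matrix MatrixGroups

variable {F : Type*} [Field F] [Fintype F] {q n : ℕ} {H : Subgroup (GL (Fin n) F)}

theorem totSing_ne_top (hF : Fintype.card F = q ^ 2) (hn : 0 < n) {W : Submodule F (Fin n → F)}
    (hts : IsTotallySingularFor (Cfsg.hermForm n F q) W) : W ≠ ⊤ := by
  intro h
  obtain ⟨x, hx⟩ := ((herm_unitary (n := n) hF).nondegenerate (Pi.single ⟨0, hn⟩ 1) (by simp)).1
  exact hx (hts x (h ▸ Submodule.mem_top) _ (h ▸ Submodule.mem_top))

theorem max_totSing (hF : Fintype.card F = q ^ 2) (hn : 2 ≤ n) (hH : IsMaximalIn (sunit n F q) H)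
    {W : Submodule F (Fin n → F)} (h0 : W ≠ ⊥) (hts : IsTotallySingularFor (Cfsg.hermForm n F q) W)
    (hle : H ≤ subspaceStabilizer W) : H = subspaceStabilizer W ⊓ sunit n F q :=
  eq_inf_of_maximal hH hle (not_sunit_le_subspaceStabilizer hF hn h0 (totSing_ne_top hF (by omega) hts))

theorem max_small (hF : Fintype.card F = q ^ 2) (hn : 2 ≤ n) (hH : IsMaximalIn (sunit n F q) H)
    {W : Submodule F (Fin n → F)} (h0 : W ≠ ⊥) (hlt : 2 * Module.finrank F W < n)
    (hle : H ≤ subspaceStabilizer W) : H = subspaceStabilizer W ⊓ sunit n F q :=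
  eq_inf_of_maximal hH hle (not_sunit_le_subspaceStabilizer hF hn h0 fun h => by
    rw [h, finrank_top, Module.finrank_fin_fun] at hlt; omega)

theorem max_decomp (hF : Fintype.card F = q ^ 2) (hn : 4 ≤ n) (hH : IsMaximalIn (sunit n F q) H) {t k : ℕ}
    {D : Fin t → Submodule F (Fin n → F)} (hD : IsMDecomposition k D) (hle : H ≤ decompositionStabilizer D) :
    H = decompositionStabilizer D ⊓ sunit n F q :=
  eq_inf_of_maximal hH hle (not_sunit_le_decomp hF hn hD)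

theorem max_field (hF : Fintype.card F = q ^ 2) (hn : 3 ≤ n) (hH : IsMaximalIn (sunit n F q) H) {r : ℕ}
    (hr : r.Prime) {K : Subalgebra F (Matrix (Fin n) (Fin n) F)} (hK : IsFieldSubalgebra r K)
    (hle : H ≤ subalgebraNormalizer K) : H = subalgebraNormalizer K ⊓ sunit n F q :=
  eq_inf_of_maximal hH hle (not_sunit_le_field hF hn hr.two_le hK)

theorem max_tensor (hF : Fintype.card F = q ^ 2) (hH : IsMaximalIn (sunit n F q) H) {d k : ℕ} (hd : 2 ≤ d)
    (hk : 2 ≤ k) (e : Fin n ≃ Fin d × Fin k) {P : GL (Fin n) F} (hP : P ∈ Cfsg.GU n F q)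
    (hle : H ≤ tensorProductSubgroup d k e P) :
    ∃ (e : Fin n ≃ Fin d × Fin k) (P : GL (Fin n) F) (f₁ : (Fin d → F) → (Fin d → F) → F)
      (f₂ : (Fin k → F) → (Fin k → F) → F), IsUnitaryFormPow q f₁ ∧ IsUnitaryFormPow q f₂ ∧
      IsTensorFormStructure (fun x : F => x ^ q) (Cfsg.hermForm n F q) f₁ f₂ e P ∧
      H = tensorProductSubgroup d k e P ⊓ sunit n F q :=
  ⟨e, P, _, _, herm_pow hF d, herm_pow hF k, isTensorFormStructure_std hF e hP,
    eq_inf_of_maximal hH hle (not_sunit_le_tensor hF hd hk e P)⟩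

theorem max_square (hF : Fintype.card F = q ^ 2) (hq : 3 ≤ q) (hH : IsMaximalIn (sunit n F q) H) {k : ℕ}
    (hk : 2 ≤ k) (e : Fin n ≃ (Fin 2 → Fin k)) {P : GL (Fin n) F} (hP : P ∈ Cfsg.GU n F q)
    (hle : H ≤ tensorWreathSubgroup k 2 e P) :
    ∃ (e : Fin n ≃ (Fin 2 → Fin k)) (P : GL (Fin n) F) (f₁ : (Fin k → F) → (Fin k → F) → F),
      IsUnitaryFormPow q f₁ ∧ IsTensorPowerFormStructure (fun x : F => x ^ q) (Cfsg.hermForm n F q) f₁ e P ∧
      H = tensorWreathSubgroup k 2 e P ⊓ sunit n F q :=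
  ⟨e, P, _, herm_pow hF k, isTensorPowerFormStructure_std hF e hP,
    eq_inf_of_maximal hH hle (not_sunit_le_square hF hq hk e P)⟩

/-- The subfield alternatives for maximal subgroups. -/
def SubfieldMember (n q : ℕ) (H : Subgroup (GL (Fin n) F)) : Prop :=
  (∃ (F₀ : Subfield F) (r : ℕ) (P : GL (Fin n) F), r.Prime ∧ Odd r ∧ Fintype.card F = Nat.card F₀ ^ r ∧
      IsFormRationalStructure (Cfsg.hermForm n F q) F₀ 1 P ∧ H = subfieldSubgroup F₀ P ⊓ sunit n F q) ∨
  (Odd q ∧ ∃ (F₀ : Subfield F) (P : GL (Fin n) F), Fintype.card F = Nat.card F₀ ^ 2 ∧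
      IsFormRationalStructure (Cfsg.hermForm n F q) F₀ 1 P ∧ H = subfieldSubgroup F₀ P ⊓ sunit n F q) ∨
  (∃ (F₀ : Subfield F) (P : GL (Fin n) F) (ζ : F), Even n ∧ Fintype.card F = Nat.card F₀ ^ 2 ∧ ζ ≠ 0 ∧
      ζ + ζ ^ q = 0 ∧ IsFormRationalStructure (Cfsg.hermForm n F q) F₀ ζ P ∧
      (∀ u : Fin n → F, (∀ i, u i ∈ F₀) → Cfsg.hermForm n F q (P.val *ᵥ u) (P.val *ᵥ u) = 0) ∧
      H = subfieldSubgroup F₀ P ⊓ sunit n F q)

theorem ne_top_of_card {F₀ : Subfield F} {r : ℕ} (hr : 2 ≤ r) (hc : Fintype.card F = Nat.card F₀ ^ r) :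
    F₀ ≠ ⊤ := by
  intro h
  have h1 : Nat.card (⊤ : Subfield F) = Fintype.card F := by
    rw [← Nat.card_eq_fintype_card]
    exact Nat.card_congr (Equiv.subtypeUnivEquiv fun _ => trivial)
  rw [h, h1] at hc
  have h2 : Fintype.card F ^ 1 < Fintype.card F ^ r := Nat.pow_lt_pow_right Fintype.one_lt_card (by omega)
  rw [pow_one, ← hc] at h2
  omega

theorem max_subfield (hF : Fintype.card F = q ^ 2) (hn : 4 ≤ n) (hH : IsMaximalIn (sunit n F q) H)
    (h : SubfieldAlt n q H) : SubfieldMember n q H := by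
  rcases h with ⟨F₀, r, P, hr, ho, hc, hP, hle⟩ | ⟨ho, F₀, P, hc, hP, hle⟩ |
    ⟨F₀, P, ζ, hev, hc, h0, hz, hP, hal, hle⟩
  · exact Or.inl ⟨F₀, r, P, hr, ho, hc, hP,
      eq_inf_of_maximal hH hle (not_sunit_le_subfield hF hn (ne_top_of_card hr.two_le hc) P)⟩
  · exact Or.inr (Or.inl ⟨ho, F₀, P, hc, hP,
      eq_inf_of_maximal hH hle (not_sunit_le_subfield hF hn (ne_top_of_card le_rfl hc) P)⟩)
  · exact Or.inr (Or.inr ⟨F₀, P, ζ, hev, hc, h0, hz, hP, hal,
      eq_inf_of_maximal hH hle (not_sunit_le_subfield hF hn (ne_top_of_card le_rfl hc) P)⟩)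

theorem prime_of_card (hF : Fintype.card F = q ^ 2) {p e : ℕ} (hp : p.Prime) (he : Fintype.card F = p ^ e) :
    ∃ a, q = p ^ a ∧ e = 2 * a ∧ 0 < a := by
  rw [hF] at he
  obtain ⟨a, -, ha⟩ := (Nat.dvd_prime_pow hp).1 (he ▸ dvd_pow_self q two_ne_zero)
  refine ⟨a, ha, ?_, Nat.pos_of_ne_zero fun h => ?_⟩
  · rw [ha, ← pow_mul] at he
    have := Nat.pow_right_injective hp.two_le he
    omega
  · rw [h, pow_zero] at ha
    have := two_le_q (F := F) (q := q) (by rw [hF])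
    omega

/-- The numerical consequences of the data of class six for two-groups. -/
theorem six_two (hF : Fintype.card F = q ^ 2) {R : Subgroup (GL (Fin n) F)} {p e k : ℕ}
    (h : SixData q R 2 p e k) : p.Prime ∧ q = p ∧ p % 4 = 3 ∧ Nat.card R = 2 ^ (2 + 2 * k) ∧
      Nat.card (Subgroup.center R) = 4 := by
  obtain ⟨ho, -⟩ | ⟨-, he, hz, hR⟩ := h.card
  · exact absurd ho (by decide)
  obtain ⟨hp, -, hc, hdvd, hmin⟩ := h.minimal
  obtain ⟨a, ha, hea, -⟩ := prime_of_card hF hp hc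
  obtain rfl : a = 1 := by omega
  rw [pow_one] at ha
  refine ⟨hp, ha, ?_, hR, hz⟩
  have h4 := hmin 1 one_pos (by omega)
  rw [hz, pow_one] at h4
  obtain ⟨j, hj⟩ := hp.odd_of_ne_two (Ne.symm h.ne)
  omega

/-- The numerical consequences of the data of class six for three-groups. -/
theorem six_three (hF : Fintype.card F = q ^ 2) {R : Subgroup (GL (Fin n) F)} {p e k : ℕ}
    (h : SixData q R 3 p e k) : p.Prime ∧ q = p ∧ p % 3 = 2 ∧ Nat.card R = 3 ^ (1 + 2 * k) ∧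
      Nat.card (Subgroup.center R) = 3 := by
  obtain ⟨-, hz, -, hR⟩ | ⟨h3, -⟩ := h.card
  swap
  · exact absurd h3 (by decide)
  obtain ⟨hp, -, hc, hdvd, hmin⟩ := h.minimal
  obtain ⟨a, ha, hea, ha0⟩ := prime_of_card hF hp hc
  have hp3 : p % 3 ≠ 0 := fun h0 => h.ne
    ((Nat.prime_dvd_prime_iff_eq Nat.prime_three hp).1 (Nat.dvd_of_mod_eq_zero h0))
  have hsq : 3 ∣ p ^ 2 - 1 := by
    have h1 : p ^ 2 % 3 = 1 := by
      rw [Nat.pow_mod]
      have := Nat.mod_lt p (show 3 > 0 by norm_num)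
      interval_cases hm : p % 3
      · exact absurd rfl hp3
      · rfl
      · rfl
    omega
  have he2 : ¬ 2 < e := fun h2 => hmin 2 two_pos h2 (hz.symm ▸ hsq)
  obtain rfl : a = 1 := by omega
  rw [pow_one] at ha
  refine ⟨hp, ha, ?_, hR, hz⟩
  have h4 := hmin 1 one_pos (by omega)
  rw [hz, pow_one] at h4
  have := hp.two_le
  omega

theorem max_six (hF : Fintype.card F = q ^ 2) (hn : 5 ≤ n) (hH : IsMaximalIn (sunit n F q) H)
    {R : Subgroup (GL (Fin n) F)} {r p e k : ℕ} (h : SixData q R r p e k) (hle : H ≤ subgroupNormalizer R) :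
    H = subgroupNormalizer R ⊓ sunit n F q :=
  eq_inf_of_maximal hH hle (not_sunit_le_six hF hn h.absIrr h.comm)

end Cfsg.Lib.Linear.AschU
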