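import Cfsg.Agent.Lib.Linear.AschU.General
import Cfsg.Agent.Lib.Linear.Aschbacher.NotSL

/-!
# The special unitary group lies in none of the geometric subgroups

Transvections show that decompositions, extension fields and tensor decompositions are moved.
-/

set_option autoImplicit false
set_option linter.unusedSectionVars false
set_option linter.style.haveILetI false

namespace Cfsg.Lib.Linear.AschU

open Cfsg.Geo Cfsg.Lib.Linear Cfsg.Lib.Linear.Herm Cfsg.Lib.Linear.Asch
open scoped Matrix MatrixGroups Kronecker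

variable {F : Type*} [Field F] [Fintype F] {q n : ℕ}

theorem herm_add_self (hF : Fintype.card F = q ^ 2) (z w : Fin n → F) (c : F) :
    Cfsg.hermForm n F q (z + c • w) (z + c • w) = Cfsg.hermForm n F q z z +
      sigmaE hF (c * Cfsg.hermForm n F q w z) + c * Cfsg.hermForm n F q w z +
      c * sigmaE hF c * Cfsg.hermForm n F q w w := by
  have hU := herm_unitary (n := n) hF
  have hf := isSesq_of_unitary hU
  rw [hf.add_left, hf.add_right, hf.add_right, hf.smul_left, hf.smul_left, hf.smul_right, hf.smul_right, map_mul,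
    ← hU.herm z w]
  ring

/-- A second isotropic vector perpendicular to a given one. -/
theorem exists_iso_perp (hF : Fintype.card F = q ^ 2) (hn : 4 ≤ n) {z : Fin n → F} (hz0 : z ≠ 0) :
    ∃ w, w ∉ Submodule.span F {z} ∧ Cfsg.hermForm n F q w w = 0 ∧ Cfsg.hermForm n F q w z = 0 := by
  classical
  obtain ⟨i, hi⟩ := Function.ne_iff.1 hz0
  let U : Submodule F (Fin n → F) := perp hF (Submodule.span F {z}) ⊓ LinearMap.ker (LinearMap.proj i)
  have hdim : 2 ≤ Module.finrank F U := by
    have h1 := Submodule.finrank_sup_add_finrank_inf_eq (perp hF (Submodule.span F {z}))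
      (LinearMap.ker (LinearMap.proj i : (Fin n → F) →ₗ[F] F))
    have h2 := finrank_perp hF (Submodule.span F {z})
    rw [finrank_span_singleton hz0] at h2
    have h3 := LinearMap.finrank_range_add_finrank_ker (LinearMap.proj i : (Fin n → F) →ₗ[F] F)
    have h4 : Module.finrank F (LinearMap.range (LinearMap.proj i : (Fin n → F) →ₗ[F] F)) ≤ 1 :=
      (Submodule.finrank_le _).trans (Module.finrank_self F).le
    have h5 := Submodule.finrank_le (perp hF (Submodule.span F {z}) ⊔ LinearMap.ker (LinearMap.proj i : (Fin n → F) →ₗ[F] F))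
    rw [Module.finrank_fin_fun] at h3 h5
    show 2 ≤ Module.finrank F (perp hF (Submodule.span F {z}) ⊓ LinearMap.ker (LinearMap.proj i : (Fin n → F) →ₗ[F] F) : Submodule F (Fin n → F))
    omega
  obtain ⟨w, hw, hw0, hww⟩ := exists_iso_ne_zero (frob_ne_id hF) (frob_frob hF) (hB_isSymm hF n) U hdim
  refine ⟨w, fun h => ?_, by rwa [hB_apply] at hww, ?_⟩
  · obtain ⟨a, rfl⟩ := Submodule.mem_span_singleton.1 h
    have h1 : a * z i = 0 := by simpa using hw.2
    rcases mul_eq_zero.1 h1 with h1 | h1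
    · exact hw0 (by rw [h1, zero_smul])
    · exact hi h1
  · have h1 := hw.1 z (Submodule.mem_span_singleton_self z)
    rwa [hB_apply] at h1

/-- No decomposition into several subspaces is fixed by the special unitary group. -/
theorem not_sunit_le_decomp (hF : Fintype.card F = q ^ 2) (hn : 4 ≤ n) {m t : ℕ}
    {D : Fin t → Submodule F (Fin n → F)} (hD : IsMDecomposition m D) :
    ¬ sunit n F q ≤ decompositionStabilizer D := by
  classical
  intro hle
  have hU := herm_unitary (n := n) hF
  have hf := isSesq_of_unitary hU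
  obtain ⟨l, hl0, hl⟩ := exists_trace hF
  have hne : ∀ i, D i ≠ ⊥ := fun i e => by
    have := hD.finrank_eq i
    rw [e, finrank_bot] at this
    have := hD.pos
    omega
  have hdis : ∀ i j, i ≠ j → ∀ x ∈ D i, x ∈ D j → x = 0 := fun i j hij x hx hx' => by
    have h := hD.indep.pairwiseDisjoint hij
    exact Submodule.disjoint_def.1 h x hx hx'
  have key : ∀ z : Fin n → F, z ≠ 0 → Cfsg.hermForm n F q z z = 0 →
      (∃ i, z ∈ D i) ∨ (m = 1 ∧ ∃ i j, z ∈ D i ⊔ D j) := by
    intro z hz0 hz
    obtain ⟨g, hg, -, hgv⟩ := exists_utv hF hz hl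
    obtain ⟨σ, hσ⟩ := hle hg
    have hmem : ∀ i, ∀ v ∈ D i, v + (l * Cfsg.hermForm n F q v z) • z ∈ D (σ i) := fun i v hv => by
      rw [← hσ i, ← hgv]
      exact ⟨v, hv, Matrix.toLin'_apply _ _⟩
    by_cases hfix : ∀ i, σ i = i
    · left
      by_contra hnone
      push Not at hnone
      have hperp : ∀ v, Cfsg.hermForm n F q v z = 0 := by
        intro v
        have hv : v ∈ iSup D := hD.iSup_eq_top ▸ Submodule.mem_top
        induction hv using Submodule.iSup_induction' with
        | mem i x hx =>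
          by_contra hne'
          have h1 := hmem i x hx
          rw [hfix i, (D i).add_mem_iff_right hx] at h1
          exact hnone i ((Submodule.smul_mem_iff _ (mul_ne_zero hl0 hne')).1 h1)
        | zero => rw [← zero_smul F (0 : Fin n → F), hf.smul_left, zero_mul]
        | add x y _ _ hx hy => rw [hf.add_left, hx, hy, add_zero]
      obtain ⟨x, hx⟩ := (hU.nondegenerate z hz0).1
      exact hx (hperp x)
    · right
      push Not at hfix
      obtain ⟨i, hi⟩ := hfix
      have hne' : ∀ v ∈ D i, v ≠ 0 → Cfsg.hermForm n F q v z ≠ 0 := fun v hv hv0 h => by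
        have h1 := hmem i v hv
        rw [h, mul_zero, zero_smul, add_zero] at h1
        exact hv0 (hdis i _ (Ne.symm hi) v hv h1)
      obtain ⟨v, hv, hv0⟩ := Submodule.exists_mem_ne_zero_of_ne_bot (hne i)
      refine ⟨?_, i, σ i, ?_⟩
      · have hle' : D i ≤ Submodule.span F {v} := by
          intro u hu
          set a := Cfsg.hermForm n F q u z / Cfsg.hermForm n F q v z
          have h0 : u - a • v = 0 := by
            by_contra hne0
            refine hne' _ ((D i).sub_mem hu ((D i).smul_mem a hv)) hne0 ?_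
            rw [sub_eq_add_neg, ← neg_smul, hf.add_left, hf.smul_left, neg_mul,
              div_mul_cancel₀ _ (hne' v hv hv0), add_neg_cancel]
          rw [sub_eq_zero.1 h0]
          exact Submodule.smul_mem _ a (Submodule.mem_span_singleton_self v)
        have h1 := Submodule.finrank_mono hle'
        rw [hD.finrank_eq i, finrank_span_singleton hv0] at h1
        have := hD.pos
        omega
      · refine ((D i ⊔ D (σ i)).smul_mem_iff (mul_ne_zero hl0 (hne' v hv hv0))).1 ?_
        exact ((D i ⊔ D (σ i)).add_mem_iff_right (Submodule.mem_sup_left hv)).1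
          (Submodule.mem_sup_right (hmem i v hv))
  obtain ⟨z, hz0, hz⟩ := exists_singular hF (show 2 ≤ n by omega)
  by_cases hm : m = 1
  · subst hm
    obtain ⟨b, hb⟩ := decomp_gen hD
    let S : (Fin n → F) → Finset (Fin t) := fun v => Finset.univ.filter fun k => b.repr v k ≠ 0
    have hS : ∀ {v k}, k ∈ S v ↔ b.repr v k ≠ 0 := fun {v k} => by simp [S]
    have hsupp : ∀ v, v ≠ 0 → Cfsg.hermForm n F q v v = 0 → (S v).card ≤ 2 := by
      intro v hv0 hv
      obtain ⟨i, j, hij⟩ : ∃ i j, v ∈ D i ⊔ D j := by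
        rcases key v hv0 hv with ⟨i, hi⟩ | ⟨-, h⟩
        · exact ⟨i, i, Submodule.mem_sup_left hi⟩
        · exact h
      rw [hb i, hb j] at hij
      obtain ⟨x, hx, y, hy, rfl⟩ := Submodule.mem_sup.1 hij
      obtain ⟨a, rfl⟩ := Submodule.mem_span_singleton.1 hx
      obtain ⟨c, rfl⟩ := Submodule.mem_span_singleton.1 hy
      refine (Finset.card_le_card (t := {i, j}) fun k hk => ?_).trans Finset.card_le_two
      rw [hS] at hk
      by_contra hne'
      simp only [Finset.mem_insert, Finset.mem_singleton, not_or] at hne'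
      simp [Finsupp.single_apply, Ne.symm hne'.1, Ne.symm hne'.2] at hk
    have hpair : ∀ v, v ≠ 0 → Cfsg.hermForm n F q v v = 0 → ∀ i ∈ S v, ∀ j ∈ S v,
        Cfsg.hermForm n F q (b i) (b j) = 0 := by
      intro v hv0 hv i hi j hj
      obtain ⟨w, hwv, hw, hwv'⟩ := exists_iso_perp hF hn hv0
      have hw0 : w ≠ 0 := fun h => hwv (h ▸ zero_mem _)
      have hvw' : Cfsg.hermForm n F q v w = 0 := by rw [hU.herm, hwv', map_zero]
      have hli : LinearIndependent F ![v, w] := by
        rw [LinearIndependent.pair_iff' hv0]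
        exact fun a h => hwv (Submodule.mem_span_singleton.2 ⟨a, h⟩)
      have hunion : (S v ∪ S w).card ≤ 2 := by
        by_contra hlt
        have hint : (S v ∩ S w).card ≤ 1 := by
          have := Finset.card_union_add_card_inter (S v) (S w)
          have := hsupp v hv0 hv
          have := hsupp w hw0 hw
          omega
        obtain ⟨c, hc0, hc⟩ : ∃ c : F, c ≠ 0 ∧ ∀ k ∈ S v ∩ S w, b.repr v k + c * b.repr w k ≠ 0 := by
          let bad : Finset F := insert 0 ((S v ∩ S w).image fun k => -(b.repr v k) / b.repr w k)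
          obtain ⟨c, hc⟩ : ∃ c : F, c ∉ bad := by
            by_contra hall
            push Not at hall
            have h1 := (Finset.card_le_card (fun x _ => hall x : Finset.univ ⊆ bad)).trans (Finset.card_insert_le _ _)
            have h2 := Finset.card_image_le (s := S v ∩ S w) (f := fun k => -(b.repr v k) / b.repr w k)
            have h3 : 2 * 2 ≤ Fintype.card F := by
              rw [hF, sq]; exact Nat.mul_le_mul (two_le_q hF) (two_le_q hF)
            rw [Finset.card_univ] at h1
            omega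
          refine ⟨c, fun h => hc (h ▸ Finset.mem_insert_self _ _), fun k hk h => hc (Finset.mem_insert_of_mem
            (Finset.mem_image.2 ⟨k, hk, ?_⟩))⟩
          have hwk := hS.1 (Finset.mem_inter.1 hk).2
          field_simp
          linear_combination -h
        have hiso : Cfsg.hermForm n F q (v + c • w) (v + c • w) = 0 := by
          rw [herm_add_self hF, hv, hw, hwv', mul_zero, map_zero, mul_zero]; ring
        have hsub : S v ∪ S w ⊆ S (v + c • w) := fun k hk => by
          rw [hS, map_add, map_smul, Finsupp.add_apply, Finsupp.smul_apply, smul_eq_mul]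
          by_cases h1 : k ∈ S v <;> by_cases h2 : k ∈ S w
          · exact hc k (Finset.mem_inter.2 ⟨h1, h2⟩)
          · have h2' : b.repr w k = 0 := by simpa [hS] using h2
            rw [h2', mul_zero, add_zero]; exact hS.1 h1
          · have h1' : b.repr v k = 0 := by simpa [hS] using h1
            rw [h1', zero_add]; exact mul_ne_zero hc0 (hS.1 h2)
          · exact absurd (Finset.mem_union.1 hk) (by tauto)
        have := (Finset.card_le_card hsub).trans (hsupp _ (fun h0 => hwv ?_) hiso)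
        · omega
        · refine Submodule.mem_span_singleton.2 ⟨-c⁻¹, ?_⟩
          rw [← sub_eq_zero, show -c⁻¹ • v - w = -c⁻¹ • (v + c • w) by
            rw [smul_add, smul_smul, neg_mul, inv_mul_cancel₀ hc0, neg_one_smul, sub_eq_add_neg], h0, smul_zero]
      let P : Submodule F (Fin n → F) := Submodule.span F (Set.range ![v, w])
      let Q : Submodule F (Fin n → F) := Submodule.span F ((S v ∪ S w).image b : Set (Fin n → F))
      have hvw : v ∈ P ∧ w ∈ P := ⟨Submodule.subset_span ⟨0, rfl⟩, Submodule.subset_span ⟨1, rfl⟩⟩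
      have hexp : ∀ u, S u ⊆ S v ∪ S w → u ∈ Q := fun u hu => by
        rw [← b.sum_repr u]
        refine sum_mem fun k _ => ?_
        by_cases hk : b.repr u k = 0
        · rw [hk, zero_smul]; exact zero_mem _
        · exact Q.smul_mem _ (Submodule.subset_span (Finset.mem_image_of_mem _ (hu (hS.2 hk))))
      have hPQ : P = Q := by
        refine Submodule.eq_of_le_of_finrank_le (Submodule.span_le.2 ?_) ?_
        · rintro _ ⟨k, rfl⟩
          fin_cases k
          · exact hexp v Finset.subset_union_left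
          · exact hexp w Finset.subset_union_right
        · rw [finrank_span_eq_card hli, Fintype.card_fin]
          exact (finrank_span_finset_le_card _).trans (Finset.card_image_le.trans hunion)
      have hzero : ∀ x ∈ P, ∀ y ∈ P, Cfsg.hermForm n F q x y = 0 := by
        intro x hx y hy
        simp only [P, Submodule.mem_span_range_iff_exists_fun, Fin.sum_univ_two] at hx hy
        obtain ⟨a, rfl⟩ := hx
        obtain ⟨c, rfl⟩ := hy
        simp only [Matrix.cons_val_zero, Matrix.cons_val_one, hf.add_left, hf.add_right, hf.smul_left,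
          hf.smul_right, hv, hw, hwv', hvw', mul_zero, add_zero]
      have hmemP : ∀ k ∈ S v, b k ∈ P := fun k hk =>
        hPQ ▸ Submodule.subset_span (Finset.mem_image_of_mem _ (Finset.mem_union_left _ hk))
      exact hzero _ (hmemP i hi) _ (hmemP j hj)
    obtain ⟨i, hi⟩ : (S z).Nonempty := by
      by_contra hemp
      rw [Finset.not_nonempty_iff_eq_empty] at hemp
      refine hz0 ?_
      rw [← b.sum_repr z]
      refine Finset.sum_eq_zero fun k _ => ?_
      have hk : b.repr z k = 0 := by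
        by_contra hk
        have := hS.2 hk
        rw [hemp] at this
        simp at this
      rw [hk, zero_smul]
    have hii := hpair z hz0 hz i hi i hi
    obtain ⟨j, hj⟩ : ∃ j, Cfsg.hermForm n F q (b i) (b j) ≠ 0 := by
      by_contra hall
      push Not at hall
      obtain ⟨x, hx⟩ := (hU.nondegenerate (b i) (b.ne_zero i)).2
      refine hx ?_
      rw [← b.sum_repr x]
      induction (Finset.univ : Finset (Fin t)) using Finset.induction with
      | empty => rw [Finset.sum_empty, hU.herm, ← zero_smul F (0 : Fin n → F), hf.smul_left, zero_mul, map_zero]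
      | insert k s hk ih => rw [Finset.sum_insert hk, hf.add_right, hf.smul_right, hall k, ih, mul_zero, add_zero]
    have hij : i ≠ j := fun e => hj (e ▸ hii)
    obtain ⟨y, hy0, hy⟩ : ∃ y : F, y ≠ 0 ∧ y + y ^ q = -Cfsg.hermForm n F q (b j) (b j) := by
      by_cases hjj : Cfsg.hermForm n F q (b j) (b j) = 0
      · exact ⟨l, hl0, by rw [hjj, neg_zero, hl]⟩
      · obtain ⟨y, hy⟩ := exists_trace_eq (frob_ne_id hF) (frob_frob hF)
          (a := -Cfsg.hermForm n F q (b j) (b j)) (by rw [frob_apply, ← sigmaE_apply hF, map_neg, ← hU.herm])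
        rw [frob_apply] at hy
        refine ⟨y, fun h => hjj ?_, hy⟩
        rw [h, zero_pow (by have := two_le_q hF; omega), add_zero, eq_comm, neg_eq_zero] at hy
        exact hy
    set c := y / Cfsg.hermForm n F q (b i) (b j) with hc
    have hciso : Cfsg.hermForm n F q (b j + c • b i) (b j + c • b i) = 0 := by
      rw [herm_add_self hF, hii, mul_zero, add_zero, hc, div_mul_cancel₀ _ hj, sigmaE_apply]
      linear_combination hy
    have hri : b.repr (b j + c • b i) i = c := by simp [Finsupp.single_apply, hij, Ne.symm hij]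
    have hrj : b.repr (b j + c • b i) j = 1 := by simp [Finsupp.single_apply, hij, Ne.symm hij]
    have hc0 : c ≠ 0 := div_ne_zero hy0 hj
    exact hj (hpair _ (fun h => by rw [h, map_zero, Finsupp.zero_apply] at hrj; exact zero_ne_one hrj) hciso i
      (hS.2 (by rw [hri]; exact hc0)) j (hS.2 (by rw [hrj]; exact one_ne_zero)))
  · have hblock : ∀ v, v ≠ 0 → Cfsg.hermForm n F q v v = 0 → ∃ i, v ∈ D i := fun v hv0 hv =>
      (key v hv0 hv).resolve_right fun h => hm h.1
    obtain ⟨i, hi⟩ := hblock z hz0 hz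
    obtain ⟨w, hw0, hw, hwi⟩ : ∃ w, w ≠ 0 ∧ Cfsg.hermForm n F q w w = 0 ∧ w ∉ D i := by
      by_contra hall
      push Not at hall
      set W := Submodule.span F {v : Fin n → F | Cfsg.hermForm n F q v v = 0} with hW
      have hWD : W ≤ D i := Submodule.span_le.2 fun v hv => by
        rcases eq_or_ne v 0 with rfl | h
        · exact zero_mem _
        · exact hall v h hv
      refine not_sunit_le_subspaceStabilizer hF (by omega) (W := W) (fun h => ?_) (fun h => ?_)
        (fun g hg => mem_subspaceStabilizer_of_inv fun v hv => ?_)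
      · exact hz0 ((Submodule.mem_bot F).1 (h ▸ Submodule.subset_span hz : z ∈ (⊥ : Submodule F (Fin n → F))))
      · obtain ⟨j, hj⟩ : ∃ j : Fin t, j ≠ i := by
          haveI : Nontrivial (Fin t) := Fin.nontrivial_iff_two_le.2 hD.two_le
          exact exists_ne i
        obtain ⟨x, hx, hx0⟩ := Submodule.exists_mem_ne_zero_of_ne_bot (hne j)
        exact hx0 (hdis j i hj x hx (hWD (h ▸ Submodule.mem_top)))
      · rw [hW] at hv ⊢
        induction hv using Submodule.span_induction with
        | mem x hx => exact Submodule.subset_span ((mem_sunit hg x x).trans hx)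
        | zero => rw [Matrix.mulVec_zero]; exact zero_mem _
        | add x y _ _ hx hy => rw [Matrix.mulVec_add]; exact add_mem hx hy
        | smul a x _ hx => rw [Matrix.mulVec_smul]; exact Submodule.smul_mem _ a hx
    obtain ⟨j, hj⟩ := hblock w hw0 hw
    have hij : i ≠ j := fun e => hwi (e ▸ hj)
    obtain ⟨c, hc0, hc⟩ : ∃ c : F, c ≠ 0 ∧ sigmaE hF (c * Cfsg.hermForm n F q w z) + c * Cfsg.hermForm n F q w z = 0 := by
      by_cases h : Cfsg.hermForm n F q w z = 0
      · exact ⟨1, one_ne_zero, by simp [h]⟩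
      · exact ⟨l / Cfsg.hermForm n F q w z, div_ne_zero hl0 h, by
          rw [div_mul_cancel₀ _ h, sigmaE_apply, add_comm, hl]⟩
    have hsum0 : z + c • w ≠ 0 := fun h => by
      refine hz0 (hdis i j hij z hi ?_)
      rw [eq_neg_of_add_eq_zero_left h]
      exact neg_mem ((D j).smul_mem c hj)
    obtain ⟨k, hk⟩ := hblock _ hsum0 (by rw [herm_add_self hF, hz, hw, zero_add, mul_zero, add_zero, hc])
    by_cases hki : k = i
    · subst hki
      exact hwi ((Submodule.smul_mem_iff _ hc0).1 (((D k).add_mem_iff_right hi).1 hk))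
    · have hmem : z + c • w ∈ (⨆ (l) (_ : l ≠ k), D l) := add_mem
        (Submodule.mem_iSup_of_mem i (Submodule.mem_iSup_of_mem (Ne.symm hki) hi))
        (by
          by_cases hkj : k = j
          · subst hkj
            exfalso
            have h1 : z ∈ D k := ((D k).add_mem_iff_left ((D k).smul_mem c hj)).1 hk
            exact hz0 (hdis i k hij z hi h1)
          · exact Submodule.smul_mem _ c
              (Submodule.mem_iSup_of_mem j (Submodule.mem_iSup_of_mem (Ne.symm hkj) hj)))
      exact hsum0 (Submodule.disjoint_def.1 (hD.indep k) _ hk hmem)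

/-- No extension field of the matrix algebra is normalised by the special unitary group. -/
theorem not_sunit_le_field (hF : Fintype.card F = q ^ 2) (hn : 3 ≤ n) {r : ℕ} (hr : 2 ≤ r)
    {K : Subalgebra F (Matrix (Fin n) (Fin n) F)} (hK : IsFieldSubalgebra r K) :
    ¬ sunit n F q ≤ subalgebraNormalizer K := by
  classical
  intro hle
  obtain ⟨l, hl0, hl⟩ := exists_trace hF
  obtain ⟨z, hz0, hz⟩ := exists_singular hF (show 2 ≤ n by omega)
  obtain ⟨g, hg, -, hgv⟩ := exists_utv hF hz hl
  haveI : Nonempty (Fin n) := ⟨⟨0, by omega⟩⟩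
  obtain ⟨k, hk, hksc⟩ : ∃ k ∈ K, ∀ c : F, k ≠ c • 1 := by
    by_contra hall
    push Not at hall
    have h1 : K ≤ ⊥ := fun k hk => by
      obtain ⟨c, hc⟩ := hall k hk
      exact Algebra.mem_bot.2 ⟨c, by rw [hc, Algebra.algebraMap_eq_smul_one]⟩
    have h2 := hK.finrank_eq
    rw [le_bot_iff.1 h1, Subalgebra.finrank_bot] at h2
    omega
  have hinj : ∀ x ∈ K, x ≠ 0 → ∀ v : Fin n → F, x *ᵥ v = 0 → v = 0 := by
    intro x hx hx0 v hv
    obtain ⟨y, hy, hxy⟩ := hK.inv x hx hx0
    rw [hK.comm x hx y hy] at hxy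
    rw [← Matrix.one_mulVec v, ← hxy, ← Matrix.mulVec_mulVec, hv, Matrix.mulVec_zero]
  set k' := g.val * k * (g⁻¹).val with hk'
  have hk'K : k' ∈ K := (hle hg k).1 hk
  have hgk : g.val * k = k' * g.val := by rw [hk', Matrix.mul_assoc _ (g⁻¹).val, Units.inv_mul, Matrix.mul_one]
  have hact : ∀ v, (k - k') *ᵥ v =
      (l * Cfsg.hermForm n F q v z) • (k' *ᵥ z) - (l * Cfsg.hermForm n F q (k *ᵥ v) z) • z := by
    intro v
    have h1 := congrArg (· *ᵥ v) hgk
    simp only [← Matrix.mulVec_mulVec, hgv, Matrix.mulVec_add, Matrix.mulVec_smul] at h1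
    rw [Matrix.sub_mulVec]
    linear_combination (norm := module) h1
  by_cases hkk : k - k' = 0
  · obtain ⟨x, hx⟩ := ((herm_unitary hF).nondegenerate z hz0).1
    have hkz : ∃ c : F, k' *ᵥ z = c • z := by
      have h1 := hact x
      rw [hkk, Matrix.zero_mulVec, eq_comm, sub_eq_zero] at h1
      refine ⟨(l * Cfsg.hermForm n F q x z)⁻¹ * (l * Cfsg.hermForm n F q (k *ᵥ x) z), ?_⟩
      rw [← smul_smul, ← h1, smul_smul, inv_mul_cancel₀ (mul_ne_zero hl0 hx), one_smul]
    obtain ⟨c, hc⟩ := hkz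
    rw [← sub_eq_zero.1 hkk] at hc
    refine hz0 (hinj (k - c • 1) (sub_mem hk (K.smul_mem (one_mem K) c)) (sub_ne_zero.2 (hksc c)) z ?_)
    rw [Matrix.sub_mulVec, Matrix.smul_mulVec, Matrix.one_mulVec, hc, sub_self]
  · have hinj' : Function.Injective (Matrix.toLin' (k - k')) := by
      rw [injective_iff_map_eq_zero]
      intro v hv
      rw [Matrix.toLin'_apply] at hv
      exact hinj _ (sub_mem hk hk'K) hkk v hv
    have hrange : LinearMap.range (Matrix.toLin' (k - k')) ≤
        Submodule.span F (({k' *ᵥ z, z} : Finset (Fin n → F)) : Set (Fin n → F)) := by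
      rintro _ ⟨v, rfl⟩
      rw [Matrix.toLin'_apply, hact]
      exact sub_mem (Submodule.smul_mem _ _ (Submodule.subset_span (by simp)))
        (Submodule.smul_mem _ _ (Submodule.subset_span (by simp)))
    have h1 := (Submodule.finrank_mono hrange).trans ((finrank_span_finset_le_card _).trans Finset.card_le_two)
    rw [LinearMap.finrank_range_of_inj hinj', Module.finrank_fin_fun] at h1
    omega

/-- A Kronecker product differing from the identity by a matrix of square zero and rank one is the identity. -/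
theorem kron_rank_one {d k : ℕ} (hd : 2 ≤ d) (hk : 2 ≤ k) (a : GL (Fin d) F) (b : GL (Fin k) F)
    (u v : Fin d × Fin k → F) (h : a.val ⊗ₖ b.val = 1 + Matrix.vecMulVec u v) (h0 : v ⬝ᵥ u = 0) :
    Matrix.vecMulVec u v = 0 := by
  classical
  have hent : ∀ i j x y, a.val i j * b.val x y = (1 : Matrix _ _ F) (i, x) (j, y) + u (i, x) * v (j, y) :=
    fun i j x y => congrFun (congrFun h (i, x)) (j, y)
  have hdet : ∀ {e : ℕ}, 2 ≤ e → ∀ (M : GL (Fin e) F) (s : F) (f g : Fin e → F),
      (∀ x y, s * M.val x y = f x * g y) → s = 0 := by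
    intro e he M s f g hM
    by_contra hs
    have hM' : M.val = Matrix.vecMulVec (fun x => s⁻¹ * f x) g := Matrix.ext fun x y => by
      rw [Matrix.vecMulVec_apply, mul_assoc, ← hM, ← mul_assoc, inv_mul_cancel₀ hs, one_mul]
    obtain ⟨w, hw0, hw⟩ : ∃ w : Fin e → F, w ≠ 0 ∧ g ⬝ᵥ w = 0 := by
      let x0 : Fin e := ⟨0, by omega⟩
      let x1 : Fin e := ⟨1, by omega⟩
      have h01 : x0 ≠ x1 := by simp [x0, x1, Fin.ext_iff]
      by_cases hg0 : g x0 = 0
      · exact ⟨Pi.single x0 1, by simp, by simp [hg0]⟩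
      · refine ⟨Pi.single x1 (g x0) - Pi.single x0 (g x1), fun e => hg0 ?_, ?_⟩
        · simpa [h01, h01.symm] using congrFun e x1
        · rw [dotProduct_sub, dotProduct_single, dotProduct_single]; ring
    refine move_ne_zero M hw0 ?_
    rw [hM']
    funext x
    simp only [Matrix.mulVec, Matrix.vecMulVec_apply, dotProduct, Pi.zero_apply]
    simp only [dotProduct] at hw
    simp only [mul_assoc, ← Finset.mul_sum, hw, mul_zero]
  have ha : ∀ i j, i ≠ j → a.val i j = 0 := fun i j hij => hdet hk b _ (fun x => u (i, x)) (fun y => v (j, y))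
    fun x y => by rw [hent, Matrix.one_apply_ne (fun e => hij (congrArg Prod.fst e)), zero_add]
  have hb : ∀ x y, x ≠ y → b.val x y = 0 := fun x y hxy => hdet hd a _ (fun i => u (i, x)) (fun j => v (j, y))
    fun i j => by rw [mul_comm, hent, Matrix.one_apply_ne (fun e => hxy (congrArg Prod.snd e)), zero_add]
  have hoff : ∀ p r, p ≠ r → u p * v r = 0 := by
    rintro ⟨i, x⟩ ⟨j, y⟩ hne
    have h1 := hent i j x y
    rw [Matrix.one_apply_ne hne, zero_add] at h1
    rw [← h1]
    by_cases hij : i = j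
    · rw [hb x y (fun e => hne (by rw [hij, e])), mul_zero]
    · rw [ha i j hij, zero_mul]
  refine Matrix.ext fun p r => ?_
  rw [Matrix.vecMulVec_apply, Matrix.zero_apply]
  by_cases hpr : p = r
  swap
  · exact hoff p r hpr
  subst hpr
  by_contra hne
  apply hne
  have h1 : ∀ s, s ≠ p → v s * u s = 0 := fun s hs => by
    have h2 := hoff p s (Ne.symm hs)
    rw [(mul_eq_zero.1 h2).resolve_left (left_ne_zero_of_mul hne), zero_mul]
  rw [mul_comm, ← h0, dotProduct, Finset.sum_eq_single p (fun s _ hs => h1 s hs) (fun hh => absurd (Finset.mem_univ _) hh)]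

/-- No transvection lies in a tensor product subgroup. -/
theorem utv_not_tensor (hF : Fintype.card F = q ^ 2) {d k : ℕ} (hd : 2 ≤ d) (hk : 2 ≤ k)
    (e : Fin n ≃ Fin d × Fin k) (P : GL (Fin n) F) {z : Fin n → F} (hz0 : z ≠ 0)
    (hz : Cfsg.hermForm n F q z z = 0) {l : F} (hl0 : l ≠ 0) {g : GL (Fin n) F}
    (hgv : ∀ v, g.val *ᵥ v = v + (l * Cfsg.hermForm n F q v z) • z) :
    g ∉ tensorProductSubgroup d k e P := by
  rintro ⟨_, ⟨X, ⟨a, b, hX⟩, rfl⟩, hXg⟩
  set P' : Matrix (Fin n) (Fin n) F := (P⁻¹).val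
  set zc : Fin n → F := fun i => z i ^ q with hzc
  have hdot : ∀ v, zc ⬝ᵥ v = Cfsg.hermForm n F q v z := fun v => Finset.sum_congr rfl fun i _ => mul_comm _ _
  have hgm : g.val = 1 + l • Matrix.vecMulVec z zc := by
    refine Matrix.toLin'.injective (LinearMap.ext fun v => ?_)
    rw [Matrix.toLin'_apply, Matrix.toLin'_apply, hgv, Matrix.add_mulVec, Matrix.one_mulVec, Matrix.smul_mulVec,
      Matrix.vecMulVec_mulVec, op_smul_eq_smul, hdot, smul_smul]
  have hXv : X.val.submatrix e e = P' * g.val * P.val := by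
    rw [← hXg]
    show _ = P' * (P.val * X.val.submatrix e e * P') * P.val
    simp only [P', mul_assoc, Units.inv_mul_cancel_left, Units.inv_mul, mul_one]
  have hXv' : X.val.submatrix e e =
      1 + Matrix.vecMulVec (l • (P' *ᵥ z)) (zc ᵥ* P.val) := by
    rw [hXv, hgm, Matrix.mul_add, Matrix.add_mul, Matrix.mul_one, Units.inv_mul, Matrix.mul_smul, Matrix.smul_mul,
      Matrix.mul_vecMulVec, Matrix.vecMulVec_mul, Matrix.smul_vecMulVec]
  have h0 : ((zc ᵥ* P.val) ∘ e.symm) ⬝ᵥ ((l • (P' *ᵥ z)) ∘ e.symm) = 0 := by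
    rw [comp_equiv_dotProduct_comp_equiv, dotProduct_smul, ← Matrix.dotProduct_mulVec, mulVec_inv_mulVec,
      hdot, hz, smul_zero]
  have h1 : a.val ⊗ₖ b.val =
      1 + Matrix.vecMulVec ((l • (P' *ᵥ z)) ∘ e.symm) ((zc ᵥ* P.val) ∘ e.symm) := by
    rw [← hX]
    refine Matrix.ext fun p r => ?_
    have h2 := congrFun (congrFun hXv' (e.symm p)) (e.symm r)
    simpa [Matrix.one_apply, Matrix.vecMulVec_apply, mul_assoc] using h2
  have h3 := kron_rank_one hd hk a b _ _ h1 h0
  rw [h3, add_zero, ← hX] at h1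
  have h4 : g.val = 1 := by
    rw [← hXg]
    show P.val * X.val.submatrix e e * P' = 1
    rw [h1, Matrix.submatrix_one_equiv, mul_one, Units.mul_inv]
  obtain ⟨x, hx⟩ := ((herm_unitary hF).nondegenerate z hz0).1
  have h5 := hgv x
  rw [h4, Matrix.one_mulVec, left_eq_add, smul_eq_zero] at h5
  exact h5.elim (mul_ne_zero hl0 hx) hz0

/-- No tensor decomposition is fixed by the special unitary group. -/
theorem not_sunit_le_tensor (hF : Fintype.card F = q ^ 2) {d k : ℕ} (hd : 2 ≤ d) (hk : 2 ≤ k)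
    (e : Fin n ≃ Fin d × Fin k) (P : GL (Fin n) F) : ¬ sunit n F q ≤ tensorProductSubgroup d k e P := by
  intro hle
  have hn : n = d * k := by simpa using Fintype.card_congr e
  obtain ⟨l, hl0, hl⟩ := exists_trace hF
  obtain ⟨z, hz0, hz⟩ := exists_singular hF (n := n) (by rw [hn]; nlinarith)
  obtain ⟨g, hg, -, hgv⟩ := exists_utv hF hz hl
  exact utv_not_tensor hF hd hk e P hz0 hz hl0 hgv (hle hg)

/-- No tensor square decomposition is fixed by the special unitary group. -/
theorem not_sunit_le_square (hF : Fintype.card F = q ^ 2) (hq : 3 ≤ q) {k : ℕ} (hk : 2 ≤ k)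
    (e : Fin n ≃ (Fin 2 → Fin k)) (P : GL (Fin n) F) : ¬ sunit n F q ≤ tensorWreathSubgroup k 2 e P := by
  classical
  intro hle
  have hn : n = k ^ 2 := by simpa using Fintype.card_congr e
  obtain ⟨l₁, hl₁0, hl₁⟩ := exists_trace hF
  obtain ⟨z, hz0, hz⟩ := exists_singular hF (n := n) (by rw [hn]; nlinarith)
  -- a second parameter
  obtain ⟨l₂, hl₂0, hl₂, hl₂1⟩ : ∃ l : F, l ≠ 0 ∧ l + l ^ q = 0 ∧ l₁ + l ≠ 0 := by
    let f : {a : F // a ^ q = a} → F := fun a => a.1 * l₁
    have hf : Function.Injective f := fun a b h => Subtype.ext (mul_right_cancel₀ hl₁0 h)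
    have hcard := card_fixed hF
    obtain ⟨a, ha0, ha1⟩ : ∃ a : {a : F // a ^ q = a}, a.1 ≠ 0 ∧ (1 : F) + a.1 ≠ 0 := by
      by_contra hall
      push Not at hall
      let g : {a : F // a ^ q = a} → Bool := fun a => decide (a.1 = 0)
      have hg : Function.Injective g := fun a b h => by
        simp only [g, decide_eq_decide] at h
        by_cases ha : a.1 = 0
        · exact Subtype.ext (by rw [ha, h.1 ha])
        · exact Subtype.ext (by linear_combination hall a ha - hall b (fun hb => ha (h.2 hb)))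
      have := Nat.card_le_card_of_injective g hg
      rw [hcard] at this
      simp at this
      omega
    refine ⟨a.1 * l₁, mul_ne_zero ha0 hl₁0, by rw [mul_pow, a.2, ← mul_add, hl₁, mul_zero], ?_⟩
    rw [show l₁ + a.1 * l₁ = (1 + a.1) * l₁ by ring]
    exact mul_ne_zero ha1 hl₁0
  obtain ⟨g₁, hg₁, -, hg₁v⟩ := exists_utv hF hz hl₁
  obtain ⟨g₂, hg₂, -, hg₂v⟩ := exists_utv hF hz hl₂
  have hg12v : ∀ v, (g₁ * g₂).val *ᵥ v = v + ((l₁ + l₂) * Cfsg.hermForm n F q v z) • z := by
    intro v
    have hf := isSesq_of_unitary (herm_unitary (n := n) hF)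
    rw [Units.val_mul, ← Matrix.mulVec_mulVec, hg₂v, hg₁v, hf.add_left, hf.smul_left, hz, mul_zero, add_zero,
      add_assoc, ← add_smul]
    ring_nf
  let e' : Fin n ≃ Fin k × Fin k := e.trans (finTwoArrowEquiv (Fin k))
  have hpure : ∀ a : Fin 2 → GL (Fin k) F, frameHom e P (pureHom a) ∈ tensorProductSubgroup k k e' P := by
    intro a
    let u : GL (Fin k × Fin k) F :=
      ⟨(a 0).val ⊗ₖ (a 1).val, ((a 0)⁻¹).val ⊗ₖ ((a 1)⁻¹).val,
        by rw [← Matrix.mul_kronecker_mul, Units.mul_inv, Units.mul_inv, Matrix.one_kronecker_one],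
        by rw [← Matrix.mul_kronecker_mul, Units.inv_mul, Units.inv_mul, Matrix.one_kronecker_one]⟩
    refine ⟨_, ⟨u, ⟨a 0, a 1, rfl⟩, rfl⟩, Units.ext ?_⟩
    show P.val * _ * (P⁻¹).val = P.val * _ * (P⁻¹).val
    congr 2
    refine Matrix.ext fun i j => ?_
    show ((a 0).val ⊗ₖ (a 1).val) (e' i) (e' j) = pure (fun i => (a i).val) (e i) (e j)
    simp [e', pure, Fin.prod_univ_two]
  have hsplit : ∀ g ∈ sunit n F q, ∃ (a : Fin 2 → GL (Fin k) F) (σ : Equiv.Perm (Fin 2)),
      g = frameHom e P (pureHom a * permHom σ) ∧ (σ = 1 → g ∈ tensorProductSubgroup k k e' P) := by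
    intro g hg
    obtain ⟨y, hy, rfl⟩ := (tensorWreath_eq e P).le (hle hg)
    obtain ⟨a, σ, rfl⟩ := wreath_split hy
    exact ⟨a, σ, rfl, fun h => by rw [h, map_one, mul_one]; exact hpure a⟩
  obtain ⟨a, σ, ha, ha'⟩ := hsplit g₁ hg₁
  obtain ⟨b, τ, hb, hb'⟩ := hsplit g₂ hg₂
  by_cases hσ : σ = 1
  · exact utv_not_tensor hF hk hk e' P hz0 hz hl₁0 hg₁v (ha' hσ)
  by_cases hτ : τ = 1
  · exact utv_not_tensor hF hk hk e' P hz0 hz hl₂0 hg₂v (hb' hτ)
  have hst : σ * τ = 1 := (by decide : ∀ σ τ : Equiv.Perm (Fin 2), σ ≠ 1 → τ ≠ 1 → σ * τ = 1) σ τ hσ hτ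
  refine utv_not_tensor hF hk hk e' P hz0 hz hl₂1 hg12v ?_
  rw [ha, hb, ← map_mul, mul_assoc, ← mul_assoc (permHom σ), permHom_pure, mul_assoc, ← map_mul permHom, hst,
    map_one, mul_one, ← map_mul]
  exact hpure _

/-- No proper subfield group contains the special unitary group. -/
theorem not_sunit_le_subfield (hF : Fintype.card F = q ^ 2) (hn : 4 ≤ n) {F₁ : Subfield F} (htop : F₁ ≠ ⊤)
    (P : GL (Fin n) F) : ¬ sunit n F q ≤ subfieldSubgroup F₁ P := by
  classical
  intro hle
  have hU := herm_unitary (n := n) hF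
  have hq := two_le_q hF
  obtain ⟨l, hl0, hl⟩ := exists_trace hF
  obtain ⟨p, hp⟩ := CharP.exists F
  haveI := hp
  haveI : Fact p.Prime := ⟨CharP.char_is_prime F p⟩
  haveI : CharP (Matrix (Fin n) (Fin n) F) p := by
    haveI : Nonempty (Fin n) := ⟨⟨0, by omega⟩⟩
    exact charP_of_injective_algebraMap (algebraMap F (Matrix (Fin n) (Fin n) F)).injective p
  -- transvections are rational in the new basis
  have hrat : ∀ z, Cfsg.hermForm n F q z z = 0 → ∃ g : GL (Fin n) F,
      g.val = 1 + l • Matrix.vecMulVec z (fun i => z i ^ q) ∧ ∀ i j, ((P⁻¹ * g * P).val) i j ∈ F₁ := by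
    intro z hz
    obtain ⟨g, hg, hgm, -⟩ := exists_utv hF hz hl
    obtain ⟨c, hc0, hc⟩ := (mem_subfieldSubgroup_iff F₁ P g).1 (hle hg)
    refine ⟨g, hgm, ?_⟩
    set M := l • Matrix.vecMulVec z (fun i => z i ^ q) with hM
    have hMM : M ^ 2 = 0 := by
      rw [sq, hM, Matrix.smul_mul, Matrix.mul_smul, Matrix.vecMulVec_mul_vecMulVec,
        show (fun i => z i ^ q) ⬝ᵥ z = Cfsg.hermForm n F q z z from Finset.sum_congr rfl fun i _ => mul_comm _ _, hz]
      simp
    have hgp : g ^ p = 1 := Units.ext (by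
      obtain ⟨j, hj⟩ : ∃ j, p = 2 + j := ⟨p - 2, by have := (Fact.out : p.Prime).two_le; omega⟩
      rw [Units.val_pow_eq_pow_val, hgm, add_pow_char_of_commute (p := p) (Commute.one_left M), one_pow,
        hj, pow_add, hMM, zero_mul, add_zero, Units.val_one])
    set X := P⁻¹ * g * P with hX
    have hXp : X ^ p = 1 := by
      have := conj_pow (i := p) (a := P⁻¹) (b := g)
      rw [inv_inv] at this
      rw [hX, this, hgp, mul_one, inv_mul_cancel]
    let N : Matrix (Fin n) (Fin n) F₁ := Matrix.of fun i j => ⟨_, hc i j⟩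
    have hN : N.map F₁.subtype = c • X.val := rfl
    have hN2 : (N ^ p).map F₁.subtype = (c ^ p) • (1 : Matrix (Fin n) (Fin n) F) := by
      rw [← RingHom.mapMatrix_apply, map_pow, RingHom.mapMatrix_apply, hN, smul_pow,
        ← Units.val_pow_eq_pow_val, hXp, Units.val_one]
    have hcp : c ^ p ∈ F₁ := by
      have h1 := congrFun (congrFun hN2 ⟨0, by omega⟩) ⟨0, by omega⟩
      simp only [Matrix.map_apply, Matrix.smul_apply, Matrix.one_apply_eq, smul_eq_mul, mul_one] at h1
      rw [← h1]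
      exact SetLike.coe_mem _
    have hc1 : c ∈ F₁ := by
      haveI : CharP F₁ p := RingHom.charP F₁.subtype F₁.subtype.injective p
      obtain ⟨y, hy⟩ := (frobenius F₁ p).injective |> Finite.injective_iff_surjective.1 |> fun h => h ⟨c ^ p, hcp⟩
      have : (y : F) = c := frobenius_inj F p (congrArg Subtype.val hy)
      exact this ▸ y.2
    intro i j
    have h1 := F₁.mul_mem (F₁.inv_mem hc1) (hc i j)
    rwa [← mul_assoc, inv_mul_cancel₀ hc0, one_mul] at h1
  have htr : ∀ x : GL (Fin n) F, (∀ i j, (P⁻¹ * x * P).val i j ∈ F₁) → x.val.trace ∈ F₁ := by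
    intro x hx
    have h1 : x.val.trace = (P⁻¹ * x * P).val.trace := by
      rw [Units.val_mul, Units.val_mul, Matrix.trace_mul_cycle, ← Units.val_mul, mul_inv_cancel, Units.val_one,
        Matrix.one_mul]
    rw [h1]
    exact sum_mem fun i _ => hx i i
  have hmul : ∀ x y : GL (Fin n) F, (∀ i j, (P⁻¹ * x * P).val i j ∈ F₁) → (∀ i j, (P⁻¹ * y * P).val i j ∈ F₁) →
      ∀ i j, (P⁻¹ * (x * y) * P).val i j ∈ F₁ := by
    intro x y hx hy i j
    rw [show P⁻¹ * (x * y) * P = (P⁻¹ * x * P) * (P⁻¹ * y * P) by group, Units.val_mul, Matrix.mul_apply]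
    exact sum_mem fun k _ => F₁.mul_mem (hx i k) (hy k j)
  -- triple products
  have htriple : ∀ z₁ z₂ z₃, Cfsg.hermForm n F q z₁ z₁ = 0 → Cfsg.hermForm n F q z₂ z₂ = 0 →
      Cfsg.hermForm n F q z₃ z₃ = 0 →
      l ^ 3 * (Cfsg.hermForm n F q z₁ z₃ * Cfsg.hermForm n F q z₂ z₁ * Cfsg.hermForm n F q z₃ z₂) ∈ F₁ := by
    intro z₁ z₂ z₃ h₁ h₂ h₃
    obtain ⟨g₁, hm₁, hr₁⟩ := hrat z₁ h₁
    obtain ⟨g₂, hm₂, hr₂⟩ := hrat z₂ h₂
    obtain ⟨g₃, hm₃, hr₃⟩ := hrat z₃ h₃
    set N₁ := Matrix.vecMulVec z₁ (fun i => z₁ i ^ q) with hN₁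
    set N₂ := Matrix.vecMulVec z₂ (fun i => z₂ i ^ q) with hN₂
    set N₃ := Matrix.vecMulVec z₃ (fun i => z₃ i ^ q) with hN₃
    have hdot : ∀ u v : Fin n → F, (fun i => u i ^ q) ⬝ᵥ v = Cfsg.hermForm n F q v u :=
      fun u v => Finset.sum_congr rfl fun i _ => mul_comm _ _
    have htr0 : ∀ z, Cfsg.hermForm n F q z z = 0 → (Matrix.vecMulVec z (fun i => z i ^ q)).trace = 0 :=
      fun z hz => by rw [Matrix.trace_vecMulVec, dotProduct_comm, hdot, hz]
    have h123 := htr _ (hmul _ _ (hmul _ _ hr₁ hr₂) hr₃)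
    have h12 := htr _ (hmul _ _ hr₁ hr₂)
    have h13 := htr _ (hmul _ _ hr₁ hr₃)
    have h23 := htr _ (hmul _ _ hr₂ hr₃)
    have key : l ^ 3 * (Cfsg.hermForm n F q z₁ z₃ * Cfsg.hermForm n F q z₂ z₁ * Cfsg.hermForm n F q z₃ z₂) =
        (g₁ * g₂ * g₃).val.trace - (g₁ * g₂).val.trace - (g₁ * g₃).val.trace - (g₂ * g₃).val.trace +
          ((2 * n : ℕ) : F) := by
      have ht3 : (N₁ * N₂ * N₃).trace =
          Cfsg.hermForm n F q z₁ z₃ * Cfsg.hermForm n F q z₂ z₁ * Cfsg.hermForm n F q z₃ z₂ := by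
        rw [hN₁, hN₂, hN₃, Matrix.vecMulVec_mul_vecMulVec, Matrix.vecMulVec_mul_vecMulVec]
        simp only [smul_dotProduct, dotProduct_smul, Matrix.trace_vecMulVec, smul_eq_mul,
          dotProduct_comm z₁, hdot]
        ring
      simp only [Units.val_mul, hm₁, hm₂, hm₃, ← hN₁, ← hN₂, ← hN₃, Matrix.add_mul, Matrix.mul_add, Matrix.one_mul,
        Matrix.mul_one, Matrix.smul_mul, Matrix.mul_smul, Matrix.trace_add, Matrix.trace_smul, Matrix.trace_one,
        smul_eq_mul, htr0 _ h₁, htr0 _ h₂, htr0 _ h₃, hN₁ ▸ htr0 _ h₁, hN₂ ▸ htr0 _ h₂, hN₃ ▸ htr0 _ h₃, ht3,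
        Fintype.card_fin]
      push_cast
      ring
    rw [key]
    exact F₁.add_mem (F₁.sub_mem (F₁.sub_mem (F₁.sub_mem h123 h12) h13) h23) (natCast_mem F₁ _)
  -- two isotropic lines in each of two coordinate planes
  obtain ⟨a, ha, b, hb, hab⟩ : ∃ a : F, a ^ (q + 1) = -1 ∧ ∃ b : F, b ^ (q + 1) = -1 ∧ 1 + a * b ^ q ≠ 0 := by
    obtain ⟨a, ha⟩ := exists_norm_eq hF (μ := -1) (neg_ne_zero.2 one_ne_zero)
      (by rw [← sigmaE_apply hF, map_neg, map_one])
    have hc := card_norm_eq hF (μ := -1) (neg_ne_zero.2 one_ne_zero) (by rw [← sigmaE_apply hF, map_neg, map_one])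
    haveI : Nontrivial {x : F // x ^ (q + 1) = -1} := Finite.one_lt_card_iff_nontrivial.1 (by rw [hc]; omega)
    obtain ⟨⟨b, hb⟩, hne⟩ := exists_ne (⟨(a : F), ha⟩ : {x : F // x ^ (q + 1) = -1})
    refine ⟨a, ha, b, hb, fun h => hne (Subtype.ext ?_)⟩
    show b = a
    rw [pow_succ] at hb
    linear_combination b * h - (a : F) * hb
  let i0 : Fin n := ⟨0, by omega⟩
  let i1 : Fin n := ⟨1, by omega⟩
  let i2 : Fin n := ⟨2, by omega⟩
  let i3 : Fin n := ⟨3, by omega⟩
  let vec : F → F → F → F → (Fin n → F) := fun x y x' y' =>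
    Pi.single i0 x + Pi.single i1 y + Pi.single i2 x' + Pi.single i3 y'
  have hform : ∀ x y x' y' u w u' w', Cfsg.hermForm n F q (vec x y x' y') (vec u w u' w') =
      x * u ^ q + y * w ^ q + x' * u' ^ q + y' * w' ^ q := by
    intro x y x' y' u w u' w'
    have hsingle : ∀ (i : Fin n) (c : F) (v : Fin n → F),
        Cfsg.hermForm n F q (Pi.single i c) v = c * v i ^ q := fun i c v => by
      rw [Cfsg.hermForm, Finset.sum_eq_single i (fun j _ hj => by simp [hj]) (by simp), Pi.single_eq_same]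
    simp only [vec, (isSesq_of_unitary hU).add_left, hsingle]
    simp [i0, i1, i2, i3, Fin.ext_iff, Pi.single_apply]
  have hiso : ∀ x : F, x ^ (q + 1) = -1 → 1 * (1 : F) ^ q + x * x ^ q = 0 := fun x hx => by
    rw [one_pow, mul_one, ← pow_succ', hx, add_neg_cancel]
  have h0q : (0 : F) ^ q = 0 := zero_pow (by omega)
  set c := 1 + a * b ^ q with hc
  have hzero : ∀ ν : F, l ^ 3 * (sigmaE hF ν * c * sigmaE hF c * sigmaE hF c) ∈ F₁ := by
    intro ν
    set z₁ := vec 1 a 0 0
    set z₂ := vec 1 b 1 a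
    set z₃ := vec ν (ν * b) 1 b
    have e1 : Cfsg.hermForm n F q z₁ z₁ = 0 := by rw [hform]; simp [h0q, ← pow_succ', ha]
    have e2 : Cfsg.hermForm n F q z₂ z₂ = 0 := by rw [hform]; simp [← pow_succ', ha, hb]
    have e3 : Cfsg.hermForm n F q z₃ z₃ = 0 := by
      rw [hform, mul_pow]; linear_combination (ν * ν ^ q) * hiso b hb + hiso b hb
    have e13 : Cfsg.hermForm n F q z₁ z₃ = sigmaE hF ν * c := by
      rw [hform, sigmaE_apply, mul_pow, hc]; ring
    have hσc : 1 + b * a ^ q = sigmaE hF c := by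
      rw [hc, map_add, map_one, map_mul, sigmaE_apply, ← sigmaE_apply hF b, sigmaE_sigmaE]; ring
    have e21 : Cfsg.hermForm n F q z₂ z₁ = sigmaE hF c := by
      rw [hform, ← hσc]; simp [h0q]
    have e32 : Cfsg.hermForm n F q z₃ z₂ = sigmaE hF c := by
      rw [hform, ← hσc, one_pow]; linear_combination ν * hiso b hb
    have h := htriple z₁ z₂ z₃ e1 e2 e3
    rw [e13, e21, e32] at h
    exact h
  refine htop ((eq_top_iff).2 fun x _ => ?_)
  have hc0 : c ≠ 0 := hab
  have hσc0 : sigmaE hF c ≠ 0 := (map_ne_zero (sigmaE hF)).2 hc0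
  have h := hzero (sigmaE hF (x / (l ^ 3 * (c * sigmaE hF c * sigmaE hF c))))
  rw [sigmaE_sigmaE] at h
  convert h using 1
  field_simp

end Cfsg.Lib.Linear.AschU
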