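import Cfsg.Agent.Lib.Linear.AschU.NotSU

/-!
# The special unitary group normalises no group of symplectic type in dimension at least five
-/

set_option autoImplicit false
set_option linter.unusedSectionVars false
set_option linter.style.haveILetI false

namespace Cfsg.Lib.Linear.AschU

open Cfsg.Geo Cfsg.Lib.Linear Cfsg.Lib.Linear.Herm Cfsg.Lib.Linear.Asch
open scoped Matrix MatrixGroups commutatorElement

variable {F : Type*} [Field F] [Fintype F] {q n : ℕ}

/-- The special unitary group normalises no absolutely irreducible group abelian modulo scalars. -/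
theorem not_sunit_le_six (hF : Fintype.card F = q ^ 2) (hn : 5 ≤ n) {R : Subgroup (GL (Fin n) F)}
    (habs : ActsAbsolutelyIrreducibly (matrixSet R)) (hcomm : ⁅R, R⁆ ≤ scalars (Fin n) F) :
    ¬ sunit n F q ≤ subgroupNormalizer R := by
  classical
  intro hle
  haveI : Nonempty (Fin n) := ⟨⟨0, by omega⟩⟩
  have hU := herm_unitary (n := n) hF
  have hf := isSesq_of_unitary hU
  obtain ⟨l, hl0, hl⟩ := exists_trace hF
  obtain ⟨z, hz0, hz⟩ := exists_singular hF (show 2 ≤ n by omega)
  obtain ⟨g, hg, -, hgv⟩ := exists_utv hF hz hl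
  have hgfix : ∀ u, Cfsg.hermForm n F q u z = 0 → (g⁻¹).val *ᵥ u = u := fun u hu => by
    conv_lhs => rw [show u = g.val *ᵥ u by rw [hgv, hu, mul_zero, zero_smul, add_zero]]
    rw [inv_mulVec_mulVec]
  have hcent : ∀ x ∈ R, g * x = x * g := by
    intro x hx
    set y := g * x * g⁻¹ * x⁻¹ with hy
    have hyR : y ∈ R := mul_mem ((Subgroup.mem_normalizer_iff.1 (hle hg) x).1 hx) (inv_mem hx)
    let lin : (Fin n → F) →ₗ[F] F :=
      { toFun := fun v => Cfsg.hermForm n F q v z
        map_add' := fun u v => hf.add_left u v z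
        map_smul' := fun a v => hf.smul_left a v z }
    let T : (Fin n → F) →ₗ[F] F × F := lin.prod (lin.comp (Matrix.toLin' (x⁻¹).val))
    have hfix : ∀ v ∈ LinearMap.ker T, y.val *ᵥ v = v := by
      intro v hv
      obtain ⟨h1, h2⟩ : Cfsg.hermForm n F q v z = 0 ∧ Cfsg.hermForm n F q ((x⁻¹).val *ᵥ v) z = 0 := by
        have h := LinearMap.mem_ker.1 hv
        exact ⟨congrArg Prod.fst h, congrArg Prod.snd h⟩
      rw [hy, Units.val_mul, Units.val_mul, Units.val_mul, ← Matrix.mulVec_mulVec, ← Matrix.mulVec_mulVec,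
        ← Matrix.mulVec_mulVec, hgfix _ h2, mulVec_inv_mulVec, hgv, h1, mul_zero, zero_smul, add_zero]
    have hdim : n ≤ Module.finrank F (LinearMap.ker T) + 2 := by
      have h1 := LinearMap.finrank_range_add_finrank_ker T
      have h2 := Submodule.finrank_le (LinearMap.range T)
      rw [Module.finrank_fin_fun] at h1
      rw [Module.finrank_prod, Module.finrank_self] at h2
      omega
    have hy1 : y = 1 := by
      by_cases hys : y ∈ scalars (Fin n) F
      · obtain ⟨c, hc⟩ := (mem_scalars_iff _).1 hys
        obtain ⟨v, hv, hv0⟩ := Submodule.exists_mem_ne_zero_of_ne_bot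
          (p := LinearMap.ker T) (fun h => by rw [h, finrank_bot] at hdim; omega)
        have h1 := hfix v hv
        rw [hc, Matrix.smul_mulVec, Matrix.one_mulVec] at h1
        have h2 : (c : F) = 1 := smul_left_injective F hv0 (h1.trans (one_smul F v).symm)
        exact Units.ext (by rw [hc, h2, one_smul, Units.val_one])
      · exfalso
        obtain ⟨w, hw, hwy⟩ : ∃ w ∈ R, y * w ≠ w * y := by
          by_contra hne
          push Not at hne
          exact hys (absIrr_center habs hne)
        obtain ⟨c, hc⟩ := (mem_scalars_iff _).1 (hcomm (Subgroup.commutator_mem_commutator hw hyR))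
        have hc1 : (c : F) ≠ 1 := fun e => hwy (by
          have h1 : ⁅w, y⁆ = 1 := Units.ext (by rw [hc, e, one_smul, Units.val_one])
          exact (commutatorElement_eq_one_iff_mul_comm.1 h1).symm)
        set W := LinearMap.ker T
        have hinf : W ⊓ W.map (Matrix.toLin' w.val) = ⊥ := by
          rw [eq_bot_iff]
          rintro v ⟨hv, u, hu, rfl⟩
          have h1 := hfix _ hv
          have h2 : (w * y * w⁻¹).val *ᵥ (Matrix.toLin' w.val u) = Matrix.toLin' w.val u := by
            rw [Matrix.toLin'_apply, Units.val_mul, Units.val_mul, ← Matrix.mulVec_mulVec, inv_mulVec_mulVec,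
              ← Matrix.mulVec_mulVec, hfix u hu]
          rw [show w * y * w⁻¹ = ⁅w, y⁆ * y by rw [commutatorElement_def]; group, Units.val_mul, hc,
            ← Matrix.mulVec_mulVec, h1, Matrix.smul_mulVec, Matrix.one_mulVec] at h2
          have h3 : ((c : F) - 1) • Matrix.toLin' w.val u = 0 := by rw [sub_smul, one_smul, h2, sub_self]
          exact (Submodule.mem_bot F).2 ((smul_eq_zero.1 h3).resolve_left (sub_ne_zero.2 hc1))
        have h1 := Submodule.finrank_sup_add_finrank_inf_eq W (W.map (Matrix.toLin' w.val))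
        have h2 := Submodule.finrank_le (W ⊔ W.map (Matrix.toLin' w.val))
        rw [hinf, finrank_bot, add_zero, show W.map (Matrix.toLin' w.val) = move w W from rfl, finrank_move w W] at h1
        rw [Module.finrank_fin_fun, show W.map (Matrix.toLin' w.val) = move w W from rfl] at h2
        omega
    rw [hy] at hy1
    have h5 : g * x * g⁻¹ = x := mul_inv_eq_one.1 hy1
    calc g * x = g * x * g⁻¹ * g := by rw [inv_mul_cancel_right]
      _ = x * g := by rw [h5]
  obtain ⟨c, hc⟩ := habs.2 g.val (by
    rintro _ ⟨x, hx, rfl⟩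
    exact congrArg Units.val (hcent x hx))
  have h1 := hgv z
  rw [hc, Matrix.smul_mulVec, Matrix.one_mulVec, hz, mul_zero, zero_smul, add_zero] at h1
  have hc1 : c = 1 := smul_left_injective F hz0 (h1.trans (one_smul F z).symm)
  obtain ⟨v, hv⟩ := (hU.nondegenerate z hz0).1
  have h2 := hgv v
  rw [hc, hc1, one_smul, Matrix.one_mulVec, left_eq_add, smul_eq_zero] at h2
  exact h2.elim (mul_ne_zero hl0 hv) hz0

end Cfsg.Lib.Linear.AschU
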