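import Cfsg.Agent.Lib.Linear.AschU.Maximal

/-!
# The special unitary group normalises no two-group of symplectic type
-/

set_option autoImplicit false
set_option linter.unusedSectionVars false
set_option linter.style.haveILetI false

namespace Cfsg.Lib.Linear.AschU

open Cfsg.Geo Cfsg.Lib.Linear Cfsg.Lib.Linear.Herm Cfsg.Lib.Linear.Asch
open scoped Matrix MatrixGroups

variable {F : Type*} [Field F] [Fintype F] {q n : ℕ}

/-- A non-degenerate subspace contains an anisotropic vector. -/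
theorem exists_aniso (hF : Fintype.card F = q ^ 2) {W : Submodule F (Fin n → F)} (h0 : W ≠ ⊥)
    (hnd : IsNondegenerateOn (Cfsg.hermForm n F q) W) : ∃ a ∈ W, Cfsg.hermForm n F q a a ≠ 0 := by
  by_contra hall
  push Not at hall
  obtain ⟨u, hu, hu0⟩ := Submodule.exists_mem_ne_zero_of_ne_bot h0
  obtain ⟨x, hx, hxu⟩ := (hnd u hu hu0).1
  obtain ⟨v, hv⟩ : ∃ v : F, v + sigmaE hF v ≠ 0 := by
    by_contra h
    push Not at h
    obtain ⟨w, hw⟩ : ∃ w : F, sigmaE hF w ≠ w := by
      by_contra h'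
      push Not at h'
      exact sigmaE_ne hF (RingEquiv.ext h')
    have h1 := h 1
    rw [map_one] at h1
    exact hw (by linear_combination h w - w * h1)
  have h1 := hall _ (add_mem hu (W.smul_mem (v / Cfsg.hermForm n F q x u) hx))
  rw [herm_add_self hF, hall u hu, hall x hx, mul_zero, add_zero, zero_add, div_mul_cancel₀ _ hxu] at h1
  exact hv (by linear_combination h1)

/-- The special unitary group normalises no unitary two-group of symplectic type. -/
theorem not_sunit_le_two (hF : Fintype.card F = q ^ 2) (hn : 3 ≤ n) {R : Subgroup (GL (Fin n) F)} {p e k : ℕ}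
    (h : SixData q R 2 p e k) : ¬ sunit n F q ≤ subgroupNormalizer R := by
  classical
  intro hle
  haveI : Nonempty (Fin n) := ⟨⟨0, by omega⟩⟩
  have hU := herm_unitary (n := n) hF
  have hf := isSesq_of_unitary hU
  obtain ⟨hp, hqp, hp4, -, hz4⟩ := six_two hF h
  obtain ⟨hpr, hchar, -, -, -⟩ := h.minimal
  haveI := hchar
  haveI : Fact p.Prime := ⟨hpr⟩
  have h2 : (2 : F) ≠ 0 := by
    intro h0
    have h1 := (CharP.cast_eq_zero_iff F p 2).1 (by exact_mod_cast h0)
    have := Nat.le_of_dvd two_pos h1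
    omega
  have hexp : Monoid.exponent R = 4 := by rw [h.symp.exponent_eq]; rfl
  have hpow4 : ∀ x ∈ R, x ^ 4 = 1 := fun x hx => by
    have h1 := Monoid.pow_exponent_eq_one (⟨x, hx⟩ : R)
    rw [hexp] at h1
    exact congrArg Subtype.val h1
  -- an involution outside the centre
  obtain ⟨x, hx, hxs, hx2⟩ : ∃ x ∈ R, x ∉ scalars (Fin n) F ∧ x ^ 2 = 1 := by
    obtain ⟨x, hx, hxs⟩ : ∃ x ∈ R, x ∉ scalars (Fin n) F := by
      by_contra hall
      push Not at hall
      exact not_irr_scalars (by rw [Fintype.card_fin]; omega) hall h.absIrr.1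
    obtain ⟨c, hc⟩ := (mem_scalars_iff _).1 (h.pow x hx)
    have hval : ∀ a : Matrix (Fin n) (Fin n) F, ∀ u v : F, u • a = v • a → a ≠ 0 → u = v :=
      fun a u v he ha => smul_left_injective F ha he
    have hc2 : (c : F) = 1 ∨ (c : F) = -1 := by
      refine mul_self_eq_one_iff.1 (hval 1 _ 1 ?_ one_ne_zero)
      have h4 : (x ^ 4).val = ((c : F) * c) • (1 : Matrix (Fin n) (Fin n) F) := by
        rw [show x ^ 4 = x ^ 2 * x ^ 2 by rw [← pow_add], Units.val_mul, hc, Matrix.smul_mul, Matrix.mul_smul,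
          Matrix.mul_one, smul_smul]
      rw [hpow4 x hx, Units.val_one] at h4
      rw [one_smul]
      exact h4.symm
    rcases hc2 with hc1 | hc1
    · exact ⟨x, hx, hxs, Units.ext (by rw [hc, hc1, one_smul, Units.val_one])⟩
    obtain ⟨z, hz, hz2⟩ : ∃ z ∈ R, ∃ s : F, z.val = s • (1 : Matrix (Fin n) (Fin n) F) ∧ s * s = -1 := by
      have hsc : ∀ z : Subgroup.center R, (z.1 : GL (Fin n) F) ∈ scalars (Fin n) F := fun z =>
        absIrr_center h.absIrr fun y hy => (congrArg Subtype.val (Subgroup.mem_center_iff.1 z.2 ⟨y, hy⟩)).symm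
      choose s hs using fun z => (mem_scalars_iff _).1 (hsc z)
      have hs4 : ∀ z, (s z : F) * s z = 1 ∨ (s z : F) * s z = -1 := fun z => by
        refine mul_self_eq_one_iff.1 (hval 1 _ 1 ?_ one_ne_zero)
        have h4 := congrArg Units.val (hpow4 _ z.1.2)
        rw [Units.val_pow_eq_pow_val, hs, smul_pow, one_pow, Units.val_one] at h4
        rw [one_smul]
        exact (congrArg (· • (1 : Matrix (Fin n) (Fin n) F)) (by ring)).trans h4
      by_contra hall
      push Not at hall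
      have hinj : Function.Injective fun z => decide ((s z : F) = 1) := fun a b hab => by
        simp only [decide_eq_decide] at hab
        have hsq : ∀ z, (s z : F) = 1 ∨ (s z : F) = -1 := fun z =>
          mul_self_eq_one_iff.1 ((hs4 z).resolve_right fun e => hall _ z.1.2 _ (hs z) e)
        refine Subtype.ext (Subtype.ext (Units.ext ?_))
        rw [hs, hs]
        congr 1
        rcases hsq a with ha | ha
        · rw [ha, hab.1 ha]
        · rcases hsq b with hb | hb
          · rw [hb, hab.2 hb]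
          · rw [ha, hb]
      have := Nat.card_le_card_of_injective _ hinj
      rw [hz4, Nat.card_eq_fintype_card, Fintype.card_bool] at this
      omega
    obtain ⟨s, hzv, hs2⟩ := hz2
    refine ⟨z * x, mul_mem hz hx, fun hzx => hxs ?_, Units.ext ?_⟩
    · have hzs : z ∈ scalars (Fin n) F := (mem_scalars_iff _).2
        ⟨Units.mk0 s (fun h0 => by simp [h0] at hs2), hzv⟩
      simpa using mul_mem (inv_mem hzs) hzx
    · rw [Units.val_pow_eq_pow_val, Units.val_mul, hzv, Matrix.smul_mul, Matrix.one_mul, smul_pow,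
        ← Units.val_pow_eq_pow_val, hc, smul_smul, hc1, sq, hs2, neg_mul_neg, one_mul, one_smul, Units.val_one]
  have hxx : ∀ v, x.val *ᵥ (x.val *ᵥ v) = v := fun v => by
    rw [Matrix.mulVec_mulVec, ← Units.val_mul, ← sq, hx2, Units.val_one, Matrix.one_mulVec]
  have hxU : ∀ u v, Cfsg.hermForm n F q (x.val *ᵥ u) (x.val *ᵥ v) = Cfsg.hermForm n F q u v := h.unitary hx
  let E : F → Submodule F (Fin n → F) := fun s =>
    LinearMap.ker (Matrix.toLin' x.val - s • LinearMap.id)
  have hE : ∀ {s v}, v ∈ E s ↔ x.val *ᵥ v = s • v := fun {s v} => by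
    simp [E, sub_eq_zero]
  have horth : ∀ u ∈ E 1, ∀ v ∈ E (-1), Cfsg.hermForm n F q u v = 0 := by
    intro u hu v hv
    have h1 := hxU u v
    rw [hE.1 hu, hE.1 hv, one_smul, hf.smul_right, map_neg, map_one] at h1
    exact (mul_eq_zero.1 (show (2 : F) * Cfsg.hermForm n F q u v = 0 by linear_combination -h1)).resolve_left h2
  have hdec : ∀ v, ∃ u ∈ E 1, ∃ w ∈ E (-1), v = u + w := fun v => by
    refine ⟨(2 : F)⁻¹ • (v + x.val *ᵥ v), hE.2 ?_, (2 : F)⁻¹ • (v - x.val *ᵥ v), hE.2 ?_, ?_⟩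
    · rw [Matrix.mulVec_smul, Matrix.mulVec_add, hxx, one_smul, add_comm]
    · rw [Matrix.mulVec_smul, Matrix.mulVec_sub, hxx]
      module
    · rw [← smul_add, show v + x.val *ᵥ v + (v - x.val *ᵥ v) = (2 : F) • v by module, smul_smul,
        inv_mul_cancel₀ h2, one_smul]
  have hne : ∀ s : F, s = 1 ∨ s = -1 → E s ≠ ⊥ := by
    intro s hs hb
    refine hxs ((mem_scalars_iff _).2 ⟨Units.mk0 (-s) (by rcases hs with rfl | rfl <;> simp), ?_⟩)
    refine Matrix.toLin'.injective (LinearMap.ext fun v => ?_)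
    obtain ⟨u, hu, w, hw, rfl⟩ := hdec v
    rw [Matrix.toLin'_apply, Matrix.toLin'_apply, Matrix.mulVec_add, hE.1 hu, hE.1 hw, Units.val_mk0,
      Matrix.smul_mulVec, Matrix.one_mulVec, smul_add]
    rcases hs with rfl | rfl
    · rw [hb, Submodule.mem_bot] at hu
      rw [hu]; simp
    · rw [hb, Submodule.mem_bot] at hw
      rw [hw]; simp
  have hnd : ∀ s : F, s = 1 ∨ s = -1 → IsNondegenerateOn (Cfsg.hermForm n F q) (E s) := by
    intro s hs w hw hw0
    obtain ⟨⟨y, hy⟩, -⟩ := hU.nondegenerate w hw0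
    obtain ⟨u, hu, v, hv, rfl⟩ := hdec y
    rw [hf.add_left] at hy
    have hz : ∃ y ∈ E s, Cfsg.hermForm n F q y w ≠ 0 := by
      rcases hs with rfl | rfl
      · refine ⟨u, hu, fun h0 => hy ?_⟩
        rw [h0, zero_add, hU.herm, horth w hw v hv, map_zero]
      · refine ⟨v, hv, fun h0 => hy ?_⟩
        rw [h0, add_zero, horth u hu w hw]
    obtain ⟨y', hy', hy''⟩ := hz
    exact ⟨⟨y', hy', hy''⟩, ⟨y', hy', fun h0 => hy'' (by rw [hU.herm, h0, map_zero])⟩⟩
  obtain ⟨a, ha, haN⟩ := exists_aniso hF (hne 1 (Or.inl rfl)) (hnd 1 (Or.inl rfl))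
  obtain ⟨b', hb', hb'N⟩ := exists_aniso hF (hne (-1) (Or.inr rfl)) (hnd (-1) (Or.inr rfl))
  set N := Cfsg.hermForm n F q a a with hN
  have hfix : ∀ v, (Cfsg.hermForm n F q v v) ^ q = Cfsg.hermForm n F q v v := fun v => by
    rw [← sigmaE_apply hF, ← hU.herm]
  obtain ⟨c, hc⟩ := exists_norm_eq hF (μ := -N / Cfsg.hermForm n F q b' b') (div_ne_zero (neg_ne_zero.2 haN) hb'N)
    (by rw [div_pow, hfix, ← sigmaE_apply hF, map_neg, ← hU.herm])
  set b := (c : F) • b' with hb
  have hbE : b ∈ E (-1) := (E (-1)).smul_mem _ hb'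
  have hbb : Cfsg.hermForm n F q b b = -N := by
    rw [hb, hf.smul_left, hf.smul_right, sigmaE_apply, ← mul_assoc, ← pow_succ', hc, div_mul_cancel₀ _ hb'N]
  have hab := horth a ha b hbE
  have hba : Cfsg.hermForm n F q b a = 0 := by rw [hU.herm, hab, map_zero]
  set z := a + b with hz
  have hzz : Cfsg.hermForm n F q z z = 0 := by
    rw [hz, hf.add_left, hf.add_right, hf.add_right, hbb, hab, hba, ← hN]; ring
  obtain ⟨l, hl0, hl⟩ := exists_trace hF
  obtain ⟨g, hg, -, hgv⟩ := exists_utv hF hzz hl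
  set y := g * x * g⁻¹ * x⁻¹ with hy
  have hyR : y ∈ R := mul_mem ((Subgroup.mem_normalizer_iff.1 (hle hg) x).1 hx) (inv_mem hx)
  have hxinv : x⁻¹ = x := inv_eq_of_mul_eq_one_right (by rw [← sq]; exact hx2)
  have hgi : ∀ v, (g⁻¹).val *ᵥ v = v - (l * Cfsg.hermForm n F q v z) • z := fun v => by
    conv_lhs => rw [show v = g.val *ᵥ (v - (l * Cfsg.hermForm n F q v z) • z) by
      rw [hgv, sub_eq_add_neg, hf.add_left, ← neg_smul, hf.smul_left, hzz, mul_zero, add_zero]
      module]
    rw [inv_mulVec_mulVec]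
  have hyv : ∀ v, y.val *ᵥ v = g.val *ᵥ (v - (l * Cfsg.hermForm n F q (x.val *ᵥ v) z) • (x.val *ᵥ z)) := by
    intro v
    rw [hy, hxinv, Units.val_mul, Units.val_mul, Units.val_mul, ← Matrix.mulVec_mulVec, ← Matrix.mulVec_mulVec,
      ← Matrix.mulVec_mulVec, hgi, Matrix.mulVec_sub, hxx, Matrix.mulVec_smul]
  -- a fixed vector
  obtain ⟨u, hu0, hu⟩ : ∃ u, u ≠ 0 ∧ y.val *ᵥ u = u := by
    let lin : (Fin n → F) →ₗ[F] F :=
      { toFun := fun v => Cfsg.hermForm n F q v z
        map_add' := fun u v => hf.add_left u v z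
        map_smul' := fun a v => hf.smul_left a v z }
    let T : (Fin n → F) →ₗ[F] F × F := lin.prod (lin.comp (Matrix.toLin' x.val))
    have hT : LinearMap.ker T ≠ ⊥ := fun hb => by
      have h1 := LinearMap.finrank_range_add_finrank_ker T
      have h2' := Submodule.finrank_le (LinearMap.range T)
      rw [Module.finrank_fin_fun, hb, finrank_bot] at h1
      rw [Module.finrank_prod, Module.finrank_self] at h2'
      omega
    obtain ⟨u, hu, hu0⟩ := Submodule.exists_mem_ne_zero_of_ne_bot hT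
    have h' := LinearMap.mem_ker.1 hu
    have e1 : Cfsg.hermForm n F q u z = 0 := congrArg Prod.fst h'
    have e2 : Cfsg.hermForm n F q (x.val *ᵥ u) z = 0 := congrArg Prod.snd h'
    exact ⟨u, hu0, by rw [hyv, e2, mul_zero, zero_smul, sub_zero, hgv, e1, mul_zero, zero_smul, add_zero]⟩
  have hy2 : y ^ 2 = 1 := by
    obtain ⟨s, hs⟩ := (mem_scalars_iff _).1 (h.pow y hyR)
    have h1 : (y ^ 2).val *ᵥ u = u := by
      rw [Units.val_pow_eq_pow_val, sq, ← Matrix.mulVec_mulVec, hu, hu]
    rw [hs, Matrix.smul_mulVec, Matrix.one_mulVec] at h1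
    have h3 : (s : F) = 1 := smul_left_injective F hu0 (h1.trans (one_smul F u).symm)
    exact Units.ext (by rw [hs, h3, one_smul, Units.val_one])
  have hyx : y * x = x * y := by
    have hyi : y⁻¹ = y := inv_eq_of_mul_eq_one_right (by rw [← sq]; exact hy2)
    calc y * x = g * x * g⁻¹ := by rw [hy, inv_mul_cancel_right]
      _ = x * y⁻¹ := by
          rw [hy, hxinv]
          simp only [mul_inv_rev, inv_inv, hxinv, mul_assoc]
          rw [← mul_assoc x x, ← sq, hx2, one_mul]
      _ = x * y := by rw [hyi]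
  have hxa : x.val *ᵥ a = a := by rw [hE.1 ha, one_smul]
  have hxb : x.val *ᵥ b = (-1 : F) • b := hE.1 hbE
  have hxya : x.val *ᵥ (y.val *ᵥ a) = y.val *ᵥ a := by
    rw [Matrix.mulVec_mulVec, ← Units.val_mul, ← hyx, Units.val_mul, ← Matrix.mulVec_mulVec, hxa]
  have hxz : x.val *ᵥ z = a - b := by rw [hz, Matrix.mulVec_add, hxa, hxb]; module
  have haz : Cfsg.hermForm n F q a z = N := by rw [hz, hf.add_right, hab, add_zero, ← hN]
  have hbz : Cfsg.hermForm n F q b z = -N := by rw [hz, hf.add_right, hba, hbb, zero_add]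
  have hya : y.val *ᵥ a = (1 - 2 * (l * N) ^ 2) • a + (2 * (l * N) * (1 - l * N)) • b := by
    rw [hyv, hxa, haz, hxz, hgv,
      show a - (l * N) • (a - b) = (1 - l * N) • a + (l * N) • b by module, hf.add_left, hf.smul_left, hf.smul_left,
      haz, hbz, hz]
    module
  rw [hya, Matrix.mulVec_add, Matrix.mulVec_smul, Matrix.mulVec_smul, hxa, hxb, smul_smul] at hxya
  set β := 2 * (l * N) * (1 - l * N) with hβ
  have hb0 : b ≠ 0 := fun e => haN (by
    rw [e, ← zero_smul F (0 : Fin n → F), hf.smul_left, zero_mul, zero_eq_neg] at hbb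
    exact hbb)
  have hβ0 : (2 * β) • b = 0 := by linear_combination (norm := module) -hxya
  have hN' : sigmaE hF N = N := by rw [hN, ← hU.herm]
  have hlN : l * N ≠ 1 := fun e => h2 (by
    have h1 := congrArg (sigmaE hF) e
    rw [map_mul, hN', map_one, sigmaE_apply, show l ^ q = -l by linear_combination hl] at h1
    linear_combination -e - h1)
  refine hb0 ((smul_eq_zero.1 hβ0).resolve_left (mul_ne_zero h2 ?_))
  exact mul_ne_zero (mul_ne_zero h2 (mul_ne_zero hl0 haN)) (sub_ne_zero.2 (Ne.symm hlN))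

end Cfsg.Lib.Linear.AschU
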