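import Cfsg.Agent.Lib.Linear.AschU.NotSUTwo
import Cfsg.Agent.Lib.Linear.AschU.CubeBase

/-!
# Field extension subgroups of degree three in six dimensions over the field of four elements

They lie in subfield groups of symplectic type: in a frame adapted to the field, the group generated
by the unitary matrices of degree two with determinant one and by the field automorphism is absolutely
irreducible with traces in the prime field.
-/

set_option autoImplicit false
set_option linter.unusedSectionVars false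
set_option linter.style.haveILetI false

namespace Cfsg.Lib.Linear.AschU

open Cfsg.Geo Cfsg.Lib.Linear Cfsg.Lib.Linear.Herm Cfsg.Lib.Linear.Asch
open scoped Matrix MatrixGroups

namespace SixField

variable (F : Type*) [Field F]

/-- The matrix of a generator of the field of eight elements in a self-dual normal basis. -/
def B0 : Matrix (Fin 3) (Fin 3) F := !![0, 1, 0; 1, 0, 1; 0, 1, 1]

/-- The matrix of the squaring automorphism in that basis. -/
def Cy : Matrix (Fin 3) (Fin 3) F := !![0, 0, 1; 1, 0, 0; 0, 1, 0]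

theorem Cy_cube : Cy F * Cy F * Cy F = 1 := by
  refine Matrix.ext fun i j => ?_
  fin_cases i <;> fin_cases j <;> simp [Cy, Matrix.mul_apply, Fin.sum_univ_three]

theorem det_Cy : (Cy F).det = 1 := by
  simp [Cy, Matrix.det_fin_three]

variable {F}

theorem B0_cube (h2 : (2 : F) = 0) : B0 F * B0 F * B0 F = B0 F * B0 F + 1 := by
  refine Matrix.ext fun i j => ?_
  fin_cases i <;> fin_cases j <;> simp [B0, Matrix.mul_apply, Fin.sum_univ_three]
  all_goals grind

theorem Cy_B0 (h2 : (2 : F) = 0) : Cy F * B0 F * (Cy F * Cy F) = B0 F * B0 F := by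
  refine Matrix.ext fun i j => ?_
  fin_cases i <;> fin_cases j <;> simp [B0, Cy, Matrix.mul_apply, Fin.sum_univ_three]
  all_goals first
    | linear_combination h2
    | linear_combination -h2

/-- The matrices commuting with the generator are the polynomials in it. -/
theorem commutant (X : Matrix (Fin 3) (Fin 3) F) (h2 : (2 : F) = 0) (h : B0 F * X = X * B0 F) :
    X = (X 0 0 + X 2 0) • 1 + X 1 0 • B0 F + X 2 0 • (B0 F * B0 F) := by
  have e : ∀ i j, (B0 F * X) i j = (X * B0 F) i j := fun i j => by rw [h]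
  have e00 := e 0 0
  have e10 := e 1 0
  have e20 := e 2 0
  have e01 := e 0 1
  have e11 := e 1 1
  have e21 := e 2 1
  simp [B0, Matrix.mul_apply, Fin.sum_univ_three] at e00 e10 e20 e01 e11 e21
  refine Matrix.ext fun i j => ?_
  fin_cases i <;> fin_cases j <;> simp [B0, Matrix.mul_apply, Fin.sum_univ_three, Matrix.one_apply]
  all_goals grind

variable (F) in
/-- The field generated by the matrix, as the commutant. -/
def S : Subalgebra F (Matrix (Fin 3) (Fin 3) F) := Subalgebra.centralizer F {B0 F}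

theorem mem_S {X : Matrix (Fin 3) (Fin 3) F} : X ∈ S F ↔ B0 F * X = X * B0 F := by
  rw [S, Subalgebra.mem_centralizer_iff]
  exact ⟨fun h => h _ rfl, fun h g hg => by rw [Set.mem_singleton_iff.1 hg]; exact h⟩

variable (F) in
/-- The generator as an element of the field. -/
def beta : S F := ⟨B0 F, mem_S.2 rfl⟩

theorem repr (h2 : (2 : F) = 0) (x : S F) :
    ∃ a b c : F, x = a • 1 + b • beta F + c • (beta F * beta F) :=
  ⟨_, _, _, Subtype.ext (commutant x.1 h2 (mem_S.1 x.2))⟩

theorem S_comm (h2 : (2 : F) = 0) (x y : S F) : x * y = y * x := by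
  obtain ⟨a, b, c, rfl⟩ := repr h2 x
  have h : beta F * y = y * beta F := Subtype.ext (mem_S.1 y.2)
  simp only [add_mul, mul_add, smul_mul_assoc, mul_smul_comm, one_mul, mul_one, mul_assoc]
  rw [h, ← mul_assoc (beta F) y, h, mul_assoc]

/-- The field is commutative. -/
@[reducible] def commRingS (h2 : (2 : F) = 0) : CommRing (S F) :=
  { (inferInstance : Ring (S F)) with mul_comm := S_comm h2 }

theorem beta_rel (h2 : (2 : F) = 0) : beta F * beta F * beta F = beta F * beta F + 1 :=
  Subtype.ext (B0_cube h2)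

theorem two_S (h2 : (2 : F) = 0) (x : S F) : x + x = 0 := by
  rw [← two_smul F x, h2, zero_smul]

theorem conj_mem (h2 : (2 : F) = 0) {X : Matrix (Fin 3) (Fin 3) F} (hX : X ∈ S F) :
    Cy F * X * (Cy F * Cy F) ∈ S F := by
  rw [mem_S] at hX ⊢
  obtain ⟨a, b, c, h⟩ : ∃ a b c : F, X = a • 1 + b • B0 F + c • (B0 F * B0 F) := ⟨_, _, _, commutant X h2 hX⟩
  have hsq : Cy F * (B0 F * B0 F) * (Cy F * Cy F) = B0 F * B0 F * (B0 F * B0 F) :=
    calc Cy F * (B0 F * B0 F) * (Cy F * Cy F)
        = Cy F * B0 F * (Cy F * Cy F * Cy F) * B0 F * (Cy F * Cy F) := by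
          rw [Cy_cube, mul_one]; simp only [mul_assoc]
      _ = (Cy F * B0 F * (Cy F * Cy F)) * (Cy F * B0 F * (Cy F * Cy F)) := by simp only [mul_assoc]
      _ = _ := by rw [Cy_B0 h2]
  rw [h]
  simp only [mul_add, add_mul, Matrix.mul_smul, Matrix.smul_mul, mul_one, hsq, Cy_B0 h2]
  rw [← mul_assoc (Cy F) (Cy F) (Cy F), Cy_cube]
  simp [mul_assoc]

/-- The squaring automorphism of the field. -/
def shift (h2 : (2 : F) = 0) : S F →ₐ[F] S F where
  toFun x := ⟨Cy F * x.1 * (Cy F * Cy F), conj_mem h2 x.2⟩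
  map_one' := Subtype.ext (by simp [← mul_assoc, Cy_cube])
  map_mul' x y := Subtype.ext (by
    show Cy F * (x.1 * y.1) * (Cy F * Cy F) = Cy F * x.1 * (Cy F * Cy F) * (Cy F * y.1 * (Cy F * Cy F))
    simp only [mul_assoc]
    rw [← mul_assoc (Cy F) (Cy F) (Cy F * _), ← mul_assoc (Cy F * Cy F) (Cy F), Cy_cube, one_mul])
  map_zero' := Subtype.ext (by simp)
  map_add' x y := Subtype.ext (by simp [mul_add, add_mul])
  commutes' r := Subtype.ext (by
    simp [Algebra.algebraMap_eq_smul_one, Matrix.mul_smul, Matrix.smul_mul, ← mul_assoc, Cy_cube])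

theorem shift_beta (h2 : (2 : F) = 0) : shift h2 (beta F) = beta F * beta F := Subtype.ext (Cy_B0 h2)

theorem shift_cube (h2 : (2 : F) = 0) (x : S F) : shift h2 (shift h2 (shift h2 x)) = x := by
  refine Subtype.ext ?_
  show Cy F * (Cy F * (Cy F * x.1 * (Cy F * Cy F)) * (Cy F * Cy F)) * (Cy F * Cy F) = x.1
  have h6 : Cy F * Cy F * (Cy F * Cy F) * (Cy F * Cy F) = 1 := by
    rw [show Cy F * Cy F * (Cy F * Cy F) * (Cy F * Cy F) = (Cy F * Cy F * Cy F) * (Cy F * Cy F * Cy F) by
      simp only [mul_assoc], Cy_cube, one_mul]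
  calc _ = (Cy F * Cy F * Cy F) * x.1 * (Cy F * Cy F * (Cy F * Cy F) * (Cy F * Cy F)) := by simp only [mul_assoc]
    _ = _ := by rw [Cy_cube, h6, one_mul, mul_one]

theorem beta_seven (h2 : (2 : F) = 0) : beta F ^ 7 = 1 := by
  letI := commRingS h2
  have hr := beta_rel h2
  have h0 : (2 : S F) = 0 := by rw [← one_add_one_eq_two, two_S h2]
  linear_combination (beta F ^ 4 + beta F ^ 3 + beta F ^ 2 + 1) * hr + (beta F ^ 4 + beta F ^ 2) * h0

theorem shift_shift (hF : Nat.card F = 4) (h2 : (2 : F) = 0) (x : S F) : shift h2 (shift h2 x) = x ^ 4 := by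
  letI := commRingS h2
  haveI : Finite F := Nat.finite_of_card_ne_zero (by omega)
  haveI := Fintype.ofFinite F
  have hpow : ∀ a : F, a ^ 4 = a := fun a => by
    have := FiniteField.pow_card a
    rwa [← Nat.card_eq_fintype_card, hF] at this
  obtain ⟨a, b, c, rfl⟩ := repr h2 x
  have h0 : ∀ u v : S F, (u + v) ^ 4 = u ^ 4 + v ^ 4 := fun u v => by
    have h : (2 : S F) = 0 := by rw [← one_add_one_eq_two, two_S h2]
    linear_combination (2 * u ^ 3 * v + 3 * u ^ 2 * v ^ 2 + 2 * u * v ^ 3) * h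
  simp only [map_add, map_smul, map_one, map_mul, shift_beta, h0, smul_pow, hpow, one_pow]
  congr 1
  · ring_nf
  · congr 1; ring

/-- The conjugate transpose on the field. -/
noncomputable def star3 [Fintype F] {q : ℕ} (hF : Fintype.card F = q ^ 2) (h2 : (2 : F) = 0) : S F →+* S F where
  toFun x := ⟨adjt hF x.1, mem_S.2 (by
    have h := congrArg (adjt hF) (mem_S.1 x.2)
    have hB : adjt hF (B0 F) = B0 F := Matrix.ext fun i j => by
      rw [adjt_apply, ← sigmaE_apply hF]
      fin_cases i <;> fin_cases j <;> simp [B0]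
    rw [adjt_mul, adjt_mul, hB] at h
    exact h.symm)⟩
  map_one' := Subtype.ext (adjt_one hF)
  map_mul' x y := by
    rw [S_comm h2 x y]
    exact Subtype.ext (adjt_mul hF y.1 x.1)
  map_zero' := Subtype.ext (adjt_zero hF)
  map_add' x y := Subtype.ext (adjt_add hF x.1 y.1)

theorem star3_beta [Fintype F] {q : ℕ} (hF : Fintype.card F = q ^ 2) (h2 : (2 : F) = 0) :
    star3 hF h2 (beta F) = beta F := Subtype.ext (Matrix.ext fun i j => by
  show adjt hF (B0 F) i j = B0 F i j
  rw [adjt_apply, ← sigmaE_apply hF]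
  fin_cases i <;> fin_cases j <;> simp [B0])

theorem star3_smul [Fintype F] {q : ℕ} (hF : Fintype.card F = q ^ 2) (h2 : (2 : F) = 0) (a : F) (x : S F) :
    star3 hF h2 (a • x) = sigmaE hF a • star3 hF h2 x := Subtype.ext (adjt_smul hF a x.1)

theorem star3_eq [Fintype F] (hF : Fintype.card F = 2 ^ 2) (h2 : (2 : F) = 0) (x : S F) :
    star3 hF h2 x = x ^ 8 := by
  letI := commRingS h2
  have hpow : ∀ a : F, a ^ 4 = a := fun a => by
    have := FiniteField.pow_card a
    rwa [hF] at this
  have hσ : ∀ a : F, sigmaE hF a = a ^ 8 := fun a => by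
    rw [sigmaE_apply, show (8 : ℕ) = 4 + 4 from rfl, pow_add, hpow, sq]
  obtain ⟨a, b, c, rfl⟩ := repr h2 x
  have h : (2 : S F) = 0 := by rw [← one_add_one_eq_two, two_S h2]
  have h0 : ∀ u v : S F, (u + v) ^ 2 = u ^ 2 + v ^ 2 := fun u v => by
    linear_combination (u * v) * h
  have h8 : ∀ u v : S F, (u + v) ^ 8 = u ^ 8 + v ^ 8 := fun u v => by
    rw [show (8 : ℕ) = 2 * 2 * 2 from rfl]
    simp only [pow_mul, h0]
  simp only [map_add, map_mul, star3_smul, star3_beta, map_one, h8, smul_pow, one_pow, hσ]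
  have h7 := beta_seven h2
  congr 1
  · congr 2
    linear_combination -(beta F) * h7
  · congr 1
    linear_combination -(beta F ^ 2 * (beta F ^ 7 + 1)) * h7

set_option maxHeartbeats 4000000 in
theorem norm_eq (h2 : (2 : F) = 0) (x : S F) :
    x.1 * (shift h2 x).1 * (shift h2 (shift h2 x)).1 = x.1.det • 1 := by
  haveI : CharP F 2 := CharTwo.of_one_ne_zero_of_two_eq_zero one_ne_zero h2
  obtain ⟨a, b, c, rfl⟩ := repr h2 x
  set M : Matrix (Fin 3) (Fin 3) F := !![a + c, b, c; b, a, b + c; c, b + c, a + b] with hM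
  have hv : (a • (1 : S F) + b • beta F + c • (beta F * beta F)).1 = M := by
    show a • (1 : Matrix (Fin 3) (Fin 3) F) + b • B0 F + c • (B0 F * B0 F) = M
    refine Matrix.ext fun i j => ?_
    fin_cases i <;> fin_cases j <;> simp [hM, B0, Matrix.mul_apply, Fin.sum_univ_three, Matrix.one_apply]
    all_goals grind
  show _ * (Cy F * _ * (Cy F * Cy F)) * (Cy F * (Cy F * _ * (Cy F * Cy F)) * (Cy F * Cy F)) = _
  rw [hv]
  refine Matrix.ext fun i j => ?_
  fin_cases i <;> fin_cases j <;>
    simp [hM, Cy, Matrix.mul_apply, Fin.sum_univ_three, Matrix.det_fin_three, Matrix.one_apply] <;>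
    ring_nf <;> simp [CharTwo.two_eq_zero] <;> grind

theorem trace_mul_Cy (h2 : (2 : F) = 0) (x : S F) {j : ℕ} (hj : j = 1 ∨ j = 2) :
    (x.1 * Cy F ^ j).trace = 0 := by
  obtain ⟨a, b, c, rfl⟩ := repr h2 x
  show ((a • (1 : Matrix (Fin 3) (Fin 3) F) + b • B0 F + c • (B0 F * B0 F)) * Cy F ^ j).trace = 0
  rcases hj with rfl | rfl <;>
    simp [B0, Cy, sq, Matrix.mul_apply, Fin.sum_univ_three, Matrix.trace_fin_three, Matrix.one_apply,
      Matrix.add_mul, Matrix.smul_mul] <;>
    linear_combination (b + c) * h2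

theorem corner_idem (h2 : (2 : F) = 0) : Matrix.single (1 : Fin 3) (1 : Fin 3) (1 : F) =
    1 + (B0 F + Cy F + Cy F * Cy F) + (B0 F + Cy F + Cy F * Cy F) * (B0 F + Cy F + Cy F * Cy F) := by
  refine Matrix.ext fun i j => ?_
  fin_cases i <;> fin_cases j <;>
    simp [B0, Cy, Matrix.mul_apply, Fin.sum_univ_three, Matrix.one_apply, Matrix.single_apply]
  all_goals grind

theorem single_eq (i j : Fin 3) : Matrix.single i j (1 : F) =
    Cy F ^ ((i.val + 2) % 3) * Matrix.single 1 1 1 * Cy F ^ ((4 - j.val) % 3) := by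
  refine Matrix.ext fun r s => ?_
  have h : ∀ A B : Matrix (Fin 3) (Fin 3) F, ((A * Matrix.single (1 : Fin 3) (1 : Fin 3) (1 : F) * B : Matrix (Fin 3) (Fin 3) F)) r s = A r 1 * B 1 s := fun A B => by
    simp [Matrix.mul_apply, Fin.sum_univ_three, Matrix.single_apply]
  rw [h]
  fin_cases i <;> fin_cases j <;> fin_cases r <;> fin_cases s <;>
    simp [Cy, sq, Matrix.mul_apply, Fin.sum_univ_three, Matrix.single_apply]

/-! ### Two by two matrices with blocks in the field -/

variable (F) in
/-- Two by two block matrices. -/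
abbrev Blk := Matrix (Fin 2) (Fin 2) (Matrix (Fin 3) (Fin 3) F)

/-- The conjugate transpose of a block matrix. -/
noncomputable def adj2 [Fintype F] {q : ℕ} (hF : Fintype.card F = q ^ 2) (X : Blk F) : Blk F :=
  X.transpose.map (adjt hF)

theorem adj2_mul [Fintype F] {q : ℕ} (hF : Fintype.card F = q ^ 2) (X Y : Blk F) :
    adj2 hF (X * Y) = adj2 hF Y * adj2 hF X :=
  Matrix.ext fun i j => by
    show adjt hF ((X * Y) j i) = (adj2 hF Y * adj2 hF X) i j
    rw [Matrix.mul_apply, Matrix.mul_apply, Fin.sum_univ_two, Fin.sum_univ_two, adjt_add, adjt_mul, adjt_mul]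
    rfl

theorem adj2_one [Fintype F] {q : ℕ} (hF : Fintype.card F = q ^ 2) : adj2 hF (1 : Blk F) = 1 :=
  Matrix.ext fun i j => by
    show adjt hF ((1 : Blk F) j i) = (1 : Blk F) i j
    rcases eq_or_ne i j with rfl | h
    · rw [Matrix.one_apply_eq, adjt_one]
    · rw [Matrix.one_apply_ne h, Matrix.one_apply_ne h.symm, adjt_zero]

variable (F) in
/-- The field automorphism as a block matrix. -/
def Jb : Blk F := Matrix.diagonal fun _ => Cy F

variable (F) in
/-- Matrices over the field as block matrices. -/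
def blk : Matrix (Fin 2) (Fin 2) (S F) →+* Blk F := (S F).val.toRingHom.mapMatrix

theorem blk_apply (M : Matrix (Fin 2) (Fin 2) (S F)) (i j : Fin 2) : blk F M i j = (M i j).1 := rfl

theorem blk_injective : Function.Injective (blk F) := fun M N h =>
  Matrix.ext fun i j => Subtype.ext (congrFun (congrFun h i) j)

theorem Jb_cube : Jb F ^ 3 = 1 := by
  rw [Jb, Matrix.diagonal_pow, ← Matrix.diagonal_one]
  congr 1
  funext _
  show Cy F ^ 3 = 1
  rw [pow_succ, sq, Cy_cube]

theorem Jb_blk (h2 : (2 : F) = 0) (M : Matrix (Fin 2) (Fin 2) (S F)) :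
    Jb F * blk F M = blk F ((shift h2).toRingHom.mapMatrix M) * Jb F := by
  refine Matrix.ext fun i j => ?_
  rw [Jb, Matrix.diagonal_mul, Matrix.mul_diagonal]
  show Cy F * (M i j).1 = Cy F * (M i j).1 * (Cy F * Cy F) * Cy F
  simp only [mul_assoc]
  rw [← mul_assoc (Cy F) (Cy F) (Cy F), Cy_cube, mul_one]

theorem Jb_pow_blk (h2 : (2 : F) = 0) (M : Matrix (Fin 2) (Fin 2) (S F)) (j : ℕ) :
    Jb F ^ j * blk F M = blk F (((shift h2).toRingHom.mapMatrix)^[j] M) * Jb F ^ j := by
  induction j with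
  | zero => simp
  | succ j ih =>
    rw [pow_succ', mul_assoc, ih, ← mul_assoc, Jb_blk h2, mul_assoc, Function.iterate_succ_apply']

theorem det_iterate (h2 : (2 : F) = 0) (j : ℕ) :
    letI := commRingS h2
    ∀ M : Matrix (Fin 2) (Fin 2) (S F), (((shift h2).toRingHom.mapMatrix)^[j] M).det = (shift h2)^[j] M.det := by
  letI := commRingS h2
  induction j with
  | zero => intro M; rfl
  | succ j ih =>
    intro M
    rw [Function.iterate_succ_apply', Function.iterate_succ_apply', ← ih]
    exact ((shift h2).toRingHom.map_det _).symm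

theorem adj2_blk [Fintype F] {q : ℕ} (hF : Fintype.card F = q ^ 2) (h2 : (2 : F) = 0)
    (M : Matrix (Fin 2) (Fin 2) (S F)) : adj2 hF (blk F M) = blk F (M.transpose.map (star3 hF h2)) := rfl

theorem adj2_Jb [Fintype F] {q : ℕ} (hF : Fintype.card F = q ^ 2) : adj2 hF (Jb F) * Jb F = 1 := by
  refine Matrix.ext fun i j => ?_
  have hC : adjt hF (Cy F) * Cy F = 1 := Matrix.ext fun r s => by
    fin_cases r <;> fin_cases s <;> simp [Matrix.mul_apply, Fin.sum_univ_three, adjt_apply, Cy,
      ← sigmaE_apply hF]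
  rw [Jb, Matrix.mul_diagonal]
  show adjt hF (Matrix.diagonal (fun _ => Cy F) j i) * Cy F = _
  rcases eq_or_ne i j with rfl | h
  · rw [Matrix.diagonal_apply_eq, Matrix.one_apply_eq, hC]
  · rw [Matrix.diagonal_apply_ne _ h.symm, Matrix.one_apply_ne h, adjt_zero, zero_mul]

theorem adj2_Jb_pow [Fintype F] {q : ℕ} (hF : Fintype.card F = q ^ 2) (j : ℕ) :
    adj2 hF (Jb F ^ j) * Jb F ^ j = 1 := by
  induction j with
  | zero => rw [pow_zero, adj2_one, mul_one]
  | succ j ih =>
    rw [pow_succ, adj2_mul, mul_assoc, ← mul_assoc (adj2 hF (Jb F ^ j)), ih, one_mul, adj2_Jb]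

/-! ### The embedding in six dimensions -/

/-- Block matrices in an orthonormal frame. -/
noncomputable def emb (e : Fin 6 ≃ Fin 2 × Fin 3) (P : GL (Fin 6) F) : Blk F ≃ₐ[F] Matrix (Fin 6) (Fin 6) F :=
  ((Matrix.compAlgEquiv (Fin 2) (Fin 3) F F).trans (Matrix.reindexAlgEquiv F F e.symm)).trans (AschGen.conjA P)

theorem emb_apply (e : Fin 6 ≃ Fin 2 × Fin 3) (P : GL (Fin 6) F) (X : Blk F) :
    emb e P X = P.val * (Matrix.comp _ _ _ _ _ X).submatrix e e * (P⁻¹).val := rfl

theorem adjt_emb [Fintype F] {q : ℕ} (hF : Fintype.card F = q ^ 2) (e : Fin 6 ≃ Fin 2 × Fin 3)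
    {P : GL (Fin 6) F} (hP : P ∈ Cfsg.GU 6 F q) (X : Blk F) : adjt hF (emb e P X) = emb e P (adj2 hF X) := by
  rw [emb_apply, emb_apply, adjt_mul, adjt_mul, adjt_eq_inv hF (inv_mem hP), inv_inv, adjt_eq_inv hF hP,
    ← mul_assoc]
  rfl

theorem trace_emb (e : Fin 6 ≃ Fin 2 × Fin 3) (P : GL (Fin 6) F) (X : Blk F) :
    (emb e P X).trace = (X 0 0).trace + (X 1 1).trace := by
  rw [emb_apply, Matrix.trace_mul_cycle, ← Units.val_mul, inv_mul_cancel, Units.val_one, Matrix.one_mul]
  refine (Equiv.sum_comp e fun i => Matrix.comp _ _ _ _ _ X i i).trans ?_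
  rw [Fintype.sum_prod_type, Fin.sum_univ_two]
  rfl

theorem det_emb_blk (h2 : (2 : F) = 0) (e : Fin 6 ≃ Fin 2 × Fin 3) (P : GL (Fin 6) F)
    (M : Matrix (Fin 2) (Fin 2) (S F)) :
    letI := commRingS h2
    (emb e P (blk F M)).det = M.det.1.det := by
  letI := commRingS h2
  rw [emb_apply, Matrix.det_units_conj, Matrix.det_submatrix_equiv_self]
  exact (Matrix.det_det M (S F).val.toRingHom).symm

theorem det_emb_Jb (e : Fin 6 ≃ Fin 2 × Fin 3) (P : GL (Fin 6) F) : (emb e P (Jb F)).det = 1 := by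
  have h : Matrix.comp _ _ _ _ _ (Jb F) =
      (Matrix.blockDiagonal fun _ : Fin 2 => Cy F).submatrix (Equiv.prodComm _ _) (Equiv.prodComm _ _) := by
    refine Matrix.ext fun ⟨i, k⟩ ⟨j, l⟩ => ?_
    show Jb F i j k l = Matrix.blockDiagonal (fun _ : Fin 2 => Cy F) (k, i) (l, j)
    rw [Matrix.blockDiagonal_apply, Jb, Matrix.diagonal_apply]
    split_ifs <;> rfl
  rw [emb_apply, Matrix.det_units_conj, Matrix.det_submatrix_equiv_self, h, Matrix.det_submatrix_equiv_self,
    Matrix.det_blockDiagonal]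
  simp [det_Cy]

variable [Fintype F] (hF : Fintype.card F = 2 ^ 2) (h2 : (2 : F) = 0) (e : Fin 6 ≃ Fin 2 × Fin 3)
  (P : GL (Fin 6) F)

/-- The normal subgroup with traces in the prime field. -/
noncomputable def core : Set (GL (Fin 6) F) :=
  letI := commRingS h2
  {g | g ∈ Cfsg.GU 6 F 2 ∧ ∃ (M : Matrix (Fin 2) (Fin 2) (S F)) (j : ℕ),
    M.det = 1 ∧ g.val = emb e P (blk F M * Jb F ^ j)}

theorem core_mul {a b : GL (Fin 6) F} (ha : a ∈ core h2 e P) (hb : b ∈ core h2 e P) : a * b ∈ core h2 e P := by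
  letI := commRingS h2
  obtain ⟨haU, M, j, hM, hav⟩ := ha
  obtain ⟨hbU, N, l, hN, hbv⟩ := hb
  refine ⟨mul_mem haU hbU, M * ((shift h2).toRingHom.mapMatrix)^[j] N, j + l, ?_, ?_⟩
  · rw [Matrix.det_mul, det_iterate h2, hM, hN, one_mul, iterate_map_one]
  · rw [Units.val_mul, hav, hbv, ← map_mul, mul_assoc, ← mul_assoc (Jb F ^ j), Jb_pow_blk h2, map_mul (blk F),
      pow_add]
    simp only [mul_assoc]

/-- The normal subgroup. -/
noncomputable def coreGroup : Subgroup (GL (Fin 6) F) where
  carrier := core h2 e P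
  one_mem' := by
    letI := commRingS h2
    exact ⟨one_mem _, 1, 0, Matrix.det_one, by simp⟩
  mul_mem' ha hb := core_mul h2 e P ha hb
  inv_mem' {a} ha := by
    letI := commRingS h2
    rw [inv_eq_of_mul_eq_one_right (show a * a ^ (orderOf a - 1) = 1 by
      rw [← pow_succ', Nat.sub_add_cancel (orderOf_pos a), pow_orderOf_eq_one])]
    induction orderOf a - 1 with
    | zero => exact ⟨by simp, 1, 0, Matrix.det_one, by simp⟩
    | succ k ih => rw [pow_succ]; exact core_mul h2 e P ih ha

include hF in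
theorem unitary_of_core (hP : P ∈ Cfsg.GU 6 F 2) {g : GL (Fin 6) F} (hg : g ∈ Cfsg.GU 6 F 2)
    {M : Matrix (Fin 2) (Fin 2) (S F)} {j : ℕ} (hv : g.val = emb e P (blk F M * Jb F ^ j)) :
    M.transpose.map (star3 hF h2) * M = 1 := by
  letI := commRingS h2
  have h := (mem_GU_iff hF).1 hg
  rw [hv, adjt_emb hF e hP, ← map_mul, adj2_mul] at h
  have h1 : adj2 hF (Jb F ^ j) * adj2 hF (blk F M) * (blk F M * Jb F ^ j) = 1 :=
    (emb e P).injective (by rw [map_one]; exact h)
  have hJ := mul_eq_one_comm.1 (adj2_Jb_pow (F := F) hF j)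
  have h3 : adj2 hF (blk F M) * blk F M = 1 :=
    calc adj2 hF (blk F M) * blk F M
        = Jb F ^ j * (adj2 hF (Jb F ^ j) * adj2 hF (blk F M) * (blk F M * Jb F ^ j)) * adj2 hF (Jb F ^ j) := by
          simp only [mul_assoc]
          rw [hJ, mul_one, ← mul_assoc (Jb F ^ j), hJ, one_mul]
      _ = 1 := by rw [h1, mul_one, hJ]
  refine blk_injective ?_
  rw [map_mul, map_one, ← adj2_blk hF h2]
  exact h3

include hF in
theorem trace_core (hP : P ∈ Cfsg.GU 6 F 2) {g : GL (Fin 6) F} (hg : g ∈ coreGroup h2 e P) :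
    g.val.trace ^ 2 = g.val.trace := by
  letI := commRingS h2
  obtain ⟨hgU, M, j, hM, hv⟩ := hg
  have hu := unitary_of_core hF h2 e P hP hgU hv
  rw [hv, trace_emb, Jb, Matrix.diagonal_pow, Matrix.mul_diagonal, Matrix.mul_diagonal, blk_apply, blk_apply,
    Pi.pow_apply, Pi.pow_apply]
  have hmod : Cy F ^ j = Cy F ^ (j % 3) := by
    conv_lhs => rw [← Nat.mod_add_div j 3, pow_add, pow_mul]
    rw [show Cy F ^ 3 = 1 by rw [pow_succ, sq, Cy_cube], one_pow, mul_one]
  rw [hmod]
  rcases (show j % 3 = 0 ∨ j % 3 = 1 ∨ j % 3 = 2 by omega) with h | h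
  · rw [h, pow_zero, mul_one, mul_one]
    have hadj : M.transpose.map (star3 hF h2) = M.adjugate := by
      have h1 : M * M.adjugate = 1 := by rw [Matrix.mul_adjugate, hM, one_smul]
      calc _ = M.transpose.map (star3 hF h2) * (M * M.adjugate) := by rw [h1, mul_one]
        _ = _ := by rw [← mul_assoc, hu, one_mul]
    have h11 : star3 hF h2 (M 0 0) = M 1 1 := by
      have h1 := congrFun (congrFun hadj 0) 0
      rwa [Matrix.adjugate_fin_two] at h1
    have htr : (M 1 1).1.trace = (M 0 0).1.trace ^ 2 := by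
      rw [← h11]
      show (adjt hF (M 0 0).1).trace = _
      rw [adjt, Matrix.trace_transpose, ← sigmaE_apply hF]
      exact (AddMonoidHom.map_trace (sigmaE hF).toAddMonoidHom _).symm
    rw [htr]
    set s := (M 0 0).1.trace
    have h4 : s ^ 4 = s := by
      have := FiniteField.pow_card s
      rwa [hF] at this
    linear_combination h4 + s ^ 3 * h2
  · rw [trace_mul_Cy h2 _ h, trace_mul_Cy h2 _ h]
    ring

set_option maxHeartbeats 2000000 in
include hF in
/-- The semilinear groups normalise the core. -/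
theorem normalises (hP : P ∈ Cfsg.GU 6 F 2) {h : GL (Fin 6) F} (hh : h ∈ sunit 6 F 2) {i : ℕ} (hi : i < 3)
    (hB : h.val * emb e P (Matrix.diagonal fun _ => B0 F) =
      emb e P ((Matrix.diagonal fun _ => B0 F) ^ 2 ^ i) * h.val)
    {a : GL (Fin 6) F} (ha : a ∈ coreGroup h2 e P) : h * a * h⁻¹ ∈ coreGroup h2 e P := by
  letI := commRingS h2
  set Bk : Blk F := Matrix.diagonal fun _ => B0 F with hBk
  obtain ⟨Y, hY⟩ := (emb e P).surjective h.val
  have hYB : SemiconjBy Y Bk (Bk ^ 2 ^ i) := (emb e P).injective (by rw [map_mul, map_mul, hY]; exact hB)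
  have hJB : SemiconjBy (Jb F) Bk (Bk ^ 2) := by
    show Jb F * Bk = Bk ^ 2 * Jb F
    rw [hBk, sq, Jb, Matrix.diagonal_mul_diagonal, Matrix.diagonal_mul_diagonal, Matrix.diagonal_mul_diagonal]
    congr 1
    funext _
    rw [← Cy_B0 h2]
    simp only [mul_assoc]
    rw [← mul_assoc (Cy F) (Cy F) (Cy F), Cy_cube, mul_one]
  have hJpow : ∀ k, SemiconjBy (Jb F ^ k) Bk (Bk ^ 2 ^ k) := by
    intro k
    induction k with
    | zero => simp
    | succ k ih =>
      rw [pow_succ', pow_succ', pow_mul]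
      exact (hJB.pow_right (2 ^ k)).mul_left ih
  have hB8 : Bk ^ 8 = Bk := by
    rw [hBk, Matrix.diagonal_pow]
    congr 1
    funext _
    show B0 F ^ 8 = B0 F
    have h7 := congrArg Subtype.val (beta_seven h2)
    rw [SubmonoidClass.coe_pow] at h7
    rw [pow_succ, show B0 F ^ 7 = 1 from h7, one_mul]
  set Z := Y * Jb F ^ (3 - i) with hZ
  have hZB : SemiconjBy Z Bk Bk := by
    have h1 := (hYB.pow_right (2 ^ (3 - i))).mul_left (hJpow (3 - i))
    rwa [← pow_mul, ← pow_add, show i + (3 - i) = 3 by omega, show (2 : ℕ) ^ 3 = 8 from rfl, hB8] at h1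
  obtain ⟨M, hM⟩ : ∃ M, blk F M = Z := by
    have hmem : ∀ r s, Z r s ∈ S F := fun r s => by
      have h1 : (Z * Bk) r s = (Bk * Z) r s := by rw [hZB.eq]
      rw [hBk, Matrix.mul_diagonal, Matrix.diagonal_mul] at h1
      exact mem_S.2 h1.symm
    exact ⟨Matrix.of fun r s => ⟨Z r s, hmem r s⟩, rfl⟩
  have hYv : h.val = emb e P (blk F M * Jb F ^ i) := by
    rw [hM, hZ, mul_assoc, ← pow_add, show 3 - i + i = 3 by omega, Jb_cube, mul_one, hY]
  have hu := unitary_of_core hF h2 e P hP hh.1 hYv
  -- the determinant over the field is fixed by the automorphism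
  set δ := M.det with hδ
  have hstar : star3 hF h2 δ * δ = 1 := by
    have h1 := congrArg Matrix.det hu
    rw [Matrix.det_mul, Matrix.det_one] at h1
    rwa [show (M.transpose.map (star3 hF h2)).det = star3 hF h2 δ by
      rw [← RingHom.mapMatrix_apply, ← RingHom.map_det, Matrix.det_transpose]] at h1
  have hdet : δ.1.det = 1 := by
    have h0 : h.val.det = 1 := by
      rw [← Matrix.GeneralLinearGroup.val_det_apply,
        show Matrix.GeneralLinearGroup.det h = 1 from (Subgroup.mem_inf.1 hh).2, Units.val_one]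
    rw [hYv, map_mul, map_pow, Matrix.det_mul, Matrix.det_pow, det_emb_blk h2, det_emb_Jb, one_pow, mul_one] at h0
    exact h0
  have hnorm : δ * shift h2 δ * shift h2 (shift h2 δ) = 1 := by
    refine Subtype.ext ((norm_eq h2 δ).trans ?_)
    rw [hdet, one_smul]
    rfl
  have hcard : Nat.card F = 4 := by rw [Nat.card_eq_fintype_card, hF]; rfl
  have h44 : shift h2 δ = δ ^ 16 := by
    rw [show (16 : ℕ) = 4 * 4 from rfl, pow_mul, ← shift_shift hcard h2, ← shift_shift hcard h2, shift_cube]
  have h9 : δ ^ 9 = 1 := by rw [pow_succ, ← star3_eq hF h2, hstar]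
  have h21 : δ ^ 21 = 1 := by
    rw [shift_shift hcard h2, h44] at hnorm
    linear_combination hnorm
  have h3 : δ ^ 3 = 1 := by linear_combination h21 - (δ ^ 12 + δ ^ 3) * h9
  have hfix : shift h2 δ = δ := by
    rw [h44, pow_succ, show δ ^ 15 = (δ ^ 3) ^ 5 by rw [← pow_mul], h3, one_pow, one_mul]
  obtain ⟨haU, A, j, hA, hav⟩ := ha
  set R := ((shift h2).toRingHom.mapMatrix)^[j] (M.transpose.map (star3 hF h2))
  set M' := ((shift h2).toRingHom.mapMatrix)^[j] M
  have hRM : R * M' = 1 := by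
    rw [← iterate_map_mul, hu, iterate_map_one]
  have hshift : ∀ k x, shift h2 x = x → (shift h2)^[k] x = x := fun k x hx => Function.iterate_fixed hx k
  refine ⟨mul_mem (mul_mem hh.1 haU) (inv_mem hh.1),
    M * ((shift h2).toRingHom.mapMatrix)^[i] A * R, j, ?_, ?_⟩
  · rw [Matrix.det_mul, Matrix.det_mul, det_iterate h2, det_iterate h2, hA, iterate_map_one, mul_one,
      show (M.transpose.map (star3 hF h2)).det = star3 hF h2 δ by
        rw [← RingHom.mapMatrix_apply, ← RingHom.map_det, Matrix.det_transpose],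
      hshift j _ (by rw [star3_eq hF h2, map_pow, hfix]), ← hδ, mul_comm, hstar]
  · refine h.isUnit.mul_right_cancel ?_
    rw [← Units.val_mul, inv_mul_cancel_right, Units.val_mul, hYv, hav, ← map_mul, ← map_mul]
    congr 1
    calc blk F M * Jb F ^ i * (blk F A * Jb F ^ j)
        = blk F (M * ((shift h2).toRingHom.mapMatrix)^[i] A) * (Jb F ^ j * Jb F ^ i) := by
          rw [mul_assoc, ← mul_assoc (Jb F ^ i), Jb_pow_blk h2, map_mul (blk F)]
          simp only [mul_assoc, ← pow_add, add_comm i j]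
      _ = blk F (M * ((shift h2).toRingHom.mapMatrix)^[i] A * (R * M')) * (Jb F ^ j * Jb F ^ i) := by
          rw [hRM, mul_one]
      _ = _ := by
          rw [← mul_assoc _ R M', map_mul (blk F) _ M', mul_assoc (blk F _) (Jb F ^ j), ← mul_assoc (Jb F ^ j),
            Jb_pow_blk h2]
          simp only [mul_assoc]
          rfl

include hF in
/-- The core is absolutely irreducible. -/
theorem absIrr_core (hP : P ∈ Cfsg.GU 6 F 2) : ActsAbsolutelyIrreducibly (matrixSet (coreGroup h2 e P)) := by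
  letI := commRingS h2
  refine AschGen.absIrr_of_adj_top (eq_top_iff.2 fun X _ => ?_)
  obtain ⟨X, rfl⟩ := (emb e P).surjective X
  set T := (AschGen.adj (coreGroup h2 e P)).comap (emb e P).toAlgHom with hT
  suffices htop : T = ⊤ from show X ∈ T from htop ▸ Algebra.mem_top
  have hadjJ : ∀ j, ∀ M : Matrix (Fin 2) (Fin 2) (S F), M.transpose.map (star3 hF h2) * M = 1 → M.det = 1 →
      blk F M * Jb F ^ j ∈ T := by
    intro j M hu hM
    set Q := emb e P (blk F M * Jb F ^ j)
    have hQ : adjt hF Q * Q = 1 := by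
      rw [adjt_emb hF e hP, ← map_mul, adj2_mul, adj2_blk hF h2, mul_assoc,
        ← mul_assoc (blk F (M.transpose.map (star3 hF h2))), ← map_mul, hu, map_one, one_mul, adj2_Jb_pow, map_one]
    let g : GL (Fin 6) F := ⟨Q, adjt hF Q, mul_eq_one_comm.1 hQ, hQ⟩
    exact Algebra.subset_adjoin ⟨g, ⟨(mem_GU_iff hF).2 hQ, M, j, hM, rfl⟩, rfl⟩
  have hblk : ∀ M : Matrix (Fin 2) (Fin 2) (S F), M.transpose.map (star3 hF h2) * M = 1 → M.det = 1 →
      blk F M ∈ T := fun M h h' => by simpa using hadjJ 0 M h h'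
  obtain ⟨w, hw3, hw1, hw⟩ := exists_omega hF
  have h2S : ∀ x : S F, x + x = 0 := two_S h2
  have hdiag : blk F !![w • (1 : S F), 0; 0, w ^ 2 • 1] ∈ T := by
    refine hblk _ ?_ ?_
    · refine Matrix.ext fun r s => ?_
      fin_cases r <;> fin_cases s <;>
        simp [Matrix.mul_apply, Fin.sum_univ_two, star3_smul, sigmaE_apply, smul_smul] <;>
        · conv_rhs => rw [← one_smul F (1 : S F)]
          congr 1
          first
            | linear_combination hw3
            | linear_combination (w ^ 3 + 1) * hw3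
    · rw [Matrix.det_fin_two]
      simp [smul_smul]
      conv_rhs => rw [← one_smul F (1 : S F)]
      congr 1
      linear_combination hw3
  have hswap : blk F !![(0 : S F), 1; 1, 0] ∈ T := by
    refine hblk _ ?_ ?_
    · refine Matrix.ext fun r s => ?_
      fin_cases r <;> fin_cases s <;> simp [Matrix.mul_apply, Fin.sum_univ_two]
    · rw [Matrix.det_fin_two]
      simp
      linear_combination -(h2S 1)
  have hmix : blk F !![beta F, 1 + beta F; 1 + beta F, beta F] ∈ T := by
    refine hblk _ ?_ ?_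
    · refine Matrix.ext fun r s => ?_
      fin_cases r <;> fin_cases s <;> simp [Matrix.mul_apply, Fin.sum_univ_two, star3_beta]
      · linear_combination h2S (beta F * beta F + beta F)
      · linear_combination h2S (beta F * (1 + beta F))
      · linear_combination h2S (beta F * (1 + beta F))
      · linear_combination h2S (beta F * beta F + beta F)
    · rw [Matrix.det_fin_two]
      simp
      linear_combination -(h2S (1 + beta F))
  let dg : Matrix (Fin 3) (Fin 3) F →ₐ[F] Blk F :=
    { toFun := fun x => Matrix.diagonal fun _ => x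
      map_one' := Matrix.diagonal_one
      map_mul' := fun x y => (Matrix.diagonal_mul_diagonal _ _).symm
      map_zero' := Matrix.diagonal_zero
      map_add' := fun x y => (Matrix.diagonal_add _ _).symm
      commutes' := fun c => rfl }
  have hE : Matrix.single (0 : Fin 2) (0 : Fin 2) (1 : Matrix (Fin 3) (Fin 3) F) ∈ T := by
    have h1 := sub_mem (one_mem T) (add_mem hdiag (T.smul_mem (one_mem T) w))
    convert h1 using 1
    refine Matrix.ext fun r s => ?_
    have hw' : w + w ^ 2 = 1 := by linear_combination hw - h2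
    fin_cases r <;> fin_cases s <;> simp [blk_apply, Matrix.single_apply, Matrix.one_apply]
    · rw [← add_smul, show w + w = 0 by linear_combination w * h2, zero_smul, sub_zero]
    · rw [← add_smul, show w ^ 2 + w = 1 by linear_combination hw', one_smul, sub_self]
  have hA : T.comap dg = ⊤ := by
    have hJ : Cy F ∈ T.comap dg := by
      have h1 := hadjJ 1 1 (by rw [Matrix.transpose_one, mul_one]; exact (star3 hF h2).mapMatrix.map_one)
        Matrix.det_one
      rw [map_one, pow_one, one_mul] at h1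
      exact h1
    have hB : B0 F ∈ T.comap dg := by
      have h1 := mul_mem (mul_mem hE hmix) hE
      have h3 := add_mem h1 (mul_mem (mul_mem hswap h1) hswap)
      show (Matrix.diagonal fun _ => B0 F) ∈ T
      convert h3 using 1
      refine Matrix.ext fun r s => ?_
      fin_cases r <;> fin_cases s <;>
        simp [blk_apply, beta, Matrix.single_apply, Matrix.mul_apply, Fin.sum_univ_two, Matrix.diagonal]
    have hcorner : ∀ r s : Fin 3, Matrix.single r s (1 : F) ∈ T.comap dg := fun r s => by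
      have hA' := add_mem (add_mem hB hJ) (mul_mem hJ hJ)
      rw [single_eq, corner_idem h2]
      exact mul_mem (mul_mem (pow_mem hJ _) (add_mem (add_mem (one_mem _) hA') (mul_mem hA' hA'))) (pow_mem hJ _)
    rw [eq_top_iff]
    intro M _
    rw [Matrix.matrix_eq_sum_single M]
    refine sum_mem fun r _ => sum_mem fun s _ => ?_
    rw [← mul_one (M r s), ← smul_eq_mul, ← Matrix.smul_single]
    exact (T.comap dg).smul_mem (hcorner r s) _
  have hsingle : ∀ r s : Fin 2, Matrix.single r s (1 : Matrix (Fin 3) (Fin 3) F) ∈ T := by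
    intro r s
    fin_cases r <;> fin_cases s
    · exact hE
    · convert mul_mem hE hswap using 1
      refine Matrix.ext fun a b => ?_
      fin_cases a <;> fin_cases b <;> simp [blk_apply, Matrix.single_apply, Matrix.mul_apply, Fin.sum_univ_two]
    · convert mul_mem hswap hE using 1
      refine Matrix.ext fun a b => ?_
      fin_cases a <;> fin_cases b <;> simp [blk_apply, Matrix.single_apply, Matrix.mul_apply, Fin.sum_univ_two]
    · convert mul_mem (mul_mem hswap hE) hswap using 1
      refine Matrix.ext fun a b => ?_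
      fin_cases a <;> fin_cases b <;> simp [blk_apply, Matrix.single_apply, Matrix.mul_apply, Fin.sum_univ_two]
  rw [eq_top_iff]
  intro M _
  rw [Matrix.matrix_eq_sum_single M]
  refine sum_mem fun r _ => sum_mem fun s _ => ?_
  have h1 := mul_mem (hsingle r s) (show dg (M r s) ∈ T from (show M r s ∈ T.comap dg from hA ▸ Algebra.mem_top))
  convert h1 using 1
  refine Matrix.ext fun a b => ?_
  show Matrix.single r s (M r s) a b =
    ((Matrix.single r s (1 : Matrix (Fin 3) (Fin 3) F) : Blk F) * (Matrix.diagonal fun _ => M r s : Blk F) : Blk F) a b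
  rw [Matrix.mul_diagonal, Matrix.single_apply, Matrix.single_apply]
  split_ifs <;> simp

end SixField

end Cfsg.Lib.Linear.AschU
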