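import Cfsg.Agent.Lib.Linear.AschU.SixField
import Cfsg.Agent.Lib.Linear.AschU.General

/-!
# The normaliser of a field of degree three lies in a symplectic subfield group over four elements
-/

set_option autoImplicit false
set_option linter.unusedSectionVars false
set_option linter.style.haveILetI false

namespace Cfsg.Lib.Linear.AschU

open Cfsg.Geo Cfsg.Lib.Linear Cfsg.Lib.Linear.Herm Cfsg.Lib.Linear.Asch
open scoped Matrix MatrixGroups

variable {F : Type*} [Field F] [Fintype F]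

/-- The roots of `X³ + X² + 1` in characteristic two. -/
theorem cubic_roots {A : Type*} [CommRing A] [IsDomain A] (h2 : (2 : A) = 0) {b y : A}
    (hb : b * b * b = b * b + 1) (hy : y * y * y = y * y + 1) : y = b ∨ y = b ^ 2 ∨ y = b ^ 4 := by
  have h4 : b ^ 4 = b ^ 2 + b + 1 := by linear_combination (b + 1) * hb
  have h5 : b ^ 5 = b + 1 := by linear_combination b * h4 + hb + b ^ 2 * h2
  have h6 : b ^ 6 = b ^ 2 + b := by linear_combination b * h5
  have h7 : b ^ 7 = 1 := by linear_combination b * h6 + hb + b ^ 2 * h2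
  have h : (y - b) * (y - b ^ 2) * (y - b ^ 4) = 0 := by
    linear_combination hy - y ^ 2 * h4 + y * h5 + y * h6 + y * hb - h7 +
      (-(b ^ 2 + b) * y ^ 2 + (b ^ 2 + b + 1) * y) * h2
  rcases mul_eq_zero.1 h with h | h
  · rcases mul_eq_zero.1 h with h | h
    · exact Or.inl (sub_eq_zero.1 h)
    · exact Or.inr (Or.inl (sub_eq_zero.1 h))
  · exact Or.inr (Or.inr (sub_eq_zero.1 h))

/-- A self-adjoint generator of the field of eight elements inside a field of matrices. -/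
theorem exists_octic (hF : Fintype.card F = 2 ^ 2) {K : Subalgebra F (Matrix (Fin 6) (Fin 6) F)}
    (hK : IsFieldSubalgebra 3 K) (hadj : IsAdjointClosedFor (Cfsg.hermForm 6 F 2) K) :
    ∃ B : Matrix (Fin 6) (Fin 6) F, adjt hF B = B ∧ B * B * B = B * B + 1 ∧
      ∀ g ∈ subalgebraNormalizer K, ∃ i < 3, g.val * B = B ^ 2 ^ i * g.val := by
  classical
  haveI : Finite (Matrix (Fin 6) (Fin 6) F) := inferInstanceAs (Finite (Fin 6 → Fin 6 → F))
  have hfield : IsField K :=
    { exists_pair_ne := ⟨0, 1, zero_ne_one⟩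
      mul_comm := fun a b => Subtype.ext (hK.comm a a.2 b b.2)
      mul_inv_cancel := fun {a} ha => by
        obtain ⟨y, hy, e⟩ := hK.inv a a.2 (fun h => ha (Subtype.ext h))
        exact ⟨⟨y, hy⟩, Subtype.ext e⟩ }
  letI : Field K := hfield.toField
  have h2F : (2 : F) = 0 := two_zero hF
  have h2 : (2 : K) = 0 := by
    rw [← one_add_one_eq_two, ← two_smul F (1 : K), h2F, zero_smul]
  have hcard : Nat.card K = 64 := by
    rw [Module.natCard_eq_pow_finrank (K := F) (V := K), hK.finrank_eq, Nat.card_eq_fintype_card, hF]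
    rfl
  haveI : Fact (Nat.Prime 7) := ⟨by norm_num⟩
  obtain ⟨u, hu⟩ := exists_prime_orderOf_dvd_card' (G := Kˣ) 7 (by rw [Nat.card_units, hcard]; norm_num)
  have hy7 : (u : K) ^ 7 = 1 := by
    rw [← Units.val_pow_eq_pow_val, ← hu, pow_orderOf_eq_one, Units.val_one]
  have hy1 : (u : K) ≠ 1 := fun h => by
    rw [Units.val_eq_one] at h
    rw [h, orderOf_one] at hu
    norm_num at hu
  obtain ⟨b, hb⟩ : ∃ b : K, b * b * b = b * b + 1 := by
    set y : K := (↑u : K)
    have h : (y - 1) * ((y ^ 3 + y + 1) * (y ^ 3 + y ^ 2 + 1)) = 0 := by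
      linear_combination hy7 + ((y - 1) * y ^ 3) * h2
    rcases mul_eq_zero.1 h with h | h
    · exact absurd (sub_eq_zero.1 h) hy1
    rcases mul_eq_zero.1 h with h | h
    · exact ⟨y ^ 6, by linear_combination (y ^ 4 * (y ^ 7 + 1) - y ^ 5) * hy7 + (y - y ^ 2 + 1) * h - (y + 1) * h2⟩
    · exact ⟨y, by linear_combination h - (y ^ 2 + 1) * h2⟩
  have hroot : ∀ y ∈ K, y * y * y = y * y + 1 → y = b.1 ∨ y = b.1 ^ 2 ∨ y = b.1 ^ 4 := by
    intro y hy h
    have h1 : (⟨y, hy⟩ : K) * ⟨y, hy⟩ * ⟨y, hy⟩ = ⟨y, hy⟩ * ⟨y, hy⟩ + 1 := Subtype.ext h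
    rcases cubic_roots h2 hb h1 with e | e | e <;> replace e := congrArg Subtype.val e
    · exact Or.inl e
    · exact Or.inr (Or.inl (e.trans (SubmonoidClass.coe_pow _ _)))
    · exact Or.inr (Or.inr (e.trans (SubmonoidClass.coe_pow _ _)))
  have hb' : b.1 * b.1 * b.1 = b.1 * b.1 + 1 := congrArg Subtype.val hb
  have hb7 : b ^ 7 = 1 := by
    linear_combination (b ^ 4 + b ^ 3 + b ^ 2 + 1) * hb + (b ^ 4 + b ^ 2) * h2
  -- it is self-adjoint
  obtain ⟨b', hb'K, hadjb⟩ := hadj b.1 b.2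
  have hadjeq : adjt hF b.1 = b' := by
    refine adjt_injective hF (Matrix.toLin'.injective (LinearMap.ext fun v => ?_))
    rw [Matrix.toLin'_apply, Matrix.toLin'_apply, adjt_adjt]
    by_contra hne
    obtain ⟨x, hx⟩ := ((herm_unitary (n := 6) hF).nondegenerate _ (sub_ne_zero.2 hne)).2
    refine hx ?_
    rw [sub_eq_add_neg, ← neg_one_smul F, (isSesq_of_unitary (herm_unitary (n := 6) hF)).add_left,
      (isSesq_of_unitary (herm_unitary (n := 6) hF)).smul_left, herm_adjt hF (adjt hF b'), adjt_adjt, hadjb]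
    ring
  have hsa : adjt hF b.1 = b.1 := by
    rcases hroot _ (hadjeq ▸ hb'K) (by
      have h := congrArg (adjt hF) hb'
      rw [adjt_mul, adjt_mul, adjt_add, adjt_mul, adjt_one, ← mul_assoc] at h
      exact h) with e | e | e
    · exact e
    all_goals
      exfalso
      have e' := congrArg (adjt hF) e
      rw [adjt_adjt, adjt_pow hF, e, ← pow_mul] at e'
      have e'' : b = b ^ _ := Subtype.ext (e'.trans (SubmonoidClass.coe_pow _ _).symm)
      refine zero_ne_one (α := K) ?_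
      norm_num at e''
    · -- `b ^ 4 = b`
      linear_combination b ^ 4 * e'' + b ^ 5 * hb + hb7
    · -- `b ^ 16 = b`
      linear_combination hb + b * e'' + b ^ 3 * (b ^ 7 + 1) * hb7
  refine ⟨b.1, hsa, hb', fun g hg => ?_⟩
  have hc : g.val * b.1 * (g⁻¹).val ∈ K := (hg b.1).1 b.2
  have hconj := hroot _ hc (by
    have e := congrArg (AschGen.conjA g) hb'
    rwa [map_mul, map_mul, map_add, map_mul, map_one] at e)
  have hback : ∀ m, g.val * b.1 * (g⁻¹).val = b.1 ^ m → g.val * b.1 = b.1 ^ m * g.val := fun m e => by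
    rw [← e, mul_assoc (g.val * b.1), Units.inv_mul, mul_one]
  rcases hconj with e | e | e
  · exact ⟨0, by norm_num, hback _ (by simpa using e)⟩
  · exact ⟨1, by norm_num, hback _ (by simpa using e)⟩
  · exact ⟨2, by norm_num, hback _ (by simpa using e)⟩

/-- The normaliser of such a field lies in a subfield group. -/
theorem field_six_binary (hF : Fintype.card F = 2 ^ 2) {K : Subalgebra F (Matrix (Fin 6) (Fin 6) F)}
    (hK : IsFieldSubalgebra 3 K) (hadj : IsAdjointClosedFor (Cfsg.hermForm 6 F 2) K)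
    {H : Subgroup (GL (Fin 6) F)} (hH : H ≤ sunit 6 F 2) (hle : H ≤ subalgebraNormalizer K) :
    SubfieldAlt 6 2 H := by
  classical
  have hU := herm_unitary (n := 6) hF
  have hf := isSesq_of_unitary hU
  have h2 : (2 : F) = 0 := two_zero hF
  obtain ⟨B, hBsa, hB3, hBn⟩ := exists_octic hF hK hadj
  -- the values of the form along an orbit of the generator
  let T : ℕ → (Fin 6 → F) → (Fin 6 → F) → F := fun m u v => Cfsg.hermForm 6 F 2 (B ^ m *ᵥ u) v
  have hsh : ∀ a c u v, Cfsg.hermForm 6 F 2 (B ^ a *ᵥ u) (B ^ c *ᵥ v) = T (a + c) u v := by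
    intro a c u v
    show _ = Cfsg.hermForm 6 F 2 (B ^ (a + c) *ᵥ u) v
    rw [herm_adjt_right hF, adjt_pow hF, hBsa, Matrix.mulVec_mulVec, ← pow_add, add_comm c a]
  have hrec : ∀ m u v, T (m + 3) u v = T (m + 2) u v + T m u v := by
    intro m u v
    show Cfsg.hermForm 6 F 2 (B ^ (m + 3) *ᵥ u) v =
      Cfsg.hermForm 6 F 2 (B ^ (m + 2) *ᵥ u) v + Cfsg.hermForm 6 F 2 (B ^ m *ᵥ u) v
    rw [show B ^ (m + 3) = B ^ (m + 2) + B ^ m by
      rw [pow_add, pow_add B m 2, pow_succ, sq, hB3, mul_add, mul_one], Matrix.add_mulVec, hf.add_left]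
  have hfix : ∀ m v, T m v v = 0 ∨ T m v v = 1 := by
    intro m v
    rcases eq_or_ne (T m v v) 0 with h | h
    · exact Or.inl h
    refine Or.inr (norm_fixed_eq_one hF h ?_)
    show Cfsg.hermForm 6 F 2 (B ^ m *ᵥ v) v ^ 2 = Cfsg.hermForm 6 F 2 (B ^ m *ᵥ v) v
    rw [← sigmaE_apply hF, ← hU.herm, herm_adjt_right hF, adjt_pow hF, hBsa]
  -- a vector of self-dual type
  have hnormal : ∀ W : Submodule F (Fin 6 → F), W ≠ ⊥ → IsNondegenerateOn (Cfsg.hermForm 6 F 2) W →
      (∀ v ∈ W, B *ᵥ v ∈ W) → ∃ u ∈ W, T 0 u u = 1 ∧ T 1 u u = 1 ∧ T 2 u u = 1 := by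
    intro W h0 hnd hst
    obtain ⟨v, hv, hvv⟩ := exists_aniso hF h0 hnd
    have hmem : ∀ j, B ^ j *ᵥ v ∈ W := fun j => by
      induction j with
      | zero => simpa using hv
      | succ j ih => rw [pow_succ', ← Matrix.mulVec_mulVec]; exact hst _ ih
    have hshift : ∀ j m, T m (B ^ j *ᵥ v) (B ^ j *ᵥ v) = T (m + j + j) v v := fun j m => by
      show Cfsg.hermForm 6 F 2 (B ^ m *ᵥ (B ^ j *ᵥ v)) (B ^ j *ᵥ v) = _
      rw [Matrix.mulVec_mulVec, ← pow_add, hsh]
    have t0 : T 0 v v = 1 := (hfix 0 v).resolve_left (by simpa [T] using hvv)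
    have t3 := hrec 0 v v
    have t4 := hrec 1 v v
    have t5 := hrec 2 v v
    have t6 := hrec 3 v v
    have t7 := hrec 4 v v
    have t8 := hrec 5 v v
    have t9 := hrec 6 v v
    have t10 := hrec 7 v v
    have t11 := hrec 8 v v
    have t12 := hrec 9 v v
    have t13 := hrec 10 v v
    have t14 := hrec 11 v v
    norm_num at t3 t4 t5 t6 t7 t8 t9 t10 t11 t12 t13 t14
    rcases hfix 1 v with t1 | t1 <;> rcases hfix 2 v with t2 | t2
    · refine ⟨_, hmem 5, ?_, ?_, ?_⟩ <;> rw [hshift] <;> norm_num <;> grind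
    · refine ⟨_, hmem 6, ?_, ?_, ?_⟩ <;> rw [hshift] <;> norm_num <;> grind
    · refine ⟨_, hmem 3, ?_, ?_, ?_⟩ <;> rw [hshift] <;> norm_num <;> grind
    · exact ⟨v, hv, t0, t1, t2⟩
  obtain ⟨u₁, -, a0, a1, a2⟩ := hnormal ⊤
    (fun h => by
      have := congrArg (fun W : Submodule F (Fin 6 → F) => Module.finrank F W) h
      simp at this)
    (fun w _ hw0 => ⟨by
        obtain ⟨x, hx⟩ := (hU.nondegenerate w hw0).1
        exact ⟨x, Submodule.mem_top, hx⟩, by
        obtain ⟨x, hx⟩ := (hU.nondegenerate w hw0).2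
        exact ⟨x, Submodule.mem_top, hx⟩⟩)
    (fun v _ => Submodule.mem_top)
  have horth : ∀ u, T 0 u u = 1 → T 1 u u = 1 → T 2 u u = 1 → ∀ k l : Fin 3,
      Cfsg.hermForm 6 F 2 (B ^ 2 ^ k.val *ᵥ u) (B ^ 2 ^ l.val *ᵥ u) = if k = l then 1 else 0 := by
    intro u b0 b1 b2 k l
    have t3 := hrec 0 u u
    have t4 := hrec 1 u u
    have t5 := hrec 2 u u
    have t6 := hrec 3 u u
    have t7 := hrec 4 u u
    have t8 := hrec 5 u u
    norm_num at t3 t4 t5 t6 t7 t8
    rw [hsh]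
    fin_cases k <;> fin_cases l <;> norm_num <;> grind
  set ee : Fin 3 → (Fin 6 → F) := fun k => B ^ 2 ^ k.val *ᵥ u₁ with hee
  set W : Submodule F (Fin 6 → F) :=
    { carrier := {v | ∀ m, T m v u₁ = 0}
      zero_mem' := fun m => by
        show Cfsg.hermForm 6 F 2 (B ^ m *ᵥ 0) u₁ = 0
        rw [Matrix.mulVec_zero, ← zero_smul F (0 : Fin 6 → F), hf.smul_left, zero_mul]
      add_mem' := fun {x y} hx hy m => by
        show Cfsg.hermForm 6 F 2 (B ^ m *ᵥ (x + y)) u₁ = 0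
        rw [Matrix.mulVec_add, hf.add_left, show Cfsg.hermForm 6 F 2 (B ^ m *ᵥ x) u₁ = 0 from hx m,
          show Cfsg.hermForm 6 F 2 (B ^ m *ᵥ y) u₁ = 0 from hy m, add_zero]
      smul_mem' := fun c x hx m => by
        show Cfsg.hermForm 6 F 2 (B ^ m *ᵥ (c • x)) u₁ = 0
        rw [Matrix.mulVec_smul, hf.smul_left, show Cfsg.hermForm 6 F 2 (B ^ m *ᵥ x) u₁ = 0 from hx m, mul_zero] }
    with hW
  -- projection to the orthogonal complement
  have hproj : ∀ x, x - ∑ k, Cfsg.hermForm 6 F 2 x (ee k) • ee k ∈ W := by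
    intro x
    set y := x - ∑ k, Cfsg.hermForm 6 F 2 x (ee k) • ee k with hy
    have hye : ∀ l : Fin 3, T (2 ^ l.val) y u₁ = 0 := fun l => by
      show Cfsg.hermForm 6 F 2 (B ^ (2 ^ l.val) *ᵥ y) u₁ = 0
      rw [herm_adjt hF, adjt_pow hF, hBsa, hy, sub_eq_add_neg, ← neg_one_smul F, hf.add_left, hf.smul_left,
        Fin.sum_univ_three, hf.add_left, hf.add_left, hf.smul_left, hf.smul_left, hf.smul_left,
        horth u₁ a0 a1 a2 0 l, horth u₁ a0 a1 a2 1 l, horth u₁ a0 a1 a2 2 l]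
      fin_cases l <;> simp [hee]
    have h1 : T 1 y u₁ = 0 := hye 0
    have h2' : T 2 y u₁ = 0 := hye 1
    have h4 : T 4 y u₁ = 0 := hye 2
    have t3 := hrec 0 y u₁
    have t4 := hrec 1 y u₁
    norm_num at t3 t4
    have hall : ∀ m, T m y u₁ = 0 ∧ T (m + 1) y u₁ = 0 ∧ T (m + 2) y u₁ = 0 := by
      intro m
      induction m with
      | zero => exact ⟨by grind, h1, h2'⟩
      | succ m ih => exact ⟨ih.2.1, ih.2.2, by rw [show m + 1 + 2 = m + 3 by omega, hrec]; grind⟩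
    exact fun m => (hall m).1
  have hW0 : W ≠ ⊥ := fun h => by
    have hle' : (⊤ : Submodule F (Fin 6 → F)) ≤ Submodule.span F (Set.range ee) := fun x _ => by
      have h1 := hproj x
      rw [h, Submodule.mem_bot, sub_eq_zero] at h1
      rw [h1]
      exact Submodule.sum_mem _ fun k _ => Submodule.smul_mem _ _ (Submodule.subset_span ⟨k, rfl⟩)
    have h1 := (Submodule.finrank_mono hle').trans (finrank_range_le_card ee)
    rw [finrank_top, Module.finrank_fin_fun, Fintype.card_fin] at h1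
    omega
  have hperp : ∀ w ∈ W, ∀ k, Cfsg.hermForm 6 F 2 w (ee k) = 0 := fun w hw k => by
    rw [hee, herm_adjt_right hF, adjt_pow hF, hBsa]
    exact hw _
  have hperp' : ∀ w ∈ W, ∀ k, Cfsg.hermForm 6 F 2 (ee k) w = 0 := fun w hw k => by
    rw [hU.herm, hperp w hw k, map_zero]
  have hWnd : IsNondegenerateOn (Cfsg.hermForm 6 F 2) W := by
    intro w hw hw0
    have key : ∃ x ∈ W, Cfsg.hermForm 6 F 2 x w ≠ 0 := by
      obtain ⟨x, hx⟩ := (hU.nondegenerate w hw0).1
      refine ⟨_, hproj x, ?_⟩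
      rw [sub_eq_add_neg, ← neg_one_smul F, hf.add_left, hf.smul_left, Fin.sum_univ_three, hf.add_left,
        hf.add_left, hf.smul_left, hf.smul_left, hf.smul_left, hperp' w hw, hperp' w hw, hperp' w hw]
      simpa using hx
    obtain ⟨x, hx, hxw⟩ := key
    exact ⟨⟨x, hx, hxw⟩, ⟨x, hx, fun h => hxw (by rw [hU.herm, h, map_zero])⟩⟩
  obtain ⟨u₂, hu₂, c0, c1, c2⟩ := hnormal W hW0 hWnd fun v hv m => by
    show Cfsg.hermForm 6 F 2 (B ^ m *ᵥ (B *ᵥ v)) u₁ = 0
    rw [Matrix.mulVec_mulVec, ← pow_succ]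
    exact hv _
  -- the frame
  let e : Fin 6 ≃ Fin 2 × Fin 3 := (finProdFinEquiv : Fin 2 × Fin 3 ≃ Fin (2 * 3)).symm
  let col : Fin 2 × Fin 3 → (Fin 6 → F) := fun s => B ^ 2 ^ s.2.val *ᵥ (![u₁, u₂] s.1)
  let P0 : Matrix (Fin 6) (Fin 6) F := Matrix.of fun r c => col (e c) r
  have hon : ∀ s t, Cfsg.hermForm 6 F 2 (col s) (col t) = if s = t then 1 else 0 := by
    rintro ⟨i, k⟩ ⟨j, l⟩
    fin_cases i <;> fin_cases j
    · simpa [col, Prod.ext_iff] using horth u₁ a0 a1 a2 k l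
    · have : Cfsg.hermForm 6 F 2 (B ^ 2 ^ k.val *ᵥ u₁) (B ^ 2 ^ l.val *ᵥ u₂) = 0 := by
        rw [hU.herm, hsh, show T _ u₂ u₁ = 0 from hu₂ _, map_zero]
      simpa [col, Prod.ext_iff] using this
    · have : Cfsg.hermForm 6 F 2 (B ^ 2 ^ k.val *ᵥ u₂) (B ^ 2 ^ l.val *ᵥ u₁) = 0 := by
        rw [hsh]
        exact hu₂ _
      simpa [col, Prod.ext_iff] using this
    · simpa [col, Prod.ext_iff] using horth u₂ c0 c1 c2 k l
  have hP0 : adjt hF P0 * P0 = 1 := by
    refine Matrix.ext fun i j => ?_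
    have h1 : Cfsg.hermForm 6 F 2 (col (e j)) (col (e i)) = if i = j then 1 else 0 := by
      rw [hon]
      simp [eq_comm]
    rw [Matrix.one_apply, ← h1]
    simp only [Matrix.mul_apply, adjt_apply, P0, Matrix.of_apply, Cfsg.hermForm]
    exact Finset.sum_congr rfl fun l _ => mul_comm _ _
  let P : GL (Fin 6) F := ⟨P0, adjt hF P0, mul_eq_one_comm.1 hP0, hP0⟩
  have hPU : P ∈ Cfsg.GU 6 F 2 := (mem_GU_iff hF).2 hP0
  have hBP : B * P0 = P0 * (Matrix.comp (Fin 2) (Fin 2) (Fin 3) (Fin 3) F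
      (Matrix.diagonal fun _ => SixField.B0 F)).submatrix e e := by
    have h3 : B ^ 3 = B ^ 2 + 1 := by rw [pow_succ, sq, hB3]
    have h4 : B ^ 4 = B ^ 2 + B + 1 := by
      rw [pow_succ, h3, add_mul, one_mul, ← pow_succ, h3]
      abel
    have h34 : B ^ 3 = B + B ^ 4 := by
      rw [h3, h4, show B + (B ^ 2 + B + 1) = (2 : F) • B + (B ^ 2 + 1) by rw [two_smul]; abel, h2, zero_smul,
        zero_add]
    have h5 : B ^ 5 = B ^ 2 + B ^ 4 := by
      rw [h4, show B ^ 2 + (B ^ 2 + B + 1) = (2 : F) • B ^ 2 + (B + 1) by rw [two_smul]; abel, h2, zero_smul,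
        zero_add, pow_succ, h4, add_mul, add_mul, one_mul, ← pow_succ, h3, ← sq,
        show B ^ 2 + 1 + B ^ 2 + B = (2 : F) • B ^ 2 + (B + 1) by rw [two_smul]; abel, h2, zero_smul, zero_add]
    refine Matrix.ext fun r c => ?_
    have hl : (B * P0) r c = (B *ᵥ col (e c)) r := rfl
    have hr : (P0 * (Matrix.comp (Fin 2) (Fin 2) (Fin 3) (Fin 3) F
        (Matrix.diagonal fun _ => SixField.B0 F)).submatrix e e) r c =
        ∑ s : Fin 2 × Fin 3, col s r * (Matrix.comp (Fin 2) (Fin 2) (Fin 3) (Fin 3) F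
          (Matrix.diagonal fun _ => SixField.B0 F)) s (e c) := by
      rw [← Equiv.sum_comp e]; rfl
    rw [hl, hr, Fintype.sum_prod_type, Fin.sum_univ_two, Fin.sum_univ_three, Fin.sum_univ_three]
    obtain ⟨i, k⟩ := e c
    simp only [col, Matrix.mulVec_mulVec, ← pow_succ']
    fin_cases i <;> fin_cases k <;>
      simp [Matrix.comp_apply, Matrix.diagonal, SixField.B0, h34, h5, Matrix.add_mulVec]
  have hBk : SixField.emb e P (Matrix.diagonal fun _ => SixField.B0 F) = B := by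
    rw [SixField.emb_apply, show P.val = P0 from rfl, ← hBP, mul_assoc, show P0 = P.val from rfl, Units.mul_inv,
      mul_one]
  have hG : ∀ g ∈ SixField.coreGroup h2 e P, g ∈ Cfsg.GU 6 F 2 := fun g hg => hg.1
  have habs := SixField.absIrr_core hF h2 e P hPU
  set F₀ : Subfield F := (frob hF).eqLocusField (RingHom.id F)
  have hne : F₀ ≠ ⊤ := fun h => sigmaE_ne hF (RingEquiv.ext fun x => by
    rw [sigmaE_apply]; exact (mem_fixedField hF x).1 (show x ∈ F₀ from h ▸ Subfield.mem_top x))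
  refine subfieldAlt_of_realisable hF (by norm_num) hne habs hG (fun g hg a ha => ?_)
    (AschSp.realisable_of_trace habs F₀ fun x hx => (mem_fixedField hF _).2 (SixField.trace_core hF h2 e P hPU hx))
  obtain ⟨i, hi, hgB⟩ := hBn g (hle hg)
  refine SixField.normalises hF h2 e P hPU (hH hg) hi ?_ ha
  rw [map_pow, hBk, hgB]

end Cfsg.Lib.Linear.AschU
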