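import Cfsg.Agent.Lib.Linear.AschU.BinaryPlanes

/-!
# Orthonormal frames in six dimensions over the field of four elements

The stabiliser of such a frame is not maximal in the special unitary group: it fixes a set of
isotropic vectors with a larger stabiliser.
-/

set_option autoImplicit false
set_option linter.unusedSectionVars false
set_option linter.style.haveILetI false

namespace Cfsg.Lib.Linear.AschU

open Cfsg.Geo Cfsg.Lib.Linear Cfsg.Lib.Linear.Herm Cfsg.Lib.Linear.Asch
open scoped Matrix MatrixGroups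

namespace SixFrame

/-- Addition in a model of the field of four elements. -/
def addM : Fin 4 → Fin 4 → Fin 4 := ![![0, 1, 2, 3], ![1, 0, 3, 2], ![2, 3, 0, 1], ![3, 2, 1, 0]]

/-- Multiplication in a model of the field of four elements. -/
def mulM : Fin 4 → Fin 4 → Fin 4 := ![![0, 0, 0, 0], ![0, 1, 2, 3], ![0, 2, 3, 1], ![0, 3, 1, 2]]

/-- The distinguished vectors in the model. -/
def PhiM (x : Fin 6 → Fin 4) : Bool :=
  decide ((Finset.univ.filter fun i => x i ≠ 0).card = 2) ||
    decide (mulM (mulM (mulM (x 0) (x 1)) (mulM (x 2) (x 3))) (mulM (x 4) (x 5)) = 1)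

/-- The sum of the coordinates in the model. -/
def sumM (x : Fin 6 → Fin 4) : Fin 4 :=
  addM (addM (addM (x 0) (x 1)) (addM (x 2) (x 3))) (addM (x 4) (x 5))

theorem check : ∀ a b c d e f : Fin 4, PhiM ![a, b, c, d, e, f] = true →
    PhiM (fun i => addM (![a, b, c, d, e, f] i) (sumM ![a, b, c, d, e, f])) = true := by
  decide +kernel

variable {F : Type*} [Field F]

/-- The distinguished vectors. -/
def Phi [DecidableEq F] (v : Fin 6 → F) : Prop :=
  (Finset.univ.filter fun i => v i ≠ 0).card = 2 ∨ ∏ i, v i = 1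

/-- The stabiliser of the distinguished vectors. -/
def phiStab [DecidableEq F] : Subgroup (GL (Fin 6) F) where
  carrier := {g | ∀ v, Phi v ↔ Phi (g.val *ᵥ v)}
  one_mem' v := by simp
  mul_mem' {a b} ha hb v := by
    rw [Units.val_mul, ← Matrix.mulVec_mulVec, hb v, ha]
  inv_mem' {a} ha v := by
    rw [ha ((a⁻¹).val *ᵥ v), mulVec_inv_mulVec]

theorem mem_phiStab [DecidableEq F] [Finite F] {g : GL (Fin 6) F} (h : ∀ v, Phi v → Phi (g.val *ᵥ v)) :
    g ∈ (phiStab : Subgroup (GL (Fin 6) F)) := by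
  intro v
  refine ⟨h v, fun hv => ?_⟩
  haveI : Finite {w : Fin 6 → F // Phi w} := inferInstance
  have hinj : Function.Injective fun w : {w : Fin 6 → F // Phi w} =>
      (⟨g.val *ᵥ w.1, h _ w.2⟩ : {w : Fin 6 → F // Phi w}) := fun u w e => by
    have h1 := congrArg Subtype.val e
    exact Subtype.ext (Matrix.mulVec_injective_iff_isUnit.2 g.isUnit h1)
  obtain ⟨w, hw⟩ := Finite.injective_iff_surjective.1 hinj ⟨_, hv⟩
  rw [← Matrix.mulVec_injective_iff_isUnit.2 g.isUnit (congrArg Subtype.val hw)]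
  exact w.2

/-- Monomial matrices with unit product of entries fix the distinguished vectors. -/
theorem monomial_mem [DecidableEq F] [Fintype F] (hF : Fintype.card F = 2 ^ 2) {Y : GL (Fin 6) F}
    (hY : Y.val.det = 1) (σ : Equiv.Perm (Fin 6)) (d : Fin 6 → F)
    (hYv : ∀ a b, Y.val a b = if a = σ b then d b else 0) : Y ∈ (phiStab : Subgroup (GL (Fin 6) F)) := by
  have h2 : (2 : F) = 0 := two_zero hF
  have hdet : ∏ b, d b = 1 := by
    have h1 : Y.val = (Matrix.diagonal d).submatrix (⇑σ⁻¹) id := Matrix.ext fun a b => by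
      rw [hYv, Matrix.submatrix_apply, Matrix.diagonal_apply]
      by_cases h : a = σ b
      · subst h; simp
      · rw [if_neg h, if_neg fun e => h (by simp at e; rw [← e]; simp)]
    rw [h1, Matrix.det_permute, Matrix.det_diagonal] at hY
    rcases Int.units_eq_one_or (Equiv.Perm.sign σ⁻¹) with h | h <;> rw [h] at hY <;> simp at hY
    · exact hY
    · linear_combination -hY - h2
  have hd0 : ∀ b, d b ≠ 0 := fun b h => by
    rw [Finset.prod_eq_zero (Finset.mem_univ b) h] at hdet
    exact zero_ne_one hdet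
  refine mem_phiStab fun v hv => ?_
  have happ : ∀ b, (Y.val *ᵥ v) (σ b) = d b * v b := fun b => by
    simp only [Matrix.mulVec, dotProduct, hYv, σ.injective.eq_iff]
    simp
  rcases hv with hv | hv
  · refine Or.inl ?_
    rw [← hv]
    refine Finset.card_equiv σ.symm fun i => ?_
    obtain ⟨b, rfl⟩ := σ.surjective i
    simp [happ, hd0]
  · refine Or.inr ?_
    rw [← Equiv.prod_comp σ, Finset.prod_congr rfl fun b _ => happ b, Finset.prod_mul_distrib, hdet, hv, one_mul]

/-- The transvection with all-one centre fixes the distinguished vectors. -/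
theorem transvection_mem [DecidableEq F] [Fintype F] (hF : Fintype.card F = 2 ^ 2) {g : GL (Fin 6) F}
    (hg : ∀ v, g.val *ᵥ v = fun i => v i + ∑ j, v j) : g ∈ (phiStab : Subgroup (GL (Fin 6) F)) := by
  have h2 : (2 : F) = 0 := two_zero hF
  obtain ⟨w, hw3, hw1, hw⟩ := exists_omega hF
  set ι : Fin 4 → F := ![0, 1, w, w ^ 2] with hι
  have hw0 : w ≠ 0 := fun h => by simp [h] at hw3
  have hw21 : w ^ 2 ≠ 1 := fun h => hw1 (by linear_combination -w * h + hw3)
  have hinj : Function.Injective ι := by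
    intro a b h
    have hw2w : w ^ 2 ≠ w := fun e => hw1 (mul_left_cancel₀ hw0 (show w * w = w * 1 by linear_combination e))
    fin_cases a <;> fin_cases b <;> simp [hι, hw0, hw1, hw21, hw2w, Ne.symm hw0, Ne.symm hw1, Ne.symm hw21,
      Ne.symm hw2w, pow_ne_zero 2 hw0, Ne.symm (pow_ne_zero 2 hw0)] at h ⊢
  have hsurj : Function.Surjective ι :=
    ((Fintype.bijective_iff_injective_and_card ι).2 ⟨hinj, by rw [Fintype.card_fin, hF]; rfl⟩).2
  have hadd : ∀ a b, ι (addM a b) = ι a + ι b := by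
    intro a b
    fin_cases a <;> fin_cases b <;> simp [hι, addM]
    all_goals first
      | linear_combination -h2
      | linear_combination hw - h2
      | linear_combination hw - (1 + w) * h2
      | linear_combination hw - (1 + w ^ 2) * h2
      | linear_combination hw - (w + w ^ 2) * h2
      | linear_combination -w * h2
      | linear_combination -w ^ 2 * h2
  have hmul : ∀ a b, ι (mulM a b) = ι a * ι b := by
    intro a b
    fin_cases a <;> fin_cases b <;> simp [hι, mulM]
    all_goals first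
      | linear_combination -hw3
      | linear_combination -w * hw3
      | ring
  have hι0 : ∀ {a}, ι a = 0 ↔ a = 0 := fun {a} => by
    rw [← hinj.eq_iff (a := a)]; rfl
  have hPhi : ∀ x, Phi (ι ∘ x) ↔ PhiM x = true := fun x => by
    rw [PhiM, Bool.or_eq_true, decide_eq_true_iff, decide_eq_true_iff, Phi]
    refine or_congr ?_ ?_
    · simp [hι0]
    · rw [← hinj.eq_iff]
      simp only [hmul, Function.comp_apply, Fin.prod_univ_six]
      simp [hι, mul_assoc]
  refine mem_phiStab fun v hv => ?_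
  choose x hx using fun i => hsurj (v i)
  obtain rfl : v = ι ∘ x := funext fun i => (hx i).symm
  have hx6 : x = ![x 0, x 1, x 2, x 3, x 4, x 5] := funext fun i => by fin_cases i <;> rfl
  have h1 := check (x 0) (x 1) (x 2) (x 3) (x 4) (x 5) (by rw [← hx6]; exact (hPhi x).1 hv)
  rw [← hx6] at h1
  have h3 : g.val *ᵥ (ι ∘ x) = ι ∘ (fun i => addM (x i) (sumM x)) := by
    rw [hg]
    funext i
    simp only [Function.comp_apply, hadd, sumM, Fin.sum_univ_six]
    ring
  rw [h3]
  exact (hPhi _).2 h1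

end SixFrame

open SixFrame in
/-- Over the field of four elements no maximal subgroup of `SU₆` fixes an orthogonal frame. -/
theorem frame_six_not_max {F : Type*} [Field F] [Fintype F] (hF : Fintype.card F = 2 ^ 2)
    {H : Subgroup (GL (Fin 6) F)} (hH : IsMaximalIn (sunit 6 F 2) H) {D : Fin 6 → Submodule F (Fin 6 → F)}
    (hD : IsNondegenerateMDecomposition (Cfsg.hermForm 6 F 2) 1 D) (hle : H ≤ decompositionStabilizer D) :
    False := by
  classical
  have hU := herm_unitary (n := 6) hF
  have hf := isSesq_of_unitary hU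
  have h2 : (2 : F) = 0 := two_zero hF
  obtain ⟨b, hb⟩ := decomp_gen hD.decomp
  have hbb : ∀ i, Cfsg.hermForm 6 F 2 (b i) (b i) = 1 := fun i => by
    have hne : Cfsg.hermForm 6 F 2 (b i) (b i) ≠ 0 := fun h => by
      obtain ⟨x, hx, hxb⟩ := (hD.nondegenerate i (b i) (hb i ▸ Submodule.mem_span_singleton_self _)
        (b.ne_zero i)).1
      rw [hb i] at hx
      obtain ⟨s, rfl⟩ := Submodule.mem_span_singleton.1 hx
      exact hxb (by rw [hf.smul_left, h, mul_zero])
    exact norm_fixed_eq_one hF hne (by rw [← sigmaE_apply hF, ← hU.herm])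
  let P0 : Matrix (Fin 6) (Fin 6) F := Matrix.of fun i j => b j i
  have hP0 : adjt hF P0 * P0 = 1 := by
    refine Matrix.ext fun i j => ?_
    have hon : Cfsg.hermForm 6 F 2 (b j) (b i) = if i = j then 1 else 0 := by
      by_cases h : i = j
      · subst h; rw [if_pos rfl]; exact hbb i
      · rw [if_neg h]
        exact hD.orthogonal j i (Ne.symm h) _ (hb j ▸ Submodule.mem_span_singleton_self _) _
          (hb i ▸ Submodule.mem_span_singleton_self _)
    rw [Matrix.one_apply, ← hon]
    simp only [Matrix.mul_apply, adjt_apply, P0, Matrix.of_apply, Cfsg.hermForm]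
    exact Finset.sum_congr rfl fun l _ => mul_comm _ _
  let P : GL (Fin 6) F := ⟨P0, adjt hF P0, mul_eq_one_comm.1 hP0, hP0⟩
  have hPU : P ∈ Cfsg.GU 6 F 2 := (mem_GU_iff hF).2 hP0
  have hPcol : ∀ j, P.val *ᵥ Pi.single j 1 = b j := fun j => by
    rw [Matrix.mulVec_single_one]; rfl
  have hconj : ∀ g : GL (Fin 6) F, g ∈ sunit 6 F 2 → P⁻¹ * g * P ∈ sunit 6 F 2 := fun g hg =>
    ⟨Subgroup.mul_mem _ (Subgroup.mul_mem _ (Subgroup.inv_mem _ hPU) hg.1) hPU, by
      show Matrix.GeneralLinearGroup.det (P⁻¹ * g * P) = 1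
      rw [map_mul, map_mul, map_inv, show Matrix.GeneralLinearGroup.det g = 1 from hg.2, mul_one, inv_mul_cancel]⟩
  have hconj' : ∀ g : GL (Fin 6) F, g ∈ sunit 6 F 2 → P * g * P⁻¹ ∈ sunit 6 F 2 := fun g hg =>
    ⟨Subgroup.mul_mem _ (Subgroup.mul_mem _ hPU hg.1) (Subgroup.inv_mem _ hPU), by
      show Matrix.GeneralLinearGroup.det (P * g * P⁻¹) = 1
      rw [map_mul, map_mul, map_inv, show Matrix.GeneralLinearGroup.det g = 1 from hg.2, mul_one, mul_inv_cancel]⟩
  have hmono : ∀ g ∈ decompositionStabilizer D, ∃ (σ : Equiv.Perm (Fin 6)) (d : Fin 6 → F),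
      ∀ i k, (P⁻¹ * g * P).val i k = if i = σ k then d k else 0 := by
    rintro g ⟨σ, hσ⟩
    have hd : ∀ k, ∃ d : F, d • b (σ k) = g.val *ᵥ b k := fun k => by
      have h1 : g.val *ᵥ b k ∈ D (σ k) := by
        rw [← hσ k]
        exact ⟨b k, hb k ▸ Submodule.mem_span_singleton_self _, Matrix.toLin'_apply _ _⟩
      rw [hb] at h1
      exact Submodule.mem_span_singleton.1 h1
    choose d hd using hd
    refine ⟨σ, d, fun i k => ?_⟩
    have h1 : (P⁻¹ * g * P).val *ᵥ Pi.single k 1 = d k • (Pi.single (σ k) 1 : Fin 6 → F) := by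
      rw [Units.val_mul, Units.val_mul, ← Matrix.mulVec_mulVec, hPcol, ← Matrix.mulVec_mulVec, ← hd,
        Matrix.mulVec_smul, ← hPcol, inv_mulVec_mulVec]
    rw [Matrix.mulVec_single_one] at h1
    have h3 := congrFun h1 i
    simpa [Pi.single_apply] using h3
  set N : Subgroup (GL (Fin 6) F) := phiStab.comap (MulAut.conj P⁻¹).toMonoidHom with hN
  have hmem : ∀ g, g ∈ N ↔ P⁻¹ * g * P ∈ (phiStab : Subgroup (GL (Fin 6) F)) := fun g => by
    simp [hN]
  have hHN : H ≤ N := fun g hg => by
    rw [hmem]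
    obtain ⟨σ, d, hd⟩ := hmono g (hle hg)
    have hdet1 : Matrix.GeneralLinearGroup.det (P⁻¹ * g * P) = 1 := (Subgroup.mem_inf.1 (hconj g (hH.1.le hg))).2
    refine monomial_mem hF ?_ σ d hd
    rw [← Matrix.GeneralLinearGroup.val_det_apply, hdet1, Units.val_one]
  obtain ⟨l, hl0, hl⟩ := exists_trace hF
  obtain rfl : l = 1 := by
    refine mul_left_cancel₀ hl0 ?_
    linear_combination hl - l * h2
  have hl' : (1 : F) + 1 ^ 2 = 0 := hl
  set z : Fin 6 → F := fun _ => 1 with hz
  obtain ⟨t, ht, -, htv⟩ := exists_utv hF (z := z) (by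
    simp [Cfsg.hermForm, hz]
    linear_combination 3 * h2) hl'
  have htΦ : t ∈ (phiStab : Subgroup (GL (Fin 6) F)) := by
    refine transvection_mem hF fun v => ?_
    rw [htv]
    funext i
    simp [Cfsg.hermForm, hz]
  set z' : Fin 6 → F := ![1, 1, 1, 1, 0, 0] with hz'
  obtain ⟨g, hg, -, hgv⟩ := exists_utv hF (z := z') (by
    simp [Cfsg.hermForm, hz', Fin.sum_univ_six]
    linear_combination 2 * h2) hl'
  have hgΦ : g ∉ (phiStab : Subgroup (GL (Fin 6) F)) := by
    intro hgn
    have hv : Phi (![1, 0, 0, 0, 1, 0] : Fin 6 → F) := Or.inl (by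
      rw [show (Finset.univ.filter fun i => (![1, 0, 0, 0, 1, 0] : Fin 6 → F) i ≠ 0) = {0, 4} by
        ext i; fin_cases i <;> simp]
      rfl)
    have h1 := (hgn _).1 hv
    have hw : g.val *ᵥ (![1, 0, 0, 0, 1, 0] : Fin 6 → F) = ![0, 1, 1, 1, 1, 0] := by
      rw [hgv]
      funext i
      fin_cases i <;> simp [Cfsg.hermForm, hz', Fin.sum_univ_six]
      linear_combination h2
    rw [hw] at h1
    rcases h1 with h1 | h1
    · rw [show (Finset.univ.filter fun i => (![0, 1, 1, 1, 1, 0] : Fin 6 → F) i ≠ 0) = {1, 2, 3, 4} by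
        ext i; fin_cases i <;> simp] at h1
      exact absurd h1 (by decide)
    · simp [Fin.prod_univ_six] at h1
  rcases hH.2 (N ⊓ sunit 6 F 2) (le_inf hHN hH.1.le) inf_le_right with h | h
  · have htN : P * t * P⁻¹ ∈ N ⊓ sunit 6 F 2 :=
      ⟨(hmem _).2 (by rw [show P⁻¹ * (P * t * P⁻¹) * P = t by group]; exact htΦ), hconj' t ht⟩
    rw [h] at htN
    obtain ⟨σ, d, hd⟩ := hmono _ (hle htN)
    rw [show P⁻¹ * (P * t * P⁻¹) * P = t by group] at hd
    have hcol : ∀ i, t.val i 0 = if i = 0 then 0 else 1 := fun i => by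
      have h3 := congrFun (htv (Pi.single 0 1)) i
      rw [Matrix.mulVec_single_one] at h3
      rw [show t.val i 0 = (t.val.col 0) i from rfl, h3]
      fin_cases i <;> simp [Cfsg.hermForm, hz, Fin.sum_univ_six]
      linear_combination h2
    have h4 := hd 1 0
    have h5 := hd 2 0
    rw [hcol, if_neg (by decide)] at h4 h5
    by_cases hc : (1 : Fin 6) = σ 0
    · rw [if_neg (fun e => absurd (hc.trans e.symm) (by decide))] at h5; exact one_ne_zero h5
    · rw [if_neg hc] at h4; exact one_ne_zero h4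
  · have h1 : P * g * P⁻¹ ∈ N := (h.symm ▸ hconj' g hg : P * g * P⁻¹ ∈ N ⊓ sunit 6 F 2).1
    rw [hmem, show P⁻¹ * (P * g * P⁻¹) * P = g by group] at h1
    exact hgΦ h1

end Cfsg.Lib.Linear.AschU
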