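import Cfsg.Agent.Lib.Linear.Aschbacher.Unitary

/-!
# Conjugate transposition and the standard unitary form

For the standard form the adjoint of a matrix is its conjugate transpose.
-/

set_option autoImplicit false
set_option linter.unusedSectionVars false
set_option linter.style.haveILetI false

namespace Cfsg.Lib.Linear.AschU

open Cfsg.Geo Cfsg.Lib.Linear Cfsg.Lib.Linear.Herm Cfsg.Lib.Linear.Asch
open scoped Matrix MatrixGroups

variable {F : Type*} [Field F] [Fintype F] {q n : ℕ}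

/-- The conjugate transpose for `x ↦ x ^ q`. -/
noncomputable def adjt (hF : Fintype.card F = q ^ 2) {κ ρ : Type*} (X : Matrix κ ρ F) : Matrix ρ κ F :=
  (X.map (sigmaE hF))ᵀ

variable (hF : Fintype.card F = q ^ 2)

theorem adjt_apply {κ ρ : Type*} (X : Matrix κ ρ F) (i : ρ) (j : κ) : adjt hF X i j = X j i ^ q :=
  sigmaE_apply hF _

theorem adjt_adjt {κ ρ : Type*} (X : Matrix κ ρ F) : adjt hF (adjt hF X) = X :=
  Matrix.ext fun i j => sigmaE_sigmaE hF _

theorem adjt_mul {κ ρ τ : Type*} [Fintype ρ] (X : Matrix κ ρ F) (Y : Matrix ρ τ F) :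
    adjt hF (X * Y) = adjt hF Y * adjt hF X := by
  rw [adjt, Matrix.map_mul, Matrix.transpose_mul]; rfl

theorem adjt_add {κ ρ : Type*} (X Y : Matrix κ ρ F) : adjt hF (X + Y) = adjt hF X + adjt hF Y :=
  Matrix.ext fun _ _ => map_add (sigmaE hF) _ _

theorem adjt_sub {κ ρ : Type*} (X Y : Matrix κ ρ F) : adjt hF (X - Y) = adjt hF X - adjt hF Y :=
  Matrix.ext fun _ _ => map_sub (sigmaE hF) _ _

theorem adjt_zero {κ ρ : Type*} : adjt hF (0 : Matrix κ ρ F) = 0 :=
  Matrix.ext fun _ _ => map_zero (sigmaE hF)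

theorem adjt_smul {κ ρ : Type*} (c : F) (X : Matrix κ ρ F) :
    adjt hF (c • X) = sigmaE hF c • adjt hF X :=
  Matrix.ext fun _ _ => map_mul (sigmaE hF) _ _

theorem adjt_one {κ : Type*} [DecidableEq κ] : adjt hF (1 : Matrix κ κ F) = 1 := by
  rw [adjt, Matrix.map_one _ (map_zero _) (map_one _), Matrix.transpose_one]

theorem adjt_injective {κ ρ : Type*} : Function.Injective (adjt hF : Matrix κ ρ F → Matrix ρ κ F) :=
  fun X Y h => by rw [← adjt_adjt hF X, h, adjt_adjt]

theorem det_adjt {κ : Type*} [Fintype κ] [DecidableEq κ] (X : Matrix κ κ F) :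
    (adjt hF X).det = sigmaE hF X.det := by
  rw [adjt, Matrix.det_transpose]
  exact (RingHom.map_det (sigmaE hF).toRingHom X).symm

theorem hermForm_eq_dot (u v : Fin n → F) :
    Cfsg.hermForm n F q u v = u ⬝ᵥ (sigmaE hF ∘ v) :=
  Finset.sum_congr rfl fun i _ => by rw [Function.comp_apply, sigmaE_apply]

theorem herm_adjt (X : Matrix (Fin n) (Fin n) F) (u v : Fin n → F) :
    Cfsg.hermForm n F q (X *ᵥ u) v = Cfsg.hermForm n F q u (adjt hF X *ᵥ v) := by
  rw [hermForm_eq_dot hF, hermForm_eq_dot hF, map_mulVec',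
    show (adjt hF X).map (sigmaE hF) = Xᵀ from Matrix.ext fun i j => sigmaE_sigmaE hF _,
    Matrix.dotProduct_mulVec u, Matrix.vecMul_transpose]

theorem herm_adjt_right (X : Matrix (Fin n) (Fin n) F) (u v : Fin n → F) :
    Cfsg.hermForm n F q u (X *ᵥ v) = Cfsg.hermForm n F q (adjt hF X *ᵥ u) v := by
  rw [herm_adjt hF (adjt hF X), adjt_adjt]

theorem mem_GU_iff {g : GL (Fin n) F} : g ∈ Cfsg.GU n F q ↔ adjt hF g.val * g.val = 1 := by
  constructor
  · intro hg
    have h := congrArg (fun M : Matrix (Fin n) (Fin n) F => M.map (sigmaE hF)) (gu_gram hF hg)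
    simp only [Matrix.map_mul, Matrix.map_map, Matrix.map_one _ (map_zero (sigmaE hF)) (map_one (sigmaE hF))] at h
    rw [show (⇑(sigmaE hF) ∘ ⇑(sigmaE hF)) = id from funext fun a => sigmaE_sigmaE hF a, Matrix.map_id] at h
    exact h
  · intro h u v
    show Cfsg.hermForm n F q (g.val *ᵥ u) (g.val *ᵥ v) = Cfsg.hermForm n F q u v
    rw [herm_adjt hF, Matrix.mulVec_mulVec, h, Matrix.one_mulVec]

theorem adjt_eq_inv {g : GL (Fin n) F} (hg : g ∈ Cfsg.GU n F q) : adjt hF g.val = (g⁻¹).val := by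
  calc adjt hF g.val = adjt hF g.val * (g.val * (g⁻¹).val) := by rw [Units.mul_inv, Matrix.mul_one]
    _ = _ := by rw [← Matrix.mul_assoc, (mem_GU_iff hF).1 hg, Matrix.one_mul]

/-- A subalgebra closed under conjugate transposition is closed under adjoints. -/
theorem isAdjointClosedFor_of {K : Subalgebra F (Matrix (Fin n) (Fin n) F)}
    (h : ∀ k ∈ K, adjt hF k ∈ K) : IsAdjointClosedFor (Cfsg.hermForm n F q) K :=
  fun k hk => ⟨adjt hF k, h k hk, herm_adjt hF k⟩

/-- The algebra generated by a group of isometries is closed under conjugate transposition. -/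
theorem adjt_mem_adjoin {N : Subgroup (GL (Fin n) F)} (hN : N ≤ Cfsg.GU n F q)
    {X : Matrix (Fin n) (Fin n) F} (hX : X ∈ Algebra.adjoin F (matrixSet N)) :
    adjt hF X ∈ Algebra.adjoin F (matrixSet N) := by
  induction hX using Algebra.adjoin_induction with
  | mem x hx =>
    obtain ⟨g, hg, rfl⟩ := hx
    rw [adjt_eq_inv hF (hN hg)]
    exact Algebra.subset_adjoin ⟨g⁻¹, inv_mem hg, rfl⟩
  | algebraMap r =>
    rw [Algebra.algebraMap_eq_smul_one, adjt_smul, adjt_one, ← Algebra.algebraMap_eq_smul_one]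
    exact Subalgebra.algebraMap_mem _ _
  | add x y _ _ hx hy => rw [adjt_add]; exact add_mem hx hy
  | mul x y _ _ hx hy => rw [adjt_mul]; exact mul_mem hy hx

/-- The centraliser of a set closed under conjugate transposition is closed under it. -/
theorem adjt_mem_centralizer {S : Set (Matrix (Fin n) (Fin n) F)} (hS : ∀ s ∈ S, adjt hF s ∈ S)
    {X : Matrix (Fin n) (Fin n) F} (hX : X ∈ Subalgebra.centralizer F S) :
    adjt hF X ∈ Subalgebra.centralizer F S := by
  rw [Subalgebra.mem_centralizer_iff] at hX ⊢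
  intro s hs
  refine adjt_injective hF ?_
  rw [adjt_mul, adjt_mul, adjt_adjt]
  exact (hX _ (hS s hs)).symm

theorem adjt_mem_matrixSet {N : Subgroup (GL (Fin n) F)} (hN : N ≤ Cfsg.GU n F q) :
    ∀ s ∈ matrixSet N, adjt hF s ∈ matrixSet N := by
  rintro _ ⟨g, hg, rfl⟩
  exact ⟨g⁻¹, inv_mem hg, (adjt_eq_inv hF (hN hg)).symm⟩

end Cfsg.Lib.Linear.AschU
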