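import Cfsg.Agent.Lib.Linear.AschU.Reduce

/-!
# Tensor decompositions of the unitary form

If the factors of a tensor decomposition generate subalgebras closed under conjugate transposition, the
standard form is, after a change of basis inside the stabiliser, the product of standard forms.
-/

set_option autoImplicit false
set_option linter.unusedSectionVars false
set_option linter.style.haveILetI false

namespace Cfsg.Lib.Linear.AschU

open Cfsg.Geo Cfsg.Lib.Linear Cfsg.Lib.Linear.Herm Cfsg.Lib.Linear.Asch
open scoped Matrix MatrixGroups Kronecker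

variable {F : Type*} [Field F]

/-- Endomorphisms of a matrix algebra are inner. -/
theorem skolem {d : ℕ} (hd : 0 < d) (φ : Matrix (Fin d) (Fin d) F →ₐ[F] Matrix (Fin d) (Fin d) F) :
    ∃ G : GL (Fin d) F, ∀ a, φ a * G.val = G.val * a := by
  classical
  let o : Fin d := ⟨0, hd⟩
  have hne : φ (Matrix.single o o 1) ≠ 0 := by
    intro h0
    have h1 : ∀ i, φ (Matrix.single i i (1 : F)) = 0 := fun i => by
      have e : Matrix.single i i (1 : F) = Matrix.single i o 1 * Matrix.single o o 1 * Matrix.single o i 1 := by
        simp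
      rw [e, map_mul, map_mul, h0, mul_zero, zero_mul]
    have h2 : φ 1 = 0 := by
      have e : (1 : Matrix (Fin d) (Fin d) F) = ∑ i, Matrix.single i i 1 := by
        refine Matrix.ext fun a b => ?_
        simp [Matrix.sum_apply, Matrix.single_apply, Matrix.one_apply, Finset.sum_ite_eq', ite_and]
      rw [e, map_sum]
      exact Finset.sum_eq_zero fun i _ => h1 i
    rw [map_one] at h2
    have h3 := congrFun (congrFun h2 o) o
    simp at h3
  obtain ⟨v₀, hv₀⟩ : ∃ v : Fin d → F, φ (Matrix.single o o 1) *ᵥ v ≠ 0 := by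
    by_contra h
    push Not at h
    exact hne (Matrix.toLin'.injective (LinearMap.ext fun v => by simpa [Matrix.toLin'_apply] using h v))
  let col : Fin d → Fin d → F := fun j => φ (Matrix.single j o 1) *ᵥ v₀
  let G : Matrix (Fin d) (Fin d) F := Matrix.of fun i j => col j i
  have hcol : ∀ a : Matrix (Fin d) (Fin d) F, φ a * G = G * a := by
    intro a
    refine Matrix.ext fun i l => ?_
    have h1 : φ a *ᵥ col l = ∑ j, a j l • col j := by
      show φ a *ᵥ (φ (Matrix.single l o 1) *ᵥ v₀) = _
      rw [Matrix.mulVec_mulVec, ← map_mul]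
      have e : a * Matrix.single l o (1 : F) = ∑ j, a j l • Matrix.single j o (1 : F) := by
        refine Matrix.ext fun x y => ?_
        rcases eq_or_ne y o with rfl | h
        · rw [Matrix.mul_single_apply_same]
          simp [Matrix.sum_apply, Matrix.single_apply]
        · rw [Matrix.mul_single_apply_of_ne (hbj := h)]
          simp [Matrix.sum_apply, h.symm]
      rw [e, map_sum, Matrix.sum_mulVec]
      exact Finset.sum_congr rfl fun j _ => by rw [map_smul, Matrix.smul_mulVec]
    have h2 := congrFun h1 i
    rw [Matrix.mul_apply, Matrix.mul_apply]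
    simp only [Matrix.mulVec, dotProduct, Finset.sum_apply, Pi.smul_apply, smul_eq_mul] at h2
    simp only [G, Matrix.of_apply]
    rw [h2]
    exact Finset.sum_congr rfl fun j _ => mul_comm _ _
  have hG : G.det ≠ 0 := by
    intro hd0
    obtain ⟨x, hx0, hx⟩ := Matrix.exists_mulVec_eq_zero_iff.2 hd0
    obtain ⟨i, hi⟩ := Function.ne_iff.1 hx0
    have h1 : G *ᵥ Pi.single o 1 = 0 := by
      have h2 : (Matrix.single o i (x i)⁻¹ : Matrix (Fin d) (Fin d) F) *ᵥ x = Pi.single o 1 := by
        funext z
        rw [Matrix.single_mulVec]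
        rcases eq_or_ne z o with rfl | h
        · simp [inv_mul_cancel₀ (show x i ≠ 0 from hi)]
        · simp [h, Function.update_of_ne]
      rw [← h2, Matrix.mulVec_mulVec, ← hcol, ← Matrix.mulVec_mulVec, hx, Matrix.mulVec_zero]
    refine hv₀ (funext fun z => ?_)
    have h3 := congrFun h1 z
    rwa [Matrix.mulVec_single_one] at h3
  exact ⟨Matrix.GeneralLinearGroup.mkOfDetNeZero G hG, hcol⟩

/-- A matrix commuting with the first factor lies in the second. -/
theorem kron_commutant {d k : ℕ} (hd : 0 < d) {Z : Matrix (Fin d × Fin k) (Fin d × Fin k) F}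
    (h : ∀ a : Matrix (Fin d) (Fin d) F, (a ⊗ₖ (1 : Matrix (Fin k) (Fin k) F)) * Z = Z * (a ⊗ₖ 1)) :
    ∃ b : Matrix (Fin k) (Fin k) F, Z = (1 : Matrix (Fin d) (Fin d) F) ⊗ₖ b := by
  classical
  let o : Fin d := ⟨0, hd⟩
  refine ⟨Matrix.of fun x y => Z (o, x) (o, y), Matrix.ext fun p r => ?_⟩
  obtain ⟨i, x⟩ := p
  obtain ⟨j, y⟩ := r
  have key : ∀ (u v : Fin d) (a : Fin d) (b : Fin d),
      (if a = u then Z (v, x) (b, y) else 0) = if v = b then Z (a, x) (u, y) else 0 := fun u v a b => by
    have e := congrFun (congrFun (h (Matrix.single u v 1)) (a, x)) (b, y)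
    simp only [Matrix.mul_apply, Fintype.sum_prod_type, Matrix.kronecker_apply, Matrix.single_apply,
      Matrix.one_apply] at e
    simpa [ite_and, eq_comm] using e
  rw [Matrix.kronecker_apply, Matrix.one_apply, Matrix.of_apply]
  by_cases hij : i = j
  · subst hij
    have e := key o i o i
    rw [if_pos rfl, if_pos rfl] at e
    rw [if_pos rfl, one_mul, e]
  · have e := key o i o j
    rw [if_pos rfl, if_neg hij] at e
    rw [if_neg hij, zero_mul, e]

theorem kron_left_inj {d k : ℕ} (hk : 0 < k) {a a' : Matrix (Fin d) (Fin d) F}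
    (h : a ⊗ₖ (1 : Matrix (Fin k) (Fin k) F) = a' ⊗ₖ 1) : a = a' := by
  refine Matrix.ext fun i j => ?_
  have e := congrFun (congrFun h (i, ⟨0, hk⟩)) (j, ⟨0, hk⟩)
  simpa using e

/-- A matrix normalising the first factor is a Kronecker product. -/
theorem kron_split {d k : ℕ} (hd : 0 < d) (hk : 0 < k) (Y : GL (Fin d × Fin k) F)
    (h : ∀ a : Matrix (Fin d) (Fin d) F, ∃ a', (a ⊗ₖ (1 : Matrix (Fin k) (Fin k) F)) * Y.val = Y.val * (a' ⊗ₖ 1)) :
    ∃ (G₁ : GL (Fin d) F) (G₂ : GL (Fin k) F), Y.val = G₁.val ⊗ₖ G₂.val := by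
  classical
  choose f hf using h
  have key : ∀ a b, (a ⊗ₖ (1 : Matrix (Fin k) (Fin k) F)) * Y.val = Y.val * (b ⊗ₖ 1) → f a = b := fun a b e =>
    kron_left_inj hk (Units.mul_right_inj Y |>.1 ((hf a).symm.trans e))
  let φ : Matrix (Fin d) (Fin d) F →ₐ[F] Matrix (Fin d) (Fin d) F :=
    { toFun := f
      map_one' := key _ _ (by rw [Matrix.one_kronecker_one, one_mul, mul_one])
      map_mul' := fun a b => key _ _ (by
        rw [← mul_one (1 : Matrix (Fin k) (Fin k) F), Matrix.mul_kronecker_mul, mul_one, mul_assoc, hf b,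
          ← mul_assoc, hf a, mul_assoc, ← Matrix.mul_kronecker_mul, mul_one])
      map_zero' := key _ _ (by rw [Matrix.zero_kronecker, zero_mul, mul_zero])
      map_add' := fun a b => key _ _ (by rw [Matrix.add_kronecker, add_mul, hf a, hf b, ← mul_add, ← Matrix.add_kronecker])
      commutes' := fun c => key _ _ (by
        rw [Algebra.algebraMap_eq_smul_one, Matrix.smul_kronecker, Matrix.one_kronecker_one, smul_mul_assoc,
          one_mul, mul_smul_comm, mul_one]) }
  obtain ⟨G, hG⟩ := skolem hd φ
  have hfG : ∀ a, f a * G.val = G.val * a := hG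
  set Z := Y.val * (G.val ⊗ₖ (1 : Matrix (Fin k) (Fin k) F)) with hZ
  obtain ⟨b, hb⟩ := kron_commutant hd (Z := Z) (fun a => by
    rw [hZ, ← mul_assoc, hf a, mul_assoc, mul_assoc, ← Matrix.mul_kronecker_mul, ← Matrix.mul_kronecker_mul,
      hfG])
  have hYe : Y.val = (G⁻¹).val ⊗ₖ b := by
    calc Y.val = Z * ((G⁻¹).val ⊗ₖ (1 : Matrix (Fin k) (Fin k) F)) := by
          rw [hZ, mul_assoc, ← Matrix.mul_kronecker_mul, Units.mul_inv, mul_one, Matrix.one_kronecker_one, mul_one]
      _ = _ := by rw [hb, ← Matrix.mul_kronecker_mul, one_mul, mul_one]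
  have hb0 : b.det ≠ 0 := fun hb0 => by
    have h0 := (Y.isUnit.map Matrix.detMonoidHom).ne_zero
    rw [show Matrix.detMonoidHom Y.val = Y.val.det from rfl, hYe, Matrix.det_kronecker, hb0,
      zero_pow (by rw [Fintype.card_fin]; omega), mul_zero] at h0
    exact h0 rfl
  exact ⟨G⁻¹, Matrix.GeneralLinearGroup.mkOfDetNeZero b hb0, hYe⟩

/-- The tensor product of `t` square matrices. -/
def pure {k t : ℕ} (g : Fin t → Matrix (Fin k) (Fin k) F) : Matrix (Fin t → Fin k) (Fin t → Fin k) F :=
  Matrix.of fun x y => ∏ i, g i (x i) (y i)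

variable {k t : ℕ}

theorem pure_mul (g h : Fin t → Matrix (Fin k) (Fin k) F) : pure g * pure h = pure (fun i => g i * h i) := by
  classical
  refine Matrix.ext fun x y => ?_
  simp only [Matrix.mul_apply, pure, Matrix.of_apply, ← Finset.prod_mul_distrib]
  rw [Finset.prod_univ_sum (R := F) (t := fun _ : Fin t => (Finset.univ : Finset (Fin k)))
    (f := fun i z => g i (x i) z * h i z (y i)), Fintype.piFinset_univ]

theorem pure_one : pure (fun _ : Fin t => (1 : Matrix (Fin k) (Fin k) F)) = 1 := by
  classical
  refine Matrix.ext fun x y => ?_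
  simp only [pure, Matrix.of_apply, Matrix.one_apply]
  by_cases h : x = y
  · subst h; simp
  · obtain ⟨i, hi⟩ := Function.ne_iff.1 h
    rw [if_neg h]
    exact Finset.prod_eq_zero (Finset.mem_univ i) (if_neg hi)

theorem pure_update_smul (g : Fin t → Matrix (Fin k) (Fin k) F) (i : Fin t) (c : F)
    (A : Matrix (Fin k) (Fin k) F) :
    pure (Function.update g i (c • A)) = c • pure (Function.update g i A) := by
  classical
  refine Matrix.ext fun x y => ?_
  simp only [pure, Matrix.of_apply, Matrix.smul_apply, smul_eq_mul]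
  rw [← Finset.mul_prod_erase _ _ (Finset.mem_univ i), ← Finset.mul_prod_erase _ _ (Finset.mem_univ i)]
  simp only [Function.update_self, Matrix.smul_apply, smul_eq_mul]
  rw [mul_assoc]
  congr 1
  congr 1
  refine Finset.prod_congr rfl fun j hj => ?_
  rw [Function.update_of_ne (Finset.ne_of_mem_erase hj), Function.update_of_ne (Finset.ne_of_mem_erase hj)]

theorem pure_update_add (g : Fin t → Matrix (Fin k) (Fin k) F) (i : Fin t)
    (A B : Matrix (Fin k) (Fin k) F) :
    pure (Function.update g i (A + B)) = pure (Function.update g i A) + pure (Function.update g i B) := by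
  classical
  refine Matrix.ext fun x y => ?_
  simp only [pure, Matrix.of_apply, Matrix.add_apply]
  rw [← Finset.mul_prod_erase _ _ (Finset.mem_univ i), ← Finset.mul_prod_erase _ _ (Finset.mem_univ i),
    ← Finset.mul_prod_erase _ _ (Finset.mem_univ i)]
  simp only [Function.update_self, Matrix.add_apply]
  have e : ∀ C, ∏ j ∈ Finset.univ.erase i, Function.update g i C j (x j) (y j) =
      ∏ j ∈ Finset.univ.erase i, g j (x j) (y j) := fun C => Finset.prod_congr rfl fun j hj => by
    rw [Function.update_of_ne (Finset.ne_of_mem_erase hj)]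
  rw [e, e, e, add_mul]

/-- A single factor in the `i`-th place. -/
def slot (i : Fin t) (a : Matrix (Fin k) (Fin k) F) : Matrix (Fin t → Fin k) (Fin t → Fin k) F :=
  pure (Function.update (fun _ => 1) i a)

theorem slot_mul (i : Fin t) (a b : Matrix (Fin k) (Fin k) F) : slot i a * slot i b = slot i (a * b) := by
  rw [slot, slot, slot, pure_mul]
  refine congrArg pure (funext fun j => ?_)
  rcases eq_or_ne j i with rfl | h
  · simp only [Function.update_self]
  · simp only [Function.update_of_ne h, one_mul]

theorem slot_one (i : Fin t) : slot i (1 : Matrix (Fin k) (Fin k) F) = 1 := by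
  rw [slot, Function.update_eq_self i (fun _ => (1 : Matrix (Fin k) (Fin k) F)), pure_one]

theorem slot_inj (hk : 0 < k) (i : Fin t) {a b : Matrix (Fin k) (Fin k) F} (h : slot i a = slot i b) : a = b := by
  classical
  refine Matrix.ext fun u v => ?_
  let x : Fin t → Fin k := Function.update (fun _ => ⟨0, hk⟩) i u
  let y : Fin t → Fin k := Function.update (fun _ => ⟨0, hk⟩) i v
  have e := congrFun (congrFun h x) y
  have hs : ∀ c : Matrix (Fin k) (Fin k) F, slot i c x y = c u v := fun c => by
    simp only [slot, pure, Matrix.of_apply]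
    rw [Finset.prod_eq_single i (fun j _ hj => ?_) (by simp)]
    · simp [x, y]
    · simp [x, y, Function.update_of_ne hj]
  rwa [hs, hs] at e

theorem pure_isUnit {g : Fin t → GL (Fin k) F} :
    pure (fun i => (g i).val) * pure (fun i => ((g i)⁻¹).val) = 1 ∧
      pure (fun i => ((g i)⁻¹).val) * pure (fun i => (g i).val) = 1 := by
  simp only [pure_mul, Units.mul_inv, Units.inv_mul, pure_one, and_self]

/-- An invertible pure tensor. -/
def pureGL (g : Fin t → GL (Fin k) F) : GL (Fin t → Fin k) F :=
  ⟨pure (fun i => (g i).val), pure (fun i => ((g i)⁻¹).val), pure_isUnit.1, pure_isUnit.2⟩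

/-- A matrix commuting with every factor is scalar. -/
theorem slot_commutant (hk : 0 < k) {Z : Matrix (Fin t → Fin k) (Fin t → Fin k) F}
    (h : ∀ i a, slot i a * Z = Z * slot i a) : ∃ c : F, Z = c • (1 : Matrix (Fin t → Fin k) (Fin t → Fin k) F) := by
  classical
  have hp : ∀ (s : Finset (Fin t)) (g : Fin t → Matrix (Fin k) (Fin k) F), (∀ i ∉ s, g i = 1) →
      Commute (pure g) Z := by
    intro s
    induction s using Finset.induction with
    | empty =>
      intro g hg
      rw [show g = fun _ => 1 from funext fun i => hg i (by simp), pure_one]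
      exact Commute.one_left _
    | insert i s hi ih =>
      intro g hg
      have e : pure g = slot i (g i) * pure (Function.update g i 1) := by
        rw [slot, pure_mul]
        refine congrArg pure (funext fun j => ?_)
        rcases eq_or_ne j i with rfl | hj
        · simp
        · simp [Function.update_of_ne hj]
      rw [e]
      refine Commute.mul_left (h i _) (ih _ fun j hj => ?_)
      rcases eq_or_ne j i with rfl | hji
      · simp
      · rw [Function.update_of_ne hji]
        exact hg j (by simp [hji, hj])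
  have hs : ∀ x y, x ≠ y → Commute (Matrix.single x y (1 : F)) Z := fun x y _ => by
    have e : Matrix.single x y (1 : F) = pure fun i => Matrix.single (x i) (y i) (1 : F) := by
      refine Matrix.ext fun a b => ?_
      simp only [pure, Matrix.of_apply, Matrix.single_apply]
      by_cases hab : x = a ∧ y = b
      · obtain ⟨rfl, rfl⟩ := hab
        simp
      · rw [if_neg hab]
        symm
        rw [Finset.prod_eq_zero_iff]
        by_contra hne
        push Not at hne
        refine hab ⟨funext fun i => ?_, funext fun i => ?_⟩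
        · by_contra hi; exact hne i (Finset.mem_univ i) (if_neg fun hh => hi hh.1)
        · by_contra hi; exact hne i (Finset.mem_univ i) (if_neg fun hh => hi hh.2)
    rw [e]
    exact hp Finset.univ _ fun i hi => absurd (Finset.mem_univ i) hi
  obtain ⟨c, hc⟩ := Matrix.mem_range_scalar_of_commute_single hs
  exact ⟨c, by rw [← hc, Matrix.scalar_apply, ← Matrix.smul_one_eq_diagonal]⟩

/-- A matrix normalising every factor is a scalar multiple of a pure tensor. -/
theorem slot_split (hk : 0 < k) (Y : GL (Fin t → Fin k) F)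
    (h : ∀ i a, ∃ a', slot i a * Y.val = Y.val * slot i a') :
    ∃ (c : F) (G : Fin t → GL (Fin k) F), c ≠ 0 ∧ Y.val = c • pure (fun i => (G i).val) := by
  classical
  have hstep : ∀ i, ∃ G : GL (Fin k) F, ∀ a, slot i a * Y.val = Y.val * slot i ((G⁻¹).val * a * G.val) := by
    intro i
    choose f hf using h i
    have key : ∀ a b, slot i a * Y.val = Y.val * slot i b → f a = b := fun a b e =>
      slot_inj hk i (Units.mul_right_inj Y |>.1 ((hf a).symm.trans e))
    let φ : Matrix (Fin k) (Fin k) F →ₐ[F] Matrix (Fin k) (Fin k) F :=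
      { toFun := f
        map_one' := key _ _ (by rw [slot_one, one_mul, mul_one])
        map_mul' := fun a b => key _ _ (by
          rw [← slot_mul, mul_assoc, hf b, ← mul_assoc, hf a, mul_assoc, slot_mul])
        map_zero' := key _ _ (by
          rw [← zero_smul F (1 : Matrix (Fin k) (Fin k) F), slot, pure_update_smul, zero_smul, zero_mul, mul_zero])
        map_add' := fun a b => key _ _ (by
          simp only [slot, pure_update_add, add_mul, mul_add]
          exact congrArg₂ (· + ·) (hf a) (hf b))
        commutes' := fun c => key _ _ (by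
          rw [Algebra.algebraMap_eq_smul_one, slot, pure_update_smul,
            show pure (Function.update (fun _ : Fin t => (1 : Matrix (Fin k) (Fin k) F)) i 1) = 1 from slot_one i, smul_mul_assoc,
            one_mul, mul_smul_comm, mul_one]) }
    obtain ⟨G, hG⟩ := skolem hk φ
    refine ⟨G⁻¹, fun a => ?_⟩
    rw [inv_inv, hf a]
    congr 2
    have h1 : f a * G.val = G.val * a := hG a
    calc f a = (f a * G.val) * (G⁻¹).val := by rw [mul_assoc, Units.mul_inv, mul_one]
      _ = _ := by rw [h1]
  choose G hG using hstep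
  set Z := Y.val * pure (fun i => ((G i)⁻¹).val) with hZ
  obtain ⟨c, hc⟩ := slot_commutant hk (Z := Z) (fun i a => by
    rw [hZ, ← mul_assoc, hG i a, mul_assoc Y.val, mul_assoc Y.val]
    congr 1
    simp only [slot, pure_mul]
    refine congrArg pure (funext fun j => ?_)
    rcases eq_or_ne j i with rfl | hj
    · simp only [Function.update_self]
      rw [mul_assoc, Units.mul_inv, mul_one]
    · simp only [Function.update_of_ne hj, one_mul, mul_one])
  have hY : Y.val = c • pure (fun i => (G i).val) := by
    calc Y.val = Z * pure (fun i => (G i).val) := by rw [hZ, mul_assoc, (pure_isUnit (g := G)).2, mul_one]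
      _ = _ := by rw [hc, smul_mul_assoc, one_mul]
  refine ⟨c, G, ?_, hY⟩
  rintro rfl
  haveI : Nonempty (Fin t → Fin k) := ⟨fun _ => ⟨0, hk⟩⟩
  exact Y.ne_zero (by rw [hY, zero_smul])

end Cfsg.Lib.Linear.AschU
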