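import Cfsg.Agent.Lib.Linear.AschU.Tensor

/-!
# Orthonormal bases adapted to tensor decompositions
-/

set_option autoImplicit false
set_option linter.unusedSectionVars false
set_option linter.style.haveILetI false

namespace Cfsg.Lib.Linear.AschU

open Cfsg.Geo Cfsg.Lib.Linear Cfsg.Lib.Linear.Herm Cfsg.Lib.Linear.Asch
open scoped Matrix MatrixGroups Kronecker

variable {F : Type*} [Field F] [Fintype F] {q n : ℕ} (hF : Fintype.card F = q ^ 2)

section Basic

variable {κ : Type} [Fintype κ] [DecidableEq κ]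

/-- Conjugate transposition of an invertible matrix. -/
noncomputable def adjGL (g : GL κ F) : GL κ F :=
  ⟨adjt hF g.val, adjt hF (g⁻¹).val, by rw [← adjt_mul, Units.inv_mul, adjt_one],
    by rw [← adjt_mul, Units.mul_inv, adjt_one]⟩

theorem adjt_kron {d k : ℕ} (a : Matrix (Fin d) (Fin d) F) (b : Matrix (Fin k) (Fin k) F) :
    adjt hF (a ⊗ₖ b) = adjt hF a ⊗ₖ adjt hF b :=
  Matrix.ext fun _ _ => map_mul (sigmaE hF) _ _

theorem adjt_pure {k t : ℕ} (g : Fin t → Matrix (Fin k) (Fin k) F) :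
    adjt hF (pure g) = pure (fun i => adjt hF (g i)) :=
  Matrix.ext fun i j => by
    show sigmaE hF (∏ l, g l (j l) (i l)) = ∏ l, sigmaE hF (g l (j l) (i l))
    exact map_prod (sigmaE hF) _ _

theorem adjt_slot {k t : ℕ} (i : Fin t) (a : Matrix (Fin k) (Fin k) F) :
    adjt hF (slot i a) = slot i (adjt hF a) := by
  rw [slot, adjt_pure, slot]
  refine congrArg pure (funext fun j => ?_)
  rcases eq_or_ne j i with rfl | h
  · simp only [Function.update_self]
  · simp only [Function.update_of_ne h, adjt_one]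

theorem adjt_reindex {ι : Type} (e : κ ≃ ι) (X : Matrix κ κ F) :
    adjt hF (Matrix.reindex e e X) = Matrix.reindex e e (adjt hF X) :=
  Matrix.ext fun _ _ => rfl

/-- An invertible matrix that is hermitian up to a scalar is a scalar multiple of a hermitian one. -/
theorem herm_scale [Nonempty κ] (G : GL κ F) {c : F} (hc : adjt hF G.val = c • G.val) :
    ∃ b : F, b ≠ 0 ∧ adjt hF (b • G.val) = b • G.val := by
  set σ := sigmaE hF
  have hcc : σ c * c = 1 := by
    have h1 := congrArg (adjt hF) hc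
    rw [adjt_adjt, adjt_smul, hc, smul_smul] at h1
    by_contra hne
    have h2 : (1 - σ c * c) • G.val = 0 := by rw [sub_smul, one_smul, ← h1, sub_self]
    exact G.ne_zero ((smul_eq_zero.1 h2).resolve_left (sub_ne_zero.2 (Ne.symm hne)))
  obtain ⟨w, hw⟩ : ∃ w : F, σ w ≠ w := by
    by_contra h
    push Not at h
    exact sigmaE_ne hF (RingEquiv.ext h)
  obtain ⟨x, hx⟩ : ∃ x : F, x + c * σ x ≠ 0 := by
    by_contra h
    push Not at h
    have h1 := h 1
    rw [map_one, mul_one] at h1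
    refine hw ?_
    linear_combination (σ w) * h1 - h w
  refine ⟨x + c * σ x, hx, ?_⟩
  rw [adjt_smul, hc, smul_smul]
  congr 1
  rw [map_add, map_mul, sigmaE_sigmaE]
  linear_combination x * hcc

end Basic

theorem kron_eq_one {d k : ℕ} (hd : 0 < d) (hk : 0 < k) {a : Matrix (Fin d) (Fin d) F} {b : Matrix (Fin k) (Fin k) F}
    (h : a ⊗ₖ b = 1) : ∃ c : F, c ≠ 0 ∧ a = c • 1 ∧ b = c⁻¹ • 1 := by
  have h00 := congrFun (congrFun h (⟨0, hd⟩, ⟨0, hk⟩)) (⟨0, hd⟩, ⟨0, hk⟩)
  rw [Matrix.kronecker_apply, Matrix.one_apply_eq] at h00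
  set a0 := a ⟨0, hd⟩ ⟨0, hd⟩
  set b0 := b ⟨0, hk⟩ ⟨0, hk⟩
  have ha0 : a0 ≠ 0 := left_ne_zero_of_mul_eq_one h00
  have hb0 : b0 ≠ 0 := right_ne_zero_of_mul_eq_one h00
  refine ⟨a0, ha0, Matrix.ext fun i j => ?_, Matrix.ext fun i j => ?_⟩
  · have e := congrFun (congrFun h (i, ⟨0, hk⟩)) (j, ⟨0, hk⟩)
    rw [Matrix.kronecker_apply] at e
    rw [Matrix.smul_apply, smul_eq_mul]
    by_cases hij : i = j
    · subst hij
      rw [Matrix.one_apply_eq] at e
      rw [Matrix.one_apply_eq, mul_one]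
      exact mul_right_cancel₀ hb0 (e.trans h00.symm)
    · rw [Matrix.one_apply_ne (by simp [hij])] at e
      rw [Matrix.one_apply_ne hij, mul_zero]
      exact (mul_eq_zero.1 e).resolve_right hb0
  · have e := congrFun (congrFun h (⟨0, hd⟩, i)) (⟨0, hd⟩, j)
    rw [Matrix.kronecker_apply] at e
    rw [Matrix.smul_apply, smul_eq_mul]
    by_cases hij : i = j
    · subst hij
      rw [Matrix.one_apply_eq] at e
      rw [Matrix.one_apply_eq, mul_one]
      exact eq_inv_of_mul_eq_one_right e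
    · rw [Matrix.one_apply_ne (by simp [hij])] at e
      rw [Matrix.one_apply_ne hij, mul_zero]
      exact (mul_eq_zero.1 e).resolve_left ha0

theorem pure_eq_one {k t : ℕ} (hk : 0 < k) {g : Fin t → Matrix (Fin k) (Fin k) F} (h : pure g = 1) (i : Fin t) :
    ∃ c : F, g i = c • 1 := by
  classical
  let o : Fin k := ⟨0, hk⟩
  have h00 := congrFun (congrFun h fun _ => o) fun _ => o
  simp only [pure, Matrix.of_apply, Matrix.one_apply_eq] at h00
  have hall : ∀ j, g j o o ≠ 0 := fun j hj => by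
    rw [Finset.prod_eq_zero (Finset.mem_univ j) hj] at h00
    exact zero_ne_one h00
  have hrest : (∏ j ∈ Finset.univ.erase i, g j o o) ≠ 0 := Finset.prod_ne_zero_iff.2 fun j _ => hall j
  refine ⟨g i o o, Matrix.ext fun u v => ?_⟩
  have e := congrFun (congrFun h (Function.update (fun _ => o) i u)) (Function.update (fun _ => o) i v)
  simp only [pure, Matrix.of_apply] at e
  rw [← Finset.mul_prod_erase _ _ (Finset.mem_univ i), Function.update_self, Function.update_self,
    Finset.prod_congr rfl fun j hj => by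
      rw [Function.update_of_ne (Finset.ne_of_mem_erase hj), Function.update_of_ne (Finset.ne_of_mem_erase hj)]] at e
  rw [← Finset.mul_prod_erase _ _ (Finset.mem_univ i)] at h00
  rw [Matrix.smul_apply, smul_eq_mul]
  by_cases huv : u = v
  · subst huv
    rw [Matrix.one_apply_eq] at e
    rw [Matrix.one_apply_eq, mul_one]
    exact mul_right_cancel₀ hrest (e.trans h00.symm)
  · rw [Matrix.one_apply_ne (fun hh => huv (by simpa using congrFun hh i))] at e
    rw [Matrix.one_apply_ne huv, mul_zero]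
    exact (mul_eq_zero.1 e).resolve_right hrest

theorem pure_smul {k t : ℕ} (b : Fin t → F) (g : Fin t → Matrix (Fin k) (Fin k) F) :
    pure (fun i => b i • g i) = (∏ i, b i) • pure g := by
  refine Matrix.ext fun x y => ?_
  simp [pure, Finset.prod_mul_distrib]

section Change

variable {κ : Type} [Fintype κ] [DecidableEq κ]

/-- An invertible matrix `P` with `P* P` pulled back from the tensor index set. -/
noncomputable def gramGL (e : Fin n ≃ κ) (P : GL (Fin n) F) : GL κ F :=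
  glReindex (ι := κ) e (adjGL hF P * P)

theorem gramGL_val (e : Fin n ≃ κ) (P : GL (Fin n) F) :
    (gramGL hF e P).val = Matrix.reindex e e (adjt hF P.val * P.val) := rfl

theorem gramGL_herm (e : Fin n ≃ κ) (P : GL (Fin n) F) : adjt hF (gramGL hF e P).val = (gramGL hF e P).val := by
  rw [gramGL_val, adjt_reindex, adjt_mul, adjt_adjt]

theorem gramGL_conj (e : Fin n ≃ κ) (P : GL (Fin n) F) {X X' : Matrix κ κ F}
    (h : adjt hF (P.val * Matrix.reindexAlgEquiv F F e.symm X * (P⁻¹).val) =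
      P.val * Matrix.reindexAlgEquiv F F e.symm X' * (P⁻¹).val) :
    adjt hF X * (gramGL hF e P).val = (gramGL hF e P).val * X' := by
  rw [adjt_mul, adjt_mul, Matrix.reindexAlgEquiv_apply, adjt_reindex, ← Matrix.reindexAlgEquiv_apply F F,
    Matrix.reindexAlgEquiv_apply F F e.symm X'] at h
  rw [Matrix.reindexAlgEquiv_apply, ← Matrix.reindexAlgEquiv_apply F F e.symm (adjt hF X)] at h
  set Z := Matrix.reindexAlgEquiv F F e.symm (adjt hF X)
  set Z' := Matrix.reindex e.symm e.symm X' with hZ'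
  have h1 := congrArg (fun M => adjt hF P.val * M * P.val) h
  simp only [← mul_assoc, ← adjt_mul, Units.inv_mul, adjt_one, one_mul] at h1
  rw [mul_assoc _ (P⁻¹).val, Units.inv_mul, mul_one, mul_assoc Z] at h1
  have h2 := congrArg (Matrix.reindexAlgEquiv F F e) h1
  simp only [map_mul] at h2
  have hb : ∀ M : Matrix κ κ F, Matrix.reindexAlgEquiv F F e (Matrix.reindexAlgEquiv F F e.symm M) = M := fun M =>
    Matrix.ext fun i j => by simp
  rw [hZ', ← Matrix.reindexAlgEquiv_apply F F e.symm X', hb, hb, ← map_mul] at h2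
  rw [gramGL_val, ← Matrix.reindexAlgEquiv_apply F F e]
  exact h2

theorem conj_sub_le {G : Type*} [Group G] {S : Subgroup G} {P P' K : G} (hK : K ∈ S) (hP : P = P' * K) :
    S.map (MulAut.conj P).toMonoidHom ≤ S.map (MulAut.conj P').toMonoidHom := by
  rintro _ ⟨s, hs, rfl⟩
  refine ⟨K * s * K⁻¹, S.mul_mem (S.mul_mem hK hs) (S.inv_mem hK), ?_⟩
  subst hP
  simp [mul_assoc]

theorem unitary_of_gram (e : Fin n ≃ κ) (P : GL (Fin n) F) (Q : GL κ F)
    (hQ : (gramGL hF e P).val = adjt hF Q.val * Q.val) :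
    ∃ P' ∈ Cfsg.GU n F q, P = P' * glReindex e.symm Q := by
  refine ⟨P * (glReindex e.symm Q)⁻¹, ?_, (inv_mul_cancel_right _ _).symm⟩
  rw [mem_GU_iff hF, Units.val_mul, adjt_mul]
  have h1 : adjt hF P.val * P.val = adjt hF (glReindex e.symm Q).val * (glReindex e.symm Q).val := by
    have h2 := congrArg (Matrix.reindexAlgEquiv F F e.symm) hQ
    rw [map_mul] at h2
    rw [gramGL_val] at h2
    simp only [Matrix.reindexAlgEquiv_apply] at h2
    rw [← adjt_reindex] at h2
    simpa [glReindex] using h2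
  set W := glReindex e.symm Q
  calc adjt hF (W⁻¹).val * adjt hF P.val * (P.val * (W⁻¹).val)
      = adjt hF (W⁻¹).val * (adjt hF P.val * P.val) * (W⁻¹).val := by simp only [Matrix.mul_assoc]
    _ = adjt hF (W.val * (W⁻¹).val) * (W.val * (W⁻¹).val) := by
        rw [h1, adjt_mul]; simp only [Matrix.mul_assoc]
    _ = 1 := by rw [Units.mul_inv, adjt_one, one_mul]

theorem form_std (e : Fin n ≃ κ) {P : GL (Fin n) F} (hP : P ∈ Cfsg.GU n F q) (x y : κ → F) :
    Cfsg.hermForm n F q (P.val *ᵥ (x ∘ e)) (P.val *ᵥ (y ∘ e)) = ∑ a, x a * y a ^ q :=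
  (hP (x ∘ e) (y ∘ e)).trans (Equiv.sum_comp e fun a => x a * y a ^ q)

end Change

theorem gram_std (hF : Fintype.card F = q ^ 2) (d : ℕ) :
    gramMatrix (Cfsg.hermForm d F q) = (1 : Matrix (Fin d) (Fin d) F) := gram_herm hF

theorem herm_pow (hF : Fintype.card F = q ^ 2) (d : ℕ) : IsUnitaryFormPow q (Cfsg.hermForm d F q) where
  add_left := (herm_unitary hF).add_left
  smul_left := (herm_unitary hF).smul_left
  herm := fun v w => by rw [(herm_unitary hF).herm, sigmaE_apply]
  nondegenerate := (herm_unitary hF).nondegenerate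

/-- An orthonormal basis adapted to a tensor decomposition whose first factor is closed under adjoints. -/
theorem tensor_unitary {d k : ℕ} (hd : 0 < d) (hk : 0 < k) (e : Fin n ≃ Fin d × Fin k) (P : GL (Fin n) F)
    (hst : ∀ a : Matrix (Fin d) (Fin d) F, ∃ a',
      adjt hF (P.val * Matrix.reindexAlgEquiv F F e.symm (a ⊗ₖ (1 : Matrix (Fin k) (Fin k) F)) * (P⁻¹).val) =
        P.val * Matrix.reindexAlgEquiv F F e.symm (a' ⊗ₖ 1) * (P⁻¹).val) :
    ∃ P' ∈ Cfsg.GU n F q, tensorProductSubgroup d k e P ≤ tensorProductSubgroup d k e P' := by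
  classical
  set Y := gramGL hF e P with hY
  obtain ⟨G₁, G₂, hG⟩ := kron_split hd hk Y (fun a => by
    obtain ⟨a', ha'⟩ := hst (adjt hF a)
    have h := gramGL_conj hF e P ha'
    rw [adjt_kron, adjt_adjt, adjt_one] at h
    exact ⟨a', h⟩)
  haveI : Nonempty (Fin d) := ⟨⟨0, hd⟩⟩
  haveI : Nonempty (Fin k) := ⟨⟨0, hk⟩⟩
  have hh := gramGL_herm hF e P
  rw [← hY, hG, adjt_kron] at hh
  obtain ⟨c, hc0, hc1, hc2⟩ := kron_eq_one hd hk (a := (G₁⁻¹).val * adjt hF G₁.val)
    (b := (G₂⁻¹).val * adjt hF G₂.val) (by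
      rw [Matrix.mul_kronecker_mul, hh, ← Matrix.mul_kronecker_mul, Units.inv_mul, Units.inv_mul,
        Matrix.one_kronecker_one])
  have hc1' : adjt hF G₁.val = c • G₁.val := by
    have := congrArg (G₁.val * ·) hc1
    simpa [← mul_assoc] using this
  have hc2' : adjt hF G₂.val = c⁻¹ • G₂.val := by
    have := congrArg (G₂.val * ·) hc2
    simpa [← mul_assoc] using this
  obtain ⟨b, hb0, hb⟩ := herm_scale hF G₁ hc1'
  obtain ⟨Q₁, hQ₁⟩ := exists_sqrt hF hb ((Matrix.isUnit_iff_isUnit_det _).2 (by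
    rw [Matrix.det_smul]
    exact ((IsUnit.mk0 b hb0).pow _).mul (G₁.isUnit.map Matrix.detMonoidHom)))
  have hb2 : adjt hF (b⁻¹ • G₂.val) = b⁻¹ • G₂.val := by
    have hbc : sigmaE hF b * c = b := by
      have h := hb
      rw [adjt_smul, hc1', smul_smul] at h
      exact smul_left_injective F G₁.ne_zero h
    rw [adjt_smul, hc2', smul_smul]
    congr 1
    rw [map_inv₀, ← mul_inv, hbc]
  obtain ⟨Q₂, hQ₂⟩ := exists_sqrt hF hb2 ((Matrix.isUnit_iff_isUnit_det _).2 (by
    rw [Matrix.det_smul]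
    exact ((IsUnit.mk0 _ (inv_ne_zero hb0)).pow _).mul (G₂.isUnit.map Matrix.detMonoidHom)))
  let Q : GL (Fin d × Fin k) F :=
    ⟨Q₁.val ⊗ₖ Q₂.val, (Q₁⁻¹).val ⊗ₖ (Q₂⁻¹).val,
      by rw [← Matrix.mul_kronecker_mul, Units.mul_inv, Units.mul_inv, Matrix.one_kronecker_one],
      by rw [← Matrix.mul_kronecker_mul, Units.inv_mul, Units.inv_mul, Matrix.one_kronecker_one]⟩
  obtain ⟨P', hP', hPP'⟩ := unitary_of_gram hF e P Q (by
    rw [← hY, hG]
    show _ = adjt hF (Q₁.val ⊗ₖ Q₂.val) * (Q₁.val ⊗ₖ Q₂.val)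
    rw [adjt_kron, ← Matrix.mul_kronecker_mul, hQ₁, hQ₂, Matrix.smul_kronecker, Matrix.kronecker_smul,
      smul_smul, mul_inv_cancel₀ hb0, one_smul])
  exact ⟨P', hP', conj_sub_le (K := glReindex e.symm Q) ⟨Q, ⟨Q₁, Q₂, rfl⟩, rfl⟩ hPP'⟩

/-- An orthonormal basis adapted to a tensor power whose factors are closed under adjoints. -/
theorem power_unitary {k t : ℕ} (hk : 0 < k) (ht : 0 < t) (e : Fin n ≃ (Fin t → Fin k)) (P : GL (Fin n) F)
    (hst : ∀ (i : Fin t) (a : Matrix (Fin k) (Fin k) F), ∃ a',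
      adjt hF (P.val * Matrix.reindexAlgEquiv F F e.symm (slot i a) * (P⁻¹).val) =
        P.val * Matrix.reindexAlgEquiv F F e.symm (slot i a') * (P⁻¹).val) :
    ∃ P' ∈ Cfsg.GU n F q, tensorWreathSubgroup k t e P ≤ tensorWreathSubgroup k t e P' := by
  classical
  set Y := gramGL hF e P with hY
  obtain ⟨c, G, hc0, hG⟩ := slot_split hk Y (fun i a => by
    obtain ⟨a', ha'⟩ := hst i (adjt hF a)
    have h := gramGL_conj hF e P ha'
    rw [adjt_slot, adjt_adjt] at h
    exact ⟨a', h⟩)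
  haveI : Nonempty (Fin k) := ⟨⟨0, hk⟩⟩
  have hh := gramGL_herm hF e P
  rw [← hY, hG, adjt_smul, adjt_pure] at hh
  have hscal : pure (fun i => ((G i)⁻¹).val * adjt hF (G i).val) = ((sigmaE hF c)⁻¹ * c) • 1 := by
    have hσc : sigmaE hF c ≠ 0 := (map_ne_zero (sigmaE hF)).2 hc0
    rw [← pure_mul]
    have h1 : pure (fun i => adjt hF (G i).val) = ((sigmaE hF c)⁻¹ * c) • pure fun i => (G i).val := by
      rw [mul_smul, ← hh, smul_smul, inv_mul_cancel₀ hσc, one_smul]
    rw [h1, mul_smul_comm, (pure_isUnit (g := G)).2]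
  have hone : ∀ i, ∃ ci : F, adjt hF (G i).val = ci • (G i).val := by
    intro i
    set d := (sigmaE hF c)⁻¹ * c
    have hd0 : d ≠ 0 := mul_ne_zero (inv_ne_zero ((map_ne_zero (sigmaE hF)).2 hc0)) hc0
    obtain ⟨ci, hci⟩ := pure_eq_one hk (g := Function.update (fun j => ((G j)⁻¹).val * adjt hF (G j).val) i
      (d⁻¹ • (((G i)⁻¹).val * adjt hF (G i).val))) (by
      rw [pure_update_smul, Function.update_eq_self, hscal, smul_smul, inv_mul_cancel₀ hd0, one_smul]) i
    rw [Function.update_self] at hci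
    refine ⟨d * ci, ?_⟩
    have := congrArg (fun M => d • ((G i).val * M)) hci
    simpa [mul_smul_comm, smul_smul, ← mul_assoc, hd0] using this
  choose ci hci using hone
  have hb : ∀ i, ∃ b : F, b ≠ 0 ∧ adjt hF (b • (G i).val) = b • (G i).val := fun i => herm_scale hF (G i) (hci i)
  choose b hb0 hbh using hb
  set c' := c * (∏ i, b i)⁻¹ with hc'
  have hprod : (∏ i, b i) ≠ 0 := Finset.prod_ne_zero_iff.2 fun i _ => hb0 i
  have hY' : Y.val = c' • pure (fun i => b i • (G i).val) := by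
    rw [hG, pure_smul, smul_smul, hc', mul_assoc, inv_mul_cancel₀ hprod, mul_one]
  haveI : Nonempty (Fin t → Fin k) := ⟨fun _ => ⟨0, hk⟩⟩
  have hσ' : sigmaE hF c' = c' := by
    have h := gramGL_herm hF e P
    rw [← hY, hY', adjt_smul, adjt_pure] at h
    simp only [hbh] at h
    refine smul_left_injective F (fun h0 => Y.ne_zero ?_) h
    rw [hY', h0, smul_zero]
  have hc'0 : c' ≠ 0 := mul_ne_zero hc0 (inv_ne_zero hprod)
  let i0 : Fin t := ⟨0, ht⟩
  let A : Fin t → Matrix (Fin k) (Fin k) F :=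
    Function.update (fun i => b i • (G i).val) i0 (c' • b i0 • (G i0).val)
  have hA : Y.val = pure A := by
    rw [pure_update_smul, Function.update_eq_self, hY']
  have hAu : ∀ i, adjt hF (A i) = A i ∧ IsUnit (A i) := by
    intro i
    rcases eq_or_ne i i0 with rfl | h
    · simp only [A, Function.update_self]
      refine ⟨by rw [adjt_smul, hσ', hbh], (Matrix.isUnit_iff_isUnit_det _).2 ?_⟩
      rw [Matrix.det_smul, Matrix.det_smul]
      exact ((IsUnit.mk0 _ hc'0).pow _).mul (((IsUnit.mk0 _ (hb0 _)).pow _).mul ((G _).isUnit.map Matrix.detMonoidHom))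
    · simp only [A, Function.update_of_ne h]
      refine ⟨hbh i, (Matrix.isUnit_iff_isUnit_det _).2 ?_⟩
      rw [Matrix.det_smul]
      exact ((IsUnit.mk0 _ (hb0 _)).pow _).mul ((G _).isUnit.map Matrix.detMonoidHom)
  choose Qs hQs using fun i => exists_sqrt hF (hAu i).1 (hAu i).2
  obtain ⟨P', hP', hPP'⟩ := unitary_of_gram hF e P (pureGL Qs) (by
    rw [← hY, hA]
    show _ = adjt hF (pure fun i => (Qs i).val) * pure fun i => (Qs i).val
    rw [adjt_pure, pure_mul]
    exact congrArg pure (funext fun i => (hQs i).symm))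
  refine ⟨P', hP', conj_sub_le (K := glReindex e.symm (pureGL Qs)) ⟨pureGL Qs, ?_, rfl⟩ hPP'⟩
  exact Subgroup.subset_closure (Or.inl ⟨Qs, fun x y => rfl⟩)

theorem isTensorFormStructure_std (hF : Fintype.card F = q ^ 2) {d k : ℕ} (e : Fin n ≃ Fin d × Fin k)
    {P : GL (Fin n) F} (hP : P ∈ Cfsg.GU n F q) :
    IsTensorFormStructure (fun x : F => x ^ q) (Cfsg.hermForm n F q) (Cfsg.hermForm d F q)
      (Cfsg.hermForm k F q) e P := by
  refine ⟨1, one_ne_zero, fun x y => ?_⟩
  rw [form_std e hP, one_mul, gram_std hF, gram_std hF, Matrix.one_kronecker_one]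
  simp [formOfGram, Matrix.one_apply]

theorem isTensorPowerFormStructure_std (hF : Fintype.card F = q ^ 2) {k t : ℕ} (e : Fin n ≃ (Fin t → Fin k))
    {P : GL (Fin n) F} (hP : P ∈ Cfsg.GU n F q) :
    IsTensorPowerFormStructure (fun x : F => x ^ q) (Cfsg.hermForm n F q) (Cfsg.hermForm k F q) e P := by
  refine ⟨1, one_ne_zero, fun x y => ?_⟩
  rw [form_std e hP, one_mul, gram_std hF]
  have h1 : ∀ a b : Fin t → Fin k, (∏ i, (1 : Matrix (Fin k) (Fin k) F) (a i) (b i)) =
      (1 : Matrix (Fin t → Fin k) (Fin t → Fin k) F) a b := fun a b =>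
    congrFun (congrFun (pure_one (F := F)) a) b
  simp only [h1]
  simp [Matrix.one_apply]

/-- The factors of a tensor decomposition can be exchanged. -/
theorem tensorProduct_swap {d k : ℕ} (e : Fin n ≃ Fin d × Fin k) (P : GL (Fin n) F) :
    tensorProductSubgroup d k e P ≤ tensorProductSubgroup k d (e.trans (Equiv.prodComm _ _)) P := by
  refine Subgroup.map_mono ?_
  rintro _ ⟨g, ⟨a, b, hab⟩, rfl⟩
  let g' : GL (Fin k × Fin d) F :=
    ⟨b.val ⊗ₖ a.val, (b⁻¹).val ⊗ₖ (a⁻¹).val,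
      by rw [← Matrix.mul_kronecker_mul, Units.mul_inv, Units.mul_inv, Matrix.one_kronecker_one],
      by rw [← Matrix.mul_kronecker_mul, Units.inv_mul, Units.inv_mul, Matrix.one_kronecker_one]⟩
  refine ⟨g', ⟨b, a, rfl⟩, Units.ext (Matrix.ext fun i j => ?_)⟩
  show (b.val ⊗ₖ a.val) _ _ = g.val _ _
  rw [hab]
  simp [mul_comm]

/-- A decomposition into two equal factors is a tensor square. -/
theorem tensorProduct_le_wreath {d : ℕ} (e : Fin n ≃ Fin d × Fin d) (P : GL (Fin n) F) :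
    tensorProductSubgroup d d e P ≤ tensorWreathSubgroup d 2 (e.trans (finTwoArrowEquiv (Fin d)).symm) P := by
  refine Subgroup.map_mono ?_
  rintro _ ⟨g, ⟨a, b, hab⟩, rfl⟩
  refine ⟨pureGL ![a, b], Subgroup.subset_closure (Or.inl ⟨![a, b], fun x y => rfl⟩),
    Units.ext (Matrix.ext fun i j => ?_)⟩
  show pure (fun i => (![a, b] i).val) _ _ = g.val _ _
  rw [hab]
  simp [pure, Fin.prod_univ_two]

end Cfsg.Lib.Linear.AschU
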